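import Cfsg.Agent.M12Cent.Concrete

/-!
The numbers of elements of each order in the Mathieu group of degree twelve.
-/

set_option autoImplicit false
set_option linter.unusedSectionVars false
set_option linter.style.haveILetI false
set_option maxRecDepth 100000
set_option maxHeartbeats 1000000

namespace Cfsg.Lib.M12Nse

open Subgroup Cfsg.Lib.PermCert Cfsg.Lib.Golay Cfsg.Lib.M12Cent

/-- the word of the element with prescribed images of the base -/
def recon : List Level → (ℕ → ℕ) → Option (List PP)
  | [], _ => some []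
  | L :: r, f =>
    match L.tr.find? (fun e => e.1 == f L.b) with
    | some e => (recon r fun x => ap e.2.1.2 (f x)).map (e.2.1 :: ·)
    | none => none

theorem grp_tail_le {n : ℕ} {L : Level} {r : List Level} (h : check n (L :: r) = true) :
    grp n r ≤ grp n (L :: r) := by
  simp only [check, Bool.and_eq_true] at h
  apply (closure_le _).mpr
  rintro g ⟨s, hs, rfl⟩
  exact perm_mem_grp (c := L :: r) ((levelOK h.1).down s hs).1

theorem recon_mem {n : ℕ} : ∀ {c : List Level}, check n c = true → ∀ {f : ℕ → ℕ} {w : List PP},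
    recon c f = some w → (∀ g ∈ w, valid n g = true) ∧ wperm n w ∈ grp n c := by
  intro c
  induction c with
  | nil =>
    intro _ f w h
    cases h
    exact ⟨by simp, by simp⟩
  | cons L r ih =>
    intro hc f w h
    have hc' := hc
    simp only [check, Bool.and_eq_true] at hc'
    have ok := levelOK hc'.1
    simp only [recon] at h
    split at h
    · next e he =>
      have hm := List.mem_of_find?_eq_some he
      obtain ⟨v, hv, rfl⟩ := Option.map_eq_some_iff.1 h
      obtain ⟨h1, h2⟩ := ih hc'.2 hv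
      refine ⟨fun g hg => ?_, ?_⟩
      · rcases List.mem_cons.mp hg with rfl | hg
        · exact (tree_entry ok.tree hm).1
        · exact h1 g hg
      · rw [wperm_cons]
        exact mul_mem (tree_mem ok.tree ok.gens_valid _ (fun s hs => perm_mem_grp (c := L :: r) hs) e hm)
          (grp_tail_le hc h2)
    · cases h

theorem recon_spec {n : ℕ} : ∀ {c : List Level}, check n c = true → ∀ {y : Equiv.Perm (Fin n)},
    y ∈ grp n c → ∀ {f : ℕ → ℕ}, (∀ L ∈ c, ∀ h : L.b < n, f L.b = (y ⟨L.b, h⟩ : ℕ)) →
    ∃ w, recon c f = some w ∧ wperm n w = y := by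
  intro c
  induction c with
  | nil =>
    intro _ y hy f _
    refine ⟨[], rfl, ?_⟩
    simp [grp, topGens] at hy
    simp [hy]
  | cons L r ih =>
    intro hc y hy f hf
    have hc' := hc
    simp only [check, Bool.and_eq_true] at hc'
    have ok := levelOK hc'.1
    have hy' : y ∈ prodSet n (L :: r) := by rw [(chain_spec hc).1]; exact hy
    obtain ⟨e, he, v, hv, rfl⟩ := hy'
    rw [(chain_spec hc'.2).1] at hv
    obtain ⟨hev, heb⟩ := tree_entry ok.tree he
    have hvb : v ⟨L.b, ok.b_lt⟩ = ⟨L.b, ok.b_lt⟩ := by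
      have : grp n r ≤ MulAction.stabilizer (Equiv.Perm (Fin n)) (⟨L.b, ok.b_lt⟩ : Fin n) := by
        apply (closure_le _).mpr
        rintro g ⟨s, hs, rfl⟩
        simp only [SetLike.mem_coe, MulAction.mem_stabilizer_iff, Equiv.Perm.smul_def]
        apply Fin.ext
        rw [perm_apply (ok.gens_valid s (ok.down s hs).1)]
        exact (ok.down s hs).2
      exact MulAction.mem_stabilizer_iff.mp (this hv)
    have hfb : f L.b = e.1 := by
      rw [hf L List.mem_cons_self ok.b_lt, Equiv.Perm.mul_apply, hvb, perm_apply hev, heb]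
    have hfind : L.tr.find? (fun e' => e'.1 == f L.b) = some e := by
      cases h : L.tr.find? (fun e' => e'.1 == f L.b) with
      | none => exact absurd (List.find?_eq_none.1 h e he) (by simp [hfb])
      | some e' =>
        exact congrArg some (List.inj_on_of_nodup_map ok.nodup (List.mem_of_find?_eq_some h) he
          ((by simpa using List.find?_some h : e'.1 = f L.b).trans hfb))
    obtain ⟨w, hw, hwv⟩ := ih hc'.2 hv (f := fun x => ap e.2.1.2 (f x)) fun L' hL' h => by
      rw [hf L' (List.mem_cons_of_mem _ hL') h]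
      show ap (pinv e.2.1).1 ((perm n e.2.1 * v) ⟨L'.b, h⟩ : ℕ) = _
      rw [← perm_apply (valid_pinv hev), perm_pinv hev]
      simp
    exact ⟨e.2.1 :: w, by simp only [recon, hfind, hw, Option.map_some], by rw [wperm_cons, hwv]⟩

/-- the twelve points -/
def orb : List ℕ := [0, 13, 16, 1, 8, 9, 12, 4, 3, 2, 6, 18]

theorem orb_props : (topGens m12Chain).all (fun s => orb.all fun a => orb.contains (ap s.1 a)) = true ∧
    orb.all (fun a => decide (a < 24)) = true ∧ m12Chain.map (·.b) = [0, 1, 2, 3, 4] := by decide +kernel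

theorem orb_stable {g : Equiv.Perm (Fin 24)} (hg : g ∈ X12) : ∀ a : Fin 24, (a : ℕ) ∈ orb → (g a : ℕ) ∈ orb := by
  have hg' : g ∈ (grp 24 m12Chain).toSubmonoid := hg
  simp only [grp, Subgroup.closure_toSubmonoid_of_finite] at hg'
  induction hg' using Submonoid.closure_induction_left with
  | one => exact fun a h => h
  | mul_left x hx y hy ih =>
    obtain ⟨s, hs, rfl⟩ := hx
    intro a ha
    rw [Equiv.Perm.mul_apply]
    have hsv : valid 24 s = true := (levelOK (by
      have := m12Chain_check
      simp only [m12Chain, check, Bool.and_eq_true] at this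
      exact this.1)).gens_valid _ hs
    rw [perm_apply hsv]
    have h1 := List.all_eq_true.1 (List.all_eq_true.1 orb_props.1 s hs) _ (ih (by
      show y ∈ (grp 24 m12Chain).toSubmonoid
      rw [grp, Subgroup.closure_toSubmonoid_of_finite]
      exact hy) a ha)
    simpa using h1

/-- iterate of a word -/
def itW (w : List PP) (k x : ℕ) : ℕ := (evalWord w)^[k] x

theorem itW_eq {w : List PP} (hw : ∀ g ∈ w, valid 24 g = true) (k : ℕ) (x : Fin 24) :
    ((wperm 24 w ^ k) x : ℕ) = itW w k x := by
  induction k with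
  | zero => rfl
  | succ k ih => rw [pow_succ', Equiv.Perm.mul_apply, wperm_apply hw, ih]; simp only [itW, Function.iterate_succ_apply']

/-- a class representative: order, centraliser order, images of the base, cycle points and cover of the base -/
structure Row where
  o : ℕ
  c : ℕ
  img : List ℕ
  ps : List ℕ
  cov : List (ℕ × ℕ)
deriving DecidableEq

/-- the classes other than the trivial one -/
def rows : List Row := [⟨2, 240, [1, 0, 3, 2, 8], [0, 2, 4], [(0, 0), (0, 1), (1, 0), (1, 1), (2, 0)]⟩,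
  ⟨2, 192, [0, 2, 1, 4, 3], [0, 1, 3], [(0, 0), (1, 0), (1, 1), (2, 0), (2, 1)]⟩,
  ⟨3, 54, [1, 2, 0, 4, 12], [0, 3], [(0, 0), (0, 1), (0, 2), (1, 0), (1, 1)]⟩,
  ⟨3, 36, [1, 2, 0, 4, 6], [0, 3], [(0, 0), (0, 1), (0, 2), (1, 0), (1, 1)]⟩,
  ⟨4, 32, [0, 2, 3, 4, 1], [0, 1], [(0, 0), (1, 0), (1, 1), (1, 2), (1, 3)]⟩,
  ⟨4, 32, [1, 0, 3, 4, 12], [0, 2], [(0, 0), (0, 1), (1, 0), (1, 1), (1, 2)]⟩,
  ⟨5, 10, [1, 2, 3, 4, 0], [0], [(0, 0), (0, 1), (0, 2), (0, 3), (0, 4)]⟩,
  ⟨6, 12, [1, 2, 3, 4, 9], [0], [(0, 0), (0, 1), (0, 2), (0, 3), (0, 4)]⟩,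
  ⟨6, 6, [1, 2, 3, 4, 12], [0], [(0, 0), (0, 1), (0, 2), (0, 3), (0, 4)]⟩,
  ⟨8, 8, [1, 2, 3, 4, 16], [0], [(0, 0), (0, 1), (0, 2), (0, 3), (0, 4)]⟩,
  ⟨8, 8, [1, 2, 3, 4, 18], [0], [(0, 0), (0, 1), (0, 2), (0, 3), (0, 4)]⟩,
  ⟨10, 10, [1, 2, 3, 4, 6], [0], [(0, 0), (0, 1), (0, 2), (0, 3), (0, 4)]⟩,
  ⟨11, 11, [1, 2, 3, 4, 8], [0], [(0, 0), (0, 1), (0, 2), (0, 3), (0, 4)]⟩,
  ⟨11, 11, [1, 2, 3, 4, 13], [0], [(0, 0), (0, 1), (0, 2), (0, 3), (0, 4)]⟩]

/-- the word of a representative -/
def Row.w (R : Row) : List PP := (recon m12Chain fun i => R.img.getD i 0).getD []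

/-- tuples of points -/
def tuples : ℕ → List (List ℕ)
  | 0 => [[]]
  | r + 1 => orb.flatMap fun a => (tuples r).map (a :: ·)

/-- images of the base of an element carrying one representative to the other -/
def imgs (R R' : Row) (t : List ℕ) (i : ℕ) : ℕ :=
  itW R'.w (R.cov.getD i (0, 0)).2 (t.getD (R.cov.getD i (0, 0)).1 0)

/-- the tuple gives an element carrying one representative to the other -/
def good (R R' : Row) (t : List ℕ) : Bool :=
  match recon m12Chain (imgs R R' t) with
  | some v => FusionCert.same (v ++ R.w) (R'.w ++ v)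
  | none => false

/-- number of good tuples -/
def count (R R' : Row) : ℕ := (tuples R.ps.length).countP (good R R')

/-- validity of a row -/
def rowOK (R : Row) : Bool :=
  (recon m12Chain fun i => R.img.getD i 0).isSome && R.ps.all (fun p => orb.contains p) &&
  (List.range 5).all (fun i => decide ((R.cov.getD i (0, 0)).1 < R.ps.length) &&
    (itW R.w (R.cov.getD i (0, 0)).2 (R.ps.getD (R.cov.getD i (0, 0)).1 0) == i)) &&
  (List.range 24).all (fun x => itW R.w R.o x == x) &&
  (List.range R.o).all (fun k => k == 0 || (List.range 24).any fun x => !(itW R.w k x == x))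

theorem rows_ok : rows.all rowOK = true := by decide +kernel

theorem count_self : rows.all (fun R => decide (count R R ≤ R.c)) = true := by decide +kernel

theorem count_cross : ∀ i j : Fin 14, i ≠ j →
    ((rows[i.val]?.map Row.o) != (rows[j.val]?.map Row.o) ||
      (match rows[i.val]?, rows[j.val]? with | some R, some R' => count R R' == 0 | _, _ => false)) = true := by
  decide +kernel

theorem rows_arith : rows.length = 14 ∧ (rows.map fun R => 95040 / R.c).sum = 95039 ∧
    rows.all (fun R => decide (0 < R.c) && decide (1 < R.o) && decide (R.o < 12) && decide (R.c * (95040 / R.c) = 95040)) = true := by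
  decide +kernel

theorem row_spec {R : Row} (hR : R ∈ rows) :
    (∀ g ∈ R.w, valid 24 g = true) ∧ wperm 24 R.w ∈ X12 ∧
    (∀ i, i < 5 → (R.cov.getD i (0, 0)).1 < R.ps.length ∧
      itW R.w (R.cov.getD i (0, 0)).2 (R.ps.getD (R.cov.getD i (0, 0)).1 0) = i) ∧
    (∀ p ∈ R.ps, p ∈ orb) ∧ (∀ x, x < 24 → itW R.w R.o x = x) ∧
    ∀ k, k < R.o → k ≠ 0 → ∃ x, x < 24 ∧ itW R.w k x ≠ x := by
  have h := List.all_eq_true.1 rows_ok R hR
  simp only [rowOK, Bool.and_eq_true, List.all_eq_true, List.any_eq_true, List.mem_range, decide_eq_true_eq,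
    beq_iff_eq, Bool.or_eq_true, Bool.not_eq_true', beq_eq_false_iff_ne, List.contains_iff_mem] at h
  obtain ⟨⟨⟨⟨h1, h2⟩, h3⟩, h4⟩, h5⟩ := h
  obtain ⟨w, hw⟩ := Option.isSome_iff_exists.1 h1
  have hRw : R.w = w := by simp only [Row.w, hw, Option.getD_some]
  obtain ⟨hv, hm⟩ := recon_mem m12Chain_check hw
  exact ⟨hRw ▸ hv, hRw ▸ hm, h3, h2, h4, fun k hk hk0 => (h5 k hk).resolve_left hk0⟩

/-- the representative of a row -/
noncomputable def el (R : Row) : X12 :=
  if h : R ∈ rows then ⟨wperm 24 R.w, (row_spec h).2.1⟩ else 1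

theorem el_val {R : Row} (hR : R ∈ rows) : (el R : Equiv.Perm (Fin 24)) = wperm 24 R.w := by
  rw [el, dif_pos hR]

theorem order_el {R : Row} (hR : R ∈ rows) : orderOf (el R) = R.o := by
  obtain ⟨hv, -, -, -, h1, h2⟩ := row_spec hR
  have ho : 0 < R.o := by
    have := List.all_eq_true.1 rows_arith.2.2 R hR
    simp only [Bool.and_eq_true, decide_eq_true_eq] at this
    omega
  rw [← Subgroup.orderOf_coe, el_val hR, orderOf_eq_iff ho]
  refine ⟨Equiv.ext fun x => Fin.ext ?_, fun m hm hm0 he => ?_⟩
  · rw [itW_eq hv, h1 x x.isLt]; rfl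
  · obtain ⟨x, hx, hne⟩ := h2 m hm (by omega)
    refine hne ?_
    have := itW_eq hv m ⟨x, hx⟩
    rw [he] at this
    exact this.symm

theorem tuples_mem : ∀ {r : ℕ} {t : List ℕ}, t.length = r → (∀ a ∈ t, a ∈ orb) → t ∈ tuples r
  | 0, t, h, _ => by simp [tuples, List.length_eq_zero_iff.1 h]
  | r + 1, [], h, _ => by simp at h
  | r + 1, a :: t, h, ha => by
    simp only [tuples, List.mem_flatMap, List.mem_map]
    exact ⟨a, ha a List.mem_cons_self, t, tuples_mem (by simpa using h) fun b hb => ha b (List.mem_cons_of_mem _ hb), rfl⟩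

/-- the values of an element at the cycle points -/
noncomputable def tup (R : Row) (y : X12) : List ℕ :=
  R.ps.map fun p => ((y : Equiv.Perm (Fin 24)) (⟨p % 24, Nat.mod_lt _ (by norm_num)⟩ : Fin 24) : ℕ)

theorem imgs_tup {R R' : Row} (hR : R ∈ rows) (hR' : R' ∈ rows) {y : X12} (hy : y * el R = el R' * y) {i : ℕ}
    (hi : i < 5) :
    imgs R R' (tup R y) i = ((y : Equiv.Perm (Fin 24)) ⟨i, by omega⟩ : ℕ) := by
  obtain ⟨hv, -, hc, hps, -, -⟩ := row_spec hR
  obtain ⟨hv', -, -, -, -, -⟩ := row_spec hR'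
  obtain ⟨hj, hk⟩ := hc i hi
  set j := (R.cov.getD i (0, 0)).1
  set k := (R.cov.getD i (0, 0)).2
  have hlt : R.ps.getD j 0 < 24 := by
    have h := hps _ (List.getElem_mem hj)
    rw [List.getD_eq_getElem _ _ hj]
    simpa using List.all_eq_true.1 orb_props.2.1 _ h
  have hpow : (y : Equiv.Perm (Fin 24)) * wperm 24 R.w ^ k = wperm 24 R'.w ^ k * (y : Equiv.Perm (Fin 24)) := by
    have h : SemiconjBy y (el R) (el R') := hy
    have := congrArg Subtype.val ((h.pow_right k).eq)
    simpa [el_val hR, el_val hR'] using this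
  have htj : (tup R y).getD j 0 = ((y : Equiv.Perm (Fin 24)) ⟨R.ps.getD j 0, hlt⟩ : ℕ) := by
    rw [tup, List.getD_eq_getElem _ _ (by simpa using hj), List.getElem_map]
    congr 2
    refine Fin.ext ?_
    show R.ps[j] % 24 = R.ps.getD j 0
    rw [← List.getD_eq_getElem R.ps 0 hj, Nat.mod_eq_of_lt hlt]
  show itW R'.w k ((tup R y).getD j 0) = _
  rw [htj, ← itW_eq hv', ← Equiv.Perm.mul_apply, ← hpow, Equiv.Perm.mul_apply]
  congr 2
  exact Fin.ext (by rw [itW_eq hv]; exact hk)

theorem good_tup {R R' : Row} (hR : R ∈ rows) (hR' : R' ∈ rows) {y : X12} (hy : y * el R = el R' * y) :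
    ∃ w, recon m12Chain (imgs R R' (tup R y)) = some w ∧ wperm 24 w = y := by
  refine recon_spec m12Chain_check y.2 fun L hL h => ?_
  have hb : L.b ∈ m12Chain.map (·.b) := List.mem_map_of_mem hL
  rw [orb_props.2.2] at hb
  have h5 : L.b < 5 := by
    simp only [List.mem_cons, List.not_mem_nil, or_false] at hb
    omega
  exact imgs_tup hR hR' hy h5

theorem card_transporter_le {R R' : Row} (hR : R ∈ rows) (hR' : R' ∈ rows) :
    Nat.card {y : X12 // y * el R = el R' * y} ≤ count R R' := by
  classical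
  let F : {y : X12 // y * el R = el R' * y} → {t // t ∈ ((tuples R.ps.length).filter (good R R')).toFinset} :=
    fun y => ⟨tup R y.1, by
      obtain ⟨v, hv, hvy⟩ := good_tup hR hR' y.2
      rw [List.mem_toFinset, List.mem_filter]
      refine ⟨tuples_mem (by simp [tup]) fun a ha => ?_, ?_⟩
      · obtain ⟨p, hp, rfl⟩ := List.mem_map.1 ha
        refine orb_stable y.1.2 _ ?_
        have hp' := (row_spec hR).2.2.2.1 p hp
        have : p < 24 := by simpa using List.all_eq_true.1 orb_props.2.1 _ hp'
        show p % 24 ∈ orb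
        rwa [Nat.mod_eq_of_lt this]
      · simp only [good, hv]
        refine FusionCert.same_of_eq ?_ ?_ ?_
        · intro g hg
          rcases List.mem_append.1 hg with hg | hg
          exacts [(recon_mem m12Chain_check hv).1 g hg, (row_spec hR).1 g hg]
        · intro g hg
          rcases List.mem_append.1 hg with hg | hg
          exacts [(row_spec hR').1 g hg, (recon_mem m12Chain_check hv).1 g hg]
        · rw [wperm_append, wperm_append, hvy, ← el_val hR, ← el_val hR', ← Subgroup.coe_mul, y.2,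
            Subgroup.coe_mul]⟩
  have hF : Function.Injective F := fun a b h => by
    have ht : tup R a.1 = tup R b.1 := congrArg Subtype.val h
    obtain ⟨v, hv, hva⟩ := good_tup hR hR' a.2
    obtain ⟨v', hv', hvb⟩ := good_tup hR hR' b.2
    rw [ht, hv'] at hv
    cases hv
    exact Subtype.ext (Subtype.ext (hva.symm.trans hvb))
  refine (Nat.card_le_card_of_injective F hF).trans ?_
  rw [Nat.card_eq_fintype_card, Fintype.card_coe]
  exact (List.toFinset_card_le _).trans (le_of_eq List.countP_eq_length_filter.symm)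

/-- the class of a row -/
noncomputable def cls (R : Row) : Finset X12 :=
  letI := Fintype.ofFinite X12
  Finset.univ.image fun y : X12 => y * el R * y⁻¹

theorem mem_cls {R : Row} {g : X12} : g ∈ cls R ↔ ∃ y, y * el R * y⁻¹ = g := by
  simp [cls]

theorem card_cls_ge {R : Row} (hR : R ∈ rows) : 95040 ≤ R.c * (cls R).card := by
  classical
  haveI := Fintype.ofFinite X12
  have hc : count R R ≤ R.c := of_decide_eq_true (List.all_eq_true.1 count_self R hR)
  have h := Finset.card_le_mul_card_image (s := (Finset.univ : Finset X12)) (f := fun y : X12 => y * el R * y⁻¹) R.c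
    fun g hg => by
      obtain ⟨y0, -, rfl⟩ := Finset.mem_image.1 hg
      refine le_trans ?_ ((card_transporter_le hR hR).trans hc)
      rw [Nat.card_eq_fintype_card, ← Fintype.card_coe]
      refine Fintype.card_le_of_injective (fun y => ⟨y0⁻¹ * y.1, ?_⟩) fun a b e => ?_
      · have e := (Finset.mem_filter.1 y.2).2
        have e2 : y.1 * el R = y0 * el R * y0⁻¹ * y.1 := mul_inv_eq_iff_eq_mul.1 e
        rw [mul_assoc, e2]; group
      · exact Subtype.ext (mul_left_cancel (congrArg Subtype.val e))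
  rw [Finset.card_univ, ← Nat.card_eq_fintype_card, card_X12] at h
  convert h using 3
  ext g
  simp [cls]

theorem cls_disjoint {R R' : Row} (hR : R ∈ rows) (hR' : R' ∈ rows) (hne : R ≠ R') : Disjoint (cls R) (cls R') := by
  rw [Finset.disjoint_left]
  intro g hg hg'
  obtain ⟨y, rfl⟩ := mem_cls.1 hg
  obtain ⟨z, hz⟩ := mem_cls.1 hg'
  obtain ⟨i, hi, hri⟩ := List.getElem_of_mem hR
  obtain ⟨j, hj, hrj⟩ := List.getElem_of_mem hR'
  have hij : (⟨i, rows_arith.1 ▸ hi⟩ : Fin 14) ≠ ⟨j, rows_arith.1 ▸ hj⟩ := fun e => hne (by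
    have : i = j := congrArg Fin.val e
    subst this
    exact hri.symm.trans hrj)
  have hcross := count_cross _ _ hij
  simp only [List.getElem?_eq_getElem hi, List.getElem?_eq_getElem hj, hri, hrj, Option.map_some, Bool.or_eq_true,
    bne_iff_ne, ne_eq, Option.some.injEq, beq_iff_eq] at hcross
  rcases hcross with h | h
  · refine h ?_
    rw [← order_el hR, ← order_el hR']
    have e1 := MulEquiv.orderOf_eq (MulAut.conj y) (el R)
    have e2 := MulEquiv.orderOf_eq (MulAut.conj z) (el R')
    simp only [MulAut.conj_apply] at e1 e2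
    rw [← e1, ← e2, hz]
  · have hpos : 0 < Nat.card {x : X12 // x * el R = el R' * x} := by
      haveI : Nonempty {x : X12 // x * el R = el R' * x} := ⟨⟨z⁻¹ * y, by
        calc z⁻¹ * y * el R = z⁻¹ * (y * el R * y⁻¹) * y := by group
          _ = z⁻¹ * (z * el R' * z⁻¹) * y := by rw [hz]
          _ = _ := by group⟩⟩
      exact Nat.card_pos
    have := card_transporter_le hR hR'
    omega

theorem order_cls {R : Row} (hR : R ∈ rows) {g : X12} (hg : g ∈ cls R) : orderOf g = R.o := by
  obtain ⟨y, rfl⟩ := mem_cls.1 hg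
  rw [← order_el hR]
  exact MulEquiv.orderOf_eq (MulAut.conj y) (el R)

theorem rows_nodup : rows.Nodup := by decide +kernel

/-- the number of elements of each order -/
def counts (n : ℕ) : ℕ :=
  (if n = 1 then 1 else 0) + ((rows.filter fun R => R.o == n).map fun R => 95040 / R.c).sum

theorem card_order_X12 (n : ℕ) : Nat.card {g : X12 // orderOf g = n} = counts n := by
  classical
  haveI := Fintype.ofFinite X12
  set D := (rows.toFinset).biUnion cls with hD
  have hdis : ∀ s : Finset Row, s ⊆ rows.toFinset → (s : Set Row).PairwiseDisjoint cls := fun s hs R hR R' hR' hne =>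
    cls_disjoint (List.mem_toFinset.1 (hs hR)) (List.mem_toFinset.1 (hs hR')) hne
  have harith : ∀ R ∈ rows, 0 < R.c ∧ 1 < R.o ∧ R.c * (95040 / R.c) = 95040 := fun R hR => by
    have := List.all_eq_true.1 rows_arith.2.2 R hR
    simp only [Bool.and_eq_true, decide_eq_true_eq] at this
    exact ⟨this.1.1.1, this.1.1.2, this.2⟩
  have hle : ∀ R ∈ rows.toFinset, 95040 / R.c ≤ (cls R).card := fun R hR => by
    obtain ⟨hc, -, -⟩ := harith R (List.mem_toFinset.1 hR)
    exact Nat.div_le_of_le_mul (card_cls_ge (List.mem_toFinset.1 hR))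
  have hsum : (∑ R ∈ rows.toFinset, 95040 / R.c) = 95039 := by
    rw [List.sum_toFinset _ rows_nodup]; exact rows_arith.2.1
  have h1 : (1 : X12) ∉ D := fun h => by
    obtain ⟨R, hR, hg⟩ := Finset.mem_biUnion.1 h
    have := order_cls (List.mem_toFinset.1 hR) hg
    rw [orderOf_one] at this
    have := (harith R (List.mem_toFinset.1 hR)).2.1
    omega
  have hcardD : D.card = ∑ R ∈ rows.toFinset, (cls R).card := Finset.card_biUnion (hdis _ le_rfl)
  have hDle : D.card + 1 ≤ 95040 := by
    rw [← Finset.card_insert_of_notMem h1, ← card_X12, Nat.card_eq_fintype_card]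
    exact Finset.card_le_univ _
  have hge : 95039 ≤ D.card := by rw [hcardD, ← hsum]; exact Finset.sum_le_sum hle
  have heq : ∀ R ∈ rows.toFinset, 95040 / R.c = (cls R).card := by
    refine (Finset.sum_eq_sum_iff_of_le hle).1 ?_
    omega
  have huniv : insert (1 : X12) D = Finset.univ := Finset.eq_univ_of_card _ (by
    rw [Finset.card_insert_of_notMem h1, ← Nat.card_eq_fintype_card, card_X12]; omega)
  rw [Nat.card_eq_fintype_card, Fintype.card_subtype, ← huniv, Finset.filter_insert]
  have hfD : (D.filter fun g => orderOf g = n) = (rows.toFinset.filter fun R => R.o = n).biUnion cls := by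
    ext g
    simp only [hD, Finset.mem_filter, Finset.mem_biUnion]
    constructor
    · rintro ⟨⟨R, hR, hg⟩, ho⟩
      exact ⟨R, ⟨hR, by rw [← order_cls (List.mem_toFinset.1 hR) hg, ho]⟩, hg⟩
    · rintro ⟨R, ⟨hR, ho⟩, hg⟩
      exact ⟨⟨R, hR, hg⟩, by rw [order_cls (List.mem_toFinset.1 hR) hg, ho]⟩
  have hn1 : (1 : X12) ∉ D.filter fun g => orderOf g = n := fun h => h1 (Finset.mem_filter.1 h).1
  have hval : (D.filter fun g => orderOf g = n).card = ((rows.filter fun R => R.o == n).map fun R => 95040 / R.c).sum := by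
    rw [hfD, Finset.card_biUnion (hdis _ (Finset.filter_subset _ _)), ← Finset.sum_congr rfl fun R hR => heq R (Finset.mem_filter.1 hR).1,
      ← List.sum_toFinset _ (rows_nodup.filter _)]
    congr 1
    ext R
    simp
  by_cases hn : n = 1
  · subst hn
    rw [if_pos orderOf_one, Finset.card_insert_of_notMem hn1, hval, counts, if_pos rfl]; omega
  · rw [if_neg (fun h => hn (by rw [← h, orderOf_one])), hval, counts, if_neg hn, zero_add]

/-- Every count of elements of a given order in the Mathieu group of degree twelve lies in a short list. -/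
theorem m12_count_mem (n : ℕ) : Nat.card {g : ↥Cfsg.Spor.M12 // orderOf g = n} ∈
    ([0, 1, 891, 4400, 5940, 9504, 17280, 23760] : List ℕ) := by
  have e : Nat.card {g : ↥Cfsg.Spor.M12 // orderOf g = n} = Nat.card {g : X12 // orderOf g = n} :=
    Nat.card_congr ((x12Equiv.symm.toEquiv).subtypeEquiv fun g => by
      rw [show orderOf (x12Equiv.symm.toEquiv g) = orderOf g from MulEquiv.orderOf_eq x12Equiv.symm g])
  rw [e, card_order_X12]
  rcases lt_or_ge n 12 with h | h
  · have : ∀ m : Fin 12, counts m.val ∈ ([0, 1, 891, 4400, 5940, 9504, 17280, 23760] : List ℕ) := by decide +kernel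
    exact this ⟨n, h⟩
  · have hf : (rows.filter fun R => R.o == n) = [] := List.filter_eq_nil_iff.2 fun R hR => by
      have := List.all_eq_true.1 rows_arith.2.2 R hR
      simp only [Bool.and_eq_true, decide_eq_true_eq] at this
      simp only [beq_iff_eq]
      omega
    rw [counts, if_neg (by omega), hf]
    simp

theorem card_M12 : Nat.card ↥Cfsg.Spor.M12 = 95040 := by
  rw [← Nat.card_congr x12Equiv.toEquiv, card_X12]

end Cfsg.Lib.M12Nse
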