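import Cfsg.Agent.M12Nse.Orders

/-!
The centraliser of an element of order five.
-/

set_option autoImplicit false
set_option linter.unusedSectionVars false
set_option linter.style.haveILetI false

namespace Cfsg.Lib.M12Nse

open Subgroup Cfsg.Lib.SameOrder Cfsg.Lib.Small Cfsg.Lib.MathieuEleven

universe u

variable {G : Type u} [Group G] [Finite G]

local instance fact_five_cent : Fact (Nat.Prime 5) := ⟨by norm_num⟩

theorem pow_eq_pow_of_mod {g : G} {n a b : ℕ} (hg : g ^ n = 1) (h : a % n = b % n) : g ^ a = g ^ b := by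
  rw [← Nat.mod_add_div a n, ← Nat.mod_add_div b n, pow_add, pow_add, pow_mul, pow_mul, hg, one_pow, one_pow, h]

theorem zpowers_eq_of_order {P : Subgroup G} (hP : Nat.card ↥P = 5) {a : G} (ha : orderOf a = 5) (haP : a ∈ P) :
    P = zpowers a :=
  (Subgroup.eq_of_le_of_card_ge (zpowers_le.2 haP) (by rw [hP, Nat.card_zpowers, ha])).symm

/-- Elements of order `5 k` over a subgroup of order five. -/
theorem card_over_five {P : Subgroup G} (hP : Nat.card ↥P = 5) {k e : ℕ} (hk : k = 2 ∨ k = 4)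
    (he : (e = 6 ∧ k = 2) ∨ (e = 16 ∧ k = 4)) :
    Nat.card {g : G // orderOf g = 5 * k ∧ g ^ k ∈ P} = 4 * Nat.card {b : G // orderOf b = k ∧ b ∈ centralizer (P : Set G)} := by
  have h4 : Nat.card {g : G // orderOf g = 5 ∧ g ∈ P} = 4 := card_order_in hP
  rw [← h4, ← Nat.card_prod]
  have hcop : Nat.Coprime 5 k := by rcases hk with rfl | rfl <;> norm_num
  have hcomm : ∀ {a b : G}, a ∈ P → b ∈ centralizer (P : Set G) → Commute a b := fun ha hb =>
    (mem_centralizer_iff.1 hb _ ha)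
  refine Nat.card_congr
    { toFun := fun g => (⟨g.1 ^ e, ?_, ?_⟩, ⟨g.1 ^ 5, ?_, ?_⟩)
      invFun := fun p => ⟨p.1.1 * p.2.1, ?_, ?_⟩
      left_inv := fun g => Subtype.ext ?_
      right_inv := fun p => Prod.ext (Subtype.ext ?_) (Subtype.ext ?_) }
  · rw [(orderOf_pow g.1 : orderOf (g.1 ^ e) = _), g.2.1]
    rcases he with ⟨rfl, rfl⟩ | ⟨rfl, rfl⟩ <;> norm_num
  · rcases he with ⟨rfl, rfl⟩ | ⟨rfl, rfl⟩
    · rw [show (6 : ℕ) = 2 * 3 by norm_num, pow_mul]; exact P.pow_mem g.2.2 3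
    · rw [show (16 : ℕ) = 4 * 4 by norm_num, pow_mul]; exact P.pow_mem g.2.2 4
  · rw [(orderOf_pow g.1 : orderOf (g.1 ^ 5) = _), g.2.1]
    rcases hk with rfl | rfl <;> norm_num
  · have hgk : orderOf (g.1 ^ k) = 5 := by
      rw [(orderOf_pow g.1 : orderOf (g.1 ^ k) = _), g.2.1]
      rcases hk with rfl | rfl <;> norm_num
    refine mem_centralizer_iff.2 fun b hb => ?_
    have hb' : b ∈ zpowers (g.1 ^ k) := zpowers_eq_of_order hP hgk g.2.2 ▸ hb
    exact mem_centralizer_iff.1 (mem_cent_zpowers (Commute.pow_pow_self g.1 5 k).eq) b hb'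
  · rw [(hcomm p.1.2.2 p.2.2.2).orderOf_mul_eq_mul_orderOf_of_coprime (by rw [p.1.2.1, p.2.2.1]; exact hcop),
      p.1.2.1, p.2.2.1]
  · rw [(hcomm p.1.2.2 p.2.2.2).mul_pow,
      show p.2.1 ^ k = 1 from orderOf_dvd_iff_pow_eq_one.1 p.2.2.1.dvd, mul_one]
    exact P.pow_mem p.1.2.2 k
  · show g.1 ^ e * g.1 ^ 5 = g.1
    rw [← pow_add]
    conv_rhs => rw [← pow_one g.1]
    refine pow_eq_pow_of_mod (orderOf_dvd_iff_pow_eq_one.1 g.2.1.dvd) ?_
    rcases he with ⟨rfl, rfl⟩ | ⟨rfl, rfl⟩ <;> norm_num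
  · show (p.1.1 * p.2.1) ^ e = p.1.1
    rw [(hcomm p.1.2.2 p.2.2.2).mul_pow]
    have ha : p.1.1 ^ 5 = 1 := orderOf_dvd_iff_pow_eq_one.1 p.1.2.1.dvd
    have hb : p.2.1 ^ k = 1 := orderOf_dvd_iff_pow_eq_one.1 p.2.2.1.dvd
    rw [pow_eq_pow_of_mod ha (b := 1) (by rcases he with ⟨rfl, -⟩ | ⟨rfl, -⟩ <;> norm_num),
      pow_eq_pow_of_mod hb (b := 0) (by rcases he with ⟨rfl, rfl⟩ | ⟨rfl, rfl⟩ <;> norm_num), pow_one, pow_zero, mul_one]
  · show (p.1.1 * p.2.1) ^ 5 = p.2.1
    rw [(hcomm p.1.2.2 p.2.2.2).mul_pow]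
    have ha : p.1.1 ^ 5 = 1 := orderOf_dvd_iff_pow_eq_one.1 p.1.2.1.dvd
    have hb : p.2.1 ^ k = 1 := orderOf_dvd_iff_pow_eq_one.1 p.2.2.1.dvd
    rw [ha, one_mul, pow_eq_pow_of_mod hb (b := 1) (by rcases hk with rfl | rfl <;> norm_num), pow_one]

variable (H : Hyp G)

include H

theorem cnt_ten_mul {P : Sylow 5 G} {k e : ℕ} (hk : k = 2 ∨ k = 4) (he : (e = 6 ∧ k = 2) ∨ (e = 16 ∧ k = 4)) :
    cnt G (5 * k) = 9504 * Nat.card {b : G // orderOf b = k ∧ b ∈ centralizer ((P : Subgroup G) : Set G)} := by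
  rw [cnt_eq_mul (card_sylow_five H) P (k := k) fun g hg => by
      rw [(orderOf_pow g : orderOf (g ^ k) = _), hg]
      rcases hk with rfl | rfl <;> norm_num,
    n_five H, card_over_five (card_sylow_five H P) hk he]
  ring

/-- The centraliser of an element of order five has order ten and one involution. -/
theorem cent_five {q : G} (hq : orderOf q = 5) :
    Nat.card ↥(centralizer ({q} : Set G)) = 10 ∧
      ∃ u, orderOf u = 2 ∧ u * q = q * u ∧ ∀ v, orderOf v = 2 → v * q = q * v → v = u := by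
  classical
  have : Fact (Nat.Prime 2) := ⟨Nat.prime_two⟩
  obtain ⟨P, hP⟩ := exists_sylow_zpowers (card_sylow_five H) hq
  set C := centralizer ((P : Subgroup G) : Set G) with hCd
  have hCq : C = centralizer ({q} : Set G) := by
    rw [hCd, hP]
    refine le_antisymm (fun a ha => mem_centralizer_singleton_iff.2 (mem_centralizer_iff.1 ha q (mem_zpowers q)).symm) ?_
    exact fun a ha => mem_cent_zpowers (mem_centralizer_singleton_iff.1 ha)
  have hN := card_normalizer_five H P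
  have hle : C ≤ normalizer ((P : Subgroup G) : Set G) := by
    rw [hCq, hP]
    exact fun c hc => mem_normalizer_zpowers (by
      rw [mem_centralizer_singleton_iff.1 hc, mul_inv_cancel_right]; exact mem_zpowers q)
  have h4 := relIndex_centralizer_dvd (card_sylow_five H P) (le_refl (normalizer ((P : Subgroup G) : Set G)))
  have hm := Cfsg.Lib.MathieuEleven.card_inf_mul_relIndex C (normalizer ((P : Subgroup G) : Set G))
  rw [inf_eq_right.2 hle, hN] at hm
  have h5 : 5 ∣ Nat.card ↥C := hq ▸ hCq ▸ dvd_centralizer_orderOf rfl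
  have hcases : Nat.card ↥C = 10 ∨ Nat.card ↥C = 20 ∨ Nat.card ↥C = 40 := by
    have hd : C.relIndex (normalizer ((P : Subgroup G) : Set G)) ∈ Nat.divisors 4 := Nat.mem_divisors.2 ⟨h4, by norm_num⟩
    rw [show Nat.divisors 4 = {1, 2, 4} by decide +kernel] at hd
    simp only [Finset.mem_insert, Finset.mem_singleton] at hd
    rcases hd with e | e | e <;> rw [e] at hm <;> omega
  obtain ⟨⟨u, hu⟩, huo⟩ := exists_prime_orderOf_dvd_card' (G := ↥C) 2 (by omega)
  rw [← Subgroup.orderOf_coe] at huo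
  change orderOf u = 2 at huo
  have h2 := cnt_ten_mul H (P := P) (k := 2) (e := 6) (Or.inl rfl) (Or.inl ⟨rfl, rfl⟩)
  have hv := cnt_vals H (n := 5 * 2) (by norm_num) (by norm_num)
  have hpos : 0 < Nat.card {b : G // orderOf b = 2 ∧ b ∈ C} := by
    haveI : Nonempty {b : G // orderOf b = 2 ∧ b ∈ C} := ⟨⟨u, huo, hu⟩⟩
    exact Nat.card_pos
  simp only [List.mem_cons, List.not_mem_nil, or_false] at hv
  have hone : Nat.card {b : G // orderOf b = 2 ∧ b ∈ C} = 1 := by
    rw [hCd] at hpos ⊢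
    omega
  have huniq : ∀ v, orderOf v = 2 → v ∈ C → v = u := fun v hv hvC => by
    have := (Nat.card_eq_one_iff_unique.1 hone).1
    exact congrArg Subtype.val (Subsingleton.elim (⟨v, hv, hvC⟩ : {b : G // orderOf b = 2 ∧ b ∈ C}) ⟨u, huo, hu⟩)
  have hten : Nat.card ↥C = 10 := by
    refine hcases.resolve_right fun h => ?_
    obtain ⟨T, hT⟩ := Sylow.exists_subgroup_card_pow_prime (G := ↥C) 2 (n := 2) (by rcases h with h | h <;> rw [h] <;> norm_num)
    set T' := T.map C.subtype with hT'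
    have hTc : Nat.card ↥T' = 4 := by rw [hT', Subgroup.card_map_of_injective C.subtype_injective, hT]; norm_num
    have hTC : T' ≤ C := by rintro _ ⟨a, -, rfl⟩; exact a.2
    have hex : ∃ b ∈ T', b ≠ 1 ∧ b ≠ u := by
      by_contra! hno
      have hsub : (T' : Set G) ⊆ {1, u} := fun b hb => by
        by_cases h1 : b = 1
        · exact Or.inl h1
        · exact Or.inr (hno b hb h1)
      have hc := (Set.ncard_le_ncard hsub (Set.toFinite _)).trans (Set.ncard_pair
        (show (1 : G) ≠ u from fun e => by rw [← e, orderOf_one] at huo; omega)).le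
      rw [← Nat.card_coe_set_eq, show Nat.card ↥(T' : Set G) = 4 from hTc] at hc
      omega
    obtain ⟨b, hb, hb1, hbu⟩ := hex
    have hb4 : orderOf b = 4 := by
      have hd := Subgroup.orderOf_dvd_natCard _ hb
      rw [hTc] at hd
      have : orderOf b ∈ Nat.divisors 4 := Nat.mem_divisors.2 ⟨hd, by norm_num⟩
      rw [show Nat.divisors 4 = {1, 2, 4} by decide +kernel] at this
      simp only [Finset.mem_insert, Finset.mem_singleton] at this
      rcases this with e | e | e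
      · exact absurd (orderOf_eq_one_iff.1 e) hb1
      · exact absurd (huniq b e (hTC hb)) hbu
      · exact e
    have h4 := cnt_ten_mul H (P := P) (k := 4) (e := 16) (Or.inr rfl) (Or.inr ⟨rfl, rfl⟩)
    have hv := cnt_vals H (n := 5 * 4) (by norm_num) (by norm_num)
    have h2le : 1 < Nat.card {c : G // orderOf c = 4 ∧ c ∈ C} := by
      haveI : Nontrivial {c : G // orderOf c = 4 ∧ c ∈ C} := ⟨⟨⟨b, hb4, hTC hb⟩,
        ⟨b⁻¹, by rw [orderOf_inv, hb4], C.inv_mem (hTC hb)⟩, fun e => by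
          have e' : b = b⁻¹ := congrArg Subtype.val e
          have hb2 : b ^ 2 = 1 := by rw [pow_two]; nth_rw 1 [e']; rw [inv_mul_cancel]
          have := orderOf_dvd_of_pow_eq_one hb2
          rw [hb4] at this
          norm_num at this⟩⟩
      exact Finite.one_lt_card
    simp only [List.mem_cons, List.not_mem_nil, or_false] at hv
    rw [hCd] at h2le
    omega
  rw [hCq] at hten hu huniq
  exact ⟨hten, u, huo, mem_centralizer_singleton_iff.1 hu,
    fun v hv hvq => huniq v hv (mem_centralizer_singleton_iff.2 hvq)⟩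

theorem cnt_ten : cnt G 10 = 9504 := by
  obtain ⟨P⟩ : Nonempty (Sylow 5 G) := Sylow.nonempty
  have h2 := cnt_ten_mul H (P := P) (k := 2) (e := 6) (Or.inl rfl) (Or.inl ⟨rfl, rfl⟩)
  have hv := cnt_vals H (n := 5 * 2) (by norm_num) (by norm_num)
  obtain ⟨q, hq⟩ := exists_prime_orderOf_dvd_card' (G := ↥(P : Subgroup G)) 5 (by rw [card_sylow_five H])
  rw [← Subgroup.orderOf_coe] at hq
  obtain ⟨-, u, hu, huq, -⟩ := cent_five H hq
  have hpos : 0 < Nat.card {b : G // orderOf b = 2 ∧ b ∈ centralizer ((P : Subgroup G) : Set G)} := by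
    rw [zpowers_eq_of_order (card_sylow_five H P) hq q.2]
    haveI : Nonempty {b : G // orderOf b = 2 ∧ b ∈ centralizer (zpowers (q : G) : Set G)} := ⟨⟨u, hu, mem_cent_zpowers huq⟩⟩
    exact Nat.card_pos
  simp only [List.mem_cons, List.not_mem_nil, or_false] at hv
  show cnt G (5 * 2) = 9504
  omega

theorem orderOf_of_five_dvd {g : G} (h : 5 ∣ orderOf g) : orderOf g = 5 ∨ orderOf g = 10 := by
  set x := g ^ (orderOf g / 5) with hxd
  have hx : orderOf x = 5 := orderOf_pow_orderOf_div (orderOf_pos g).ne' h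
  have hc : g * x = x * g := (Commute.self_pow g _).eq
  have hd : orderOf g ∣ 10 := (cent_five H hx).1 ▸ dvd_centralizer_orderOf hc
  have : ∀ j ∈ Nat.divisors 10, 5 ∣ j → j = 5 ∨ j = 10 := by decide +kernel
  exact this _ (Nat.mem_divisors.2 ⟨hd, by norm_num⟩) h

end Cfsg.Lib.M12Nse
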