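import Cfsg.Agent.M12Nse.FiveFpf

/-!
Groups of order 120 with a simple subgroup of index two and self-centralising elements of order five.
-/

set_option autoImplicit false
set_option linter.unusedSectionVars false
set_option linter.style.haveILetI false

namespace Cfsg.Lib.M12Nse

open Subgroup Cfsg.Lib.Small
open scoped Pointwise

universe u

variable {X : Type u} [Group X] [Finite X]

/-- A group of order 120 acting faithfully on the five Sylow two-subgroups of its simple subgroup. -/
theorem iso_perm_five (h : Fpf X 24 6) (N : Subgroup X) [N.Normal] (hidx : N.index = 2) [IsSimpleGroup ↥N] :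
    Nonempty (X ≃* Equiv.Perm (Fin 5)) := by
  classical
  haveI : Fact (Nat.Prime 2) := ⟨Nat.prime_two⟩
  haveI : Fact (Nat.Prime 5) := ⟨by norm_num⟩
  have hN : Nat.card ↥N = 60 := by
    have := N.card_mul_index
    rw [hidx, h.card] at this
    omega
  have hnc : ¬ ∀ a b : ↥N, a * b = b * a := not_comm_of_isSimple (by rw [hN]; norm_num)
  have h2 : 2 ∣ Nat.card ↥N := by rw [hN]; norm_num
  obtain ⟨P⟩ : Nonempty (Sylow 2 ↥N) := Sylow.nonempty
  have hP : Nat.card ↥(P : Subgroup ↥N) = 2 ^ 2 := card_sylow_of_factor P (m := 15) (by rw [hN]; norm_num) (by norm_num)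
  obtain ⟨hd, hmod⟩ := sylow_facts P (a := 2) (m := 15) (by rw [hN]; norm_num) (by norm_num)
  have hn5 : Nat.card (Sylow 2 ↥N) = 5 := by
    have hlist : ∀ j ∈ Nat.divisors 15, j = 1 ∨ j = 3 ∨ j = 5 ∨ j = 15 := by decide +kernel
    rcases hlist _ (Nat.mem_divisors.2 ⟨hd, by norm_num⟩) with e | e | e | e
    · exact absurd e (card_sylow_ne_one hnc h2)
    · exfalso
      have hle := Nat.card_le_card_of_injective _ (toPermHom_sylow_injective (p := 2) hnc h2)
      rw [Nat.card_perm, e, hN] at hle
      norm_num [Nat.factorial] at hle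
    · exact e
    · exfalso
      refine not_normalizer_le_centralizer hnc h2 P ?_
      have hcard := card_normalizer_mul P
      rw [e, hN] at hcard
      have hNP : normalizer ((P : Subgroup ↥N) : Set ↥N) = (P : Subgroup ↥N) :=
        (Subgroup.eq_of_le_of_card_ge Subgroup.le_normalizer (by rw [hP]; omega)).symm
      rw [hNP]
      intro a ha
      refine mem_centralizer_iff.2 fun b hb => ?_
      exact congrArg Subtype.val ((IsPGroup.isMulCommutative_of_card_eq_prime_sq hP).is_comm.comm ⟨b, hb⟩ ⟨a, ha⟩)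
  letI : MulAction X (Sylow 2 ↥N) := MulAction.compHom _ (MulAut.conjNormal : X →* MulAut ↥N)
  set θ := MulAction.toPermHom X (Sylow 2 ↥N) with hθ
  have hcardX : Nat.card X = 120 := by rw [h.card]
  have hker : θ.ker = ⊥ := by
    have hne : ¬ 5 ∣ Nat.card ↥θ.ker := fun h5 => by
      obtain ⟨q, hq⟩ := exists_prime_orderOf_dvd_card' (G := X) 5 (by rw [hcardX]; norm_num)
      have hqk : q ∈ θ.ker := h.order_five_mem θ.ker h5 hq
      have hi : ¬ 5 ∣ N.index := by rw [hidx]; norm_num
      have hqN : q ∈ N := h.order_five_mem N (by rw [hN]; norm_num) hq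
      have hfix : (⟨q, hqN⟩ : ↥N) • P = P := by
        have hc : MulAut.conjNormal q = MulAut.conj (⟨q, hqN⟩ : ↥N) := MulEquiv.ext fun a => Subtype.ext (by simp)
        show MulAut.conj (⟨q, hqN⟩ : ↥N) • P = P
        rw [← hc]
        exact congrArg (fun σ : Equiv.Perm (Sylow 2 ↥N) => σ P) (MonoidHom.mem_ker.1 hqk)
      have hmem := Sylow.smul_eq_iff_mem_normalizer.1 hfix
      have hd5 := Subgroup.orderOf_dvd_natCard _ hmem
      have hcard := card_normalizer_mul P
      rw [hn5, hN] at hcard
      rw [Subgroup.orderOf_mk, hq] at hd5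
      change 5 ∣ Nat.card ↥(normalizer ((P : Subgroup ↥N) : Set ↥N)) at hd5
      rw [show Nat.card ↥(normalizer ((P : Subgroup ↥N) : Set ↥N)) = 12 by omega] at hd5
      norm_num at hd5
    refine Subgroup.card_eq_one.1 ((h.coprime_normal (by norm_num) θ.ker hne).resolve_right fun e => ?_)
    have := Subgroup.card_subgroup_dvd_card θ.ker
    rw [e, hcardX] at this
    norm_num at this
  have hinj : Function.Injective θ := (MonoidHom.ker_eq_bot_iff θ).1 hker
  have hbij : Function.Bijective θ := (Nat.bijective_iff_injective_and_card θ).2 ⟨hinj, by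
    rw [hcardX, Nat.card_perm, hn5]; rfl⟩
  haveI := Fintype.ofFinite (Sylow 2 ↥N)
  exact ⟨(MulEquiv.ofBijective θ hbij).trans
    (Fintype.equivFinOfCardEq (by rw [← Nat.card_eq_fintype_card, hn5])).permCongrHom⟩

end Cfsg.Lib.M12Nse
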