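import Cfsg.Agent.M12Nse.Kill1440
import Cfsg.Agent.M12Nse.PermFive

/-!
The centraliser of an involution commuting with an element of order five is a direct product of a group
of order two and a symmetric group of degree five.
-/

set_option autoImplicit false
set_option linter.unusedSectionVars false
set_option linter.style.haveILetI false
set_option maxRecDepth 100000

namespace Cfsg.Lib.M12Nse

open Subgroup Cfsg.Lib.SameOrder Cfsg.Lib.Small Equiv
open scoped IsMulCommutative

/-- the model -/
abbrev K5 : Type := Perm (Fin 5) × Multiplicative (ZMod 2)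

/-- the central involution of the model -/
def uK : K5 := (1, Multiplicative.ofAdd 1)
/-- a double transposition -/
def dd : Perm (Fin 5) := swap 0 1 * swap 2 3
/-- a transposition -/
def tp : Perm (Fin 5) := swap 0 1
/-- a three-cycle -/
def cyc : Perm (Fin 5) := swap 2 3 * swap 3 4

theorem five_facts : tp * tp = 1 ∧ Perm.sign tp = -1 ∧ tp ≠ 1 ∧ cyc ^ 3 = 1 ∧ cyc ≠ 1 ∧ tp * cyc = cyc * tp ∧
    Perm.sign dd = 1 ∧ dd * dd = 1 ∧ dd ≠ 1 := by decide +kernel

theorem central_two : ∀ x : Perm (Fin 5), x * x = 1 → x ≠ 1 →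
    8 ∣ (Finset.univ.filter fun y : Perm (Fin 5) => y * x = x * y).card → Perm.sign x = 1 := by decide +kernel

theorem even_invol_conj : ∀ x : Perm (Fin 5), x * x = 1 → x ≠ 1 → Perm.sign x = 1 →
    ∃ y : Perm (Fin 5), y * dd * y⁻¹ = x := by decide +kernel

/-- the double transpositions of the first four points -/
def inV4 (x : Perm (Fin 5)) : Bool := x == 1 || x == dd || x == swap 0 2 * swap 1 3 || x == swap 0 3 * swap 1 2

theorem v4_facts : inV4 1 = true ∧ (∀ x : Perm (Fin 5), inV4 x = true → Perm.sign x = 1 ∧ x * x = 1) ∧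
    (∀ x : Perm (Fin 5), inV4 x = true → ∀ y : Perm (Fin 5), inV4 y = true → inV4 (x * y) = true) ∧
    (Finset.univ.filter fun x : Perm (Fin 5) => inV4 x = true).card = 4 := by decide +kernel

theorem zmod_two_gen : ∀ x : Multiplicative (ZMod 2), x ≠ 1 → x = Multiplicative.ofAdd 1 := by decide

universe u

variable {G : Type u} [Group G] [Finite G]

/-- The centraliser is isomorphic to the model. -/
theorem IsFive.exists_model (H : Local G) {u q : G} (h : IsFive u q)
    (hcard : Nat.card ↥(centralizer ({u} : Set G)) = 240)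
    (hno : ∀ x y : G, Commute x y → orderOf x = 3 → 4 ∣ orderOf y → y * y = u → False) :
    ∃ e : ↥(centralizer ({u} : Set G)) ≃* K5, e ⟨u, mem_centralizer_singleton_iff.2 rfl⟩ = uK := by
  classical
  haveI : Fact (Nat.Prime 2) := ⟨Nat.prime_two⟩
  obtain ⟨huu, hu1⟩ := two_iff.1 h.two
  set C := centralizer ({u} : Set G) with hCd
  have huC : u ∈ C := mem_centralizer_singleton_iff.2 rfl
  show ∃ e : ↥C ≃* K5, e ⟨u, huC⟩ = uK
  set uC : ↥C := ⟨u, huC⟩ with huCd
  have huC2 : uC * uC = 1 := Subtype.ext huu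
  have huCo : orderOf uC = 2 := by rw [← Subgroup.orderOf_coe]; exact h.two
  have huc : ∀ c : ↥C, c * uC = uC * c := fun c =>
    Subtype.ext (show (c : G) * u = u * c from mem_centralizer_singleton_iff.1 c.2)
  set Z : Subgroup ↥C := zpowers uC with hZd
  have hZcent : Z ≤ center ↥C := zpowers_le.2 (mem_center_iff.2 huc)
  haveI : Z.Normal := ⟨fun z hz g => by
    have hzg := mem_center_iff.1 (hZcent hz) g
    rw [hzg, mul_inv_cancel_right]; exact hz⟩
  have hZ : Nat.card ↥Z = 2 := by rw [hZd, Nat.card_zpowers, huCo]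
  have hF := h.quot_fpf H (m := 24) (n := 6) (by norm_num) (by norm_num) (by rw [← hCd, hcard]) Z hZ (mem_zpowers uC)
  obtain ⟨N0, hN0, hN0i, hN0s⟩ := exists_simple_index_two hF (Or.inr ⟨rfl, rfl⟩)
  haveI := hN0
  haveI := hN0s
  obtain ⟨ψ⟩ := iso_perm_five hF N0 hN0i
  set φ : ↥C →* Perm (Fin 5) := ψ.toMonoidHom.comp (QuotientGroup.mk' Z) with hφ
  have hφs : Function.Surjective φ := ψ.surjective.comp (QuotientGroup.mk'_surjective Z)
  have hker : ∀ c, φ c = 1 → c = 1 ∨ c = uC := by
    intro c hc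
    have hz : c ∈ Z := (QuotientGroup.eq_one_iff c).1 (ψ.injective (hc.trans (map_one ψ).symm))
    obtain ⟨i, rfl⟩ := mem_zpowers_iff.1 hz
    rcases Int.even_or_odd i with ⟨j, rfl⟩ | ⟨j, rfl⟩
    · exact Or.inl (by rw [← two_mul, zpow_mul, zpow_two, huC2, one_zpow])
    · exact Or.inr (by rw [zpow_add, zpow_mul, zpow_two, huC2, one_zpow, one_mul, zpow_one])
  have hφu : φ uC = 1 := by
    show ψ (QuotientGroup.mk' Z uC) = 1
    rw [show QuotientGroup.mk' Z uC = 1 from (QuotientGroup.eq_one_iff uC).2 (mem_zpowers uC), map_one]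
  have huniq3 : ∀ a b : ↥C, orderOf a = 3 → orderOf b = 3 → φ a = φ b → a = b := by
    intro a b ha hb hab
    rcases hker (a⁻¹ * b) (by rw [map_mul, map_inv, hab, inv_mul_cancel]) with e | e
    · exact inv_mul_eq_one.1 e
    exfalso
    have hb' : b = a * uC := by rw [← e, mul_inv_cancel_left]
    rw [hb', (show Commute a uC from huc a).orderOf_mul_eq_mul_orderOf_of_coprime (by rw [ha, huCo]; norm_num),
      ha, huCo] at hb
    norm_num at hb
  -- an involution over a double transposition
  obtain ⟨z, hzz, hzs, hz1⟩ : ∃ z : ↥C, z * z = 1 ∧ Perm.sign (φ z) = 1 ∧ φ z ≠ 1 := by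
    obtain ⟨R0⟩ : Nonempty (Sylow 2 ↥C) := Sylow.nonempty
    have hR0 : Nat.card ↥(R0 : Subgroup ↥C) = 16 := by
      simpa using card_sylow_of_factor R0 (a := 4) (m := 15) (by rw [hcard]; norm_num) (by norm_num)
    obtain ⟨T, hT⟩ := IsPGroup.exists_le_sylow (R0.2.map C.subtype)
    have hTc : Nat.card ↥(T : Subgroup G) = 64 := by
      simpa using card_sylow_of_factor T (a := 6) (m := 1485) (by rw [H.card]; norm_num) (by norm_num)
    have hnt : Nontrivial ↥(T : Subgroup G) := Finite.one_lt_card_iff_nontrivial.1 (by rw [hTc]; norm_num)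
    have hZT := T.2.center_nontrivial
    obtain ⟨k, hk⟩ := (T.2.to_subgroup (center ↥(T : Subgroup G))).exists_card_eq
    have h2d : 2 ∣ Nat.card ↥(center ↥(T : Subgroup G)) := by
      rw [hk]
      refine dvd_pow_self 2 fun e => ?_
      rw [e, pow_zero] at hk
      exact absurd hk (Finite.one_lt_card_iff_nontrivial.2 hZT).ne'
    obtain ⟨⟨⟨z, hzT⟩, hzc⟩, hzo⟩ := exists_prime_orderOf_dvd_card' 2 h2d
    rw [← Subgroup.orderOf_coe, ← Subgroup.orderOf_coe] at hzo
    change orderOf z = 2 at hzo
    obtain ⟨hzz, hzne⟩ := two_iff.1 hzo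
    have hzcomm : ∀ x ∈ (T : Subgroup G), x * z = z * x := fun x hx =>
      congrArg Subtype.val (mem_center_iff.1 hzc ⟨x, hx⟩)
    have huR : uC ∈ (R0 : Subgroup ↥C) := by
      haveI : (zpowers uC).Normal := ‹Z.Normal›
      have hle : zpowers uC ≤ (R0 : Subgroup ↥C) :=
        (IsPGroup.of_card (n := 1) (by rw [← hZd, hZ, pow_one]) : IsPGroup 2 ↥(zpowers uC)).le_sylow_of_normal R0
      exact hle (mem_zpowers uC)
    have huT : u ∈ (T : Subgroup G) := hT ⟨uC, huR, rfl⟩
    have hzC : z ∈ C := mem_centralizer_singleton_iff.2 (hzcomm u huT).symm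
    have hzu : z ≠ u := fun e => by
      have hle : (T : Subgroup G) ≤ C := fun x hx => mem_centralizer_singleton_iff.2 (e ▸ hzcomm x hx)
      have := Subgroup.card_dvd_of_le hle
      rw [hTc, hcard] at this
      norm_num at this
    have hφz : φ ⟨z, hzC⟩ ≠ 1 := fun e => by
      rcases hker _ e with e | e
      · exact hzne (congrArg Subtype.val e)
      · exact hzu (congrArg Subtype.val e)
    refine ⟨⟨z, hzC⟩, Subtype.ext hzz, central_two _ ?_ hφz ?_, hφz⟩
    · rw [← map_mul, show (⟨z, hzC⟩ : ↥C) * ⟨z, hzC⟩ = 1 from Subtype.ext hzz, map_one]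
    · have hle : (R0 : Subgroup ↥C).map φ ≤ centralizer ({φ ⟨z, hzC⟩} : Set (Perm (Fin 5))) := by
        rintro _ ⟨r, hr, rfl⟩
        rw [mem_centralizer_singleton_iff, ← map_mul, ← map_mul]
        exact congrArg φ (Subtype.ext (hzcomm _ (hT ⟨r, hr, rfl⟩)))
      have hrel := Cfsg.Lib.MathieuEleven.card_inf_mul_relIndex φ.ker (R0 : Subgroup ↥C)
      rw [Subgroup.relIndex_ker, hR0] at hrel
      have hi : Nat.card ↥((R0 : Subgroup ↥C) ⊓ φ.ker) = 2 := by
        refine Eq.trans ?_ hZ
        congr 1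
        refine congrArg (fun S : Subgroup ↥C => ↥S) (le_antisymm (fun x hx => ?_) (le_inf ?_ ?_))
        · rcases hker x hx.2 with rfl | rfl
          exacts [one_mem _, mem_zpowers uC]
        · exact zpowers_le.2 huR
        · exact zpowers_le.2 hφu
      rw [hi] at hrel
      have hd := Subgroup.card_dvd_of_le hle
      have hm : Nat.card ↥((R0 : Subgroup ↥C).map φ) = 8 := by omega
      rw [hm] at hd
      refine hd.trans (dvd_of_eq ?_)
      rw [show Nat.card ↥(centralizer ({φ ⟨z, hzC⟩} : Set (Perm (Fin 5)))) =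
          Nat.card {y : Perm (Fin 5) // y * φ ⟨z, hzC⟩ = φ ⟨z, hzC⟩ * y} from
        Nat.card_congr (Equiv.subtypeEquivRight fun y => mem_centralizer_singleton_iff),
        Nat.card_eq_fintype_card, Fintype.card_subtype]
  -- every element over a double transposition is an involution
  have hinv : ∀ c : ↥C, φ c * φ c = 1 → Perm.sign (φ c) = 1 → c * c = 1 := by
    intro c h2 hs
    by_cases h1 : φ c = 1
    · rcases hker c h1 with rfl | rfl
      exacts [one_mul 1, huC2]
    obtain ⟨y, hy⟩ := even_invol_conj _ h2 h1 hs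
    obtain ⟨y', hy'⟩ := even_invol_conj _ (by rw [← map_mul, hzz, map_one] : φ z * φ z = 1) hz1 hzs
    obtain ⟨d, hd⟩ := hφs (y * y'⁻¹)
    have he : φ (d * z * d⁻¹) = φ c := by
      rw [map_mul, map_mul, map_inv, hd, ← hy, ← hy']; group
    have hdz : d * z * d⁻¹ * (d * z * d⁻¹) = 1 := by
      rw [show d * z * d⁻¹ * (d * z * d⁻¹) = d * (z * z) * d⁻¹ by group, hzz, mul_one, mul_inv_cancel]
    rcases hker ((d * z * d⁻¹)⁻¹ * c) (by rw [map_mul, map_inv, he, inv_mul_cancel]) with e | e
    · rw [← inv_mul_eq_one.1 e]; exact hdz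
    · rw [show c = d * z * d⁻¹ * uC by rw [← e, mul_inv_cancel_left]]
      rw [show d * z * d⁻¹ * uC * (d * z * d⁻¹ * uC) = d * z * d⁻¹ * (uC * (d * z * d⁻¹)) * uC by group, ← huc,
        ← mul_assoc, hdz, one_mul, huC2]
  -- a transposition lifts to an involution
  obtain ⟨t, htt, hφt⟩ : ∃ t : ↥C, t * t = 1 ∧ φ t = tp := by
    obtain ⟨t, ht⟩ := hφs tp
    refine ⟨t, ?_, ht⟩
    refine (hker (t * t) (by rw [map_mul, ht, five_facts.1])).resolve_right fun e => ?_
    obtain ⟨p, hp⟩ := hφs cyc
    have hp4 : φ (p ^ 4) = cyc := by rw [map_pow, hp, pow_succ, five_facts.2.2.2.1, one_mul]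
    have hord : orderOf (p ^ 4) = 3 := by
      haveI : Fact (Nat.Prime 3) := ⟨Nat.prime_three⟩
      refine orderOf_eq_prime ?_ fun e' => five_facts.2.2.2.2.1 (by rw [← hp4, e', map_one])
      rcases hker (p ^ 3) (by rw [map_pow, hp, five_facts.2.2.2.1]) with e' | e'
      · rw [← pow_mul, show 4 * 3 = 3 * 4 by norm_num, pow_mul, e', one_pow]
      · rw [← pow_mul, show 4 * 3 = 3 * 4 by norm_num, pow_mul, e', show (4 : ℕ) = 2 * 2 by norm_num, pow_mul,
          pow_two uC, huC2, one_pow]
    have hcj : t * p ^ 4 * t⁻¹ = p ^ 4 := huniq3 _ _ ((MulEquiv.orderOf_eq (MulAut.conj t) _).trans hord) hord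
      (by rw [map_mul, map_mul, map_inv, ht, hp4, five_facts.2.2.2.2.2.1, mul_inv_cancel_right])
    have h4 : 4 ∣ orderOf t := by
      have : orderOf t = 2 ^ (1 + 1) := orderOf_eq_prime_pow (by
        rw [pow_one, pow_two, e]
        exact fun e1 => hu1 (congrArg Subtype.val e1)) (by
        rw [show 2 ^ (1 + 1) = 2 * 2 by norm_num, pow_mul, pow_two t, e, pow_two, huC2])
      rw [this]
      norm_num
    exact hno ((p ^ 4 : ↥C) : G) (t : G)
      (congrArg Subtype.val (mul_inv_eq_iff_eq_mul.1 hcj)).symm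
      (by rw [Subgroup.orderOf_coe]; exact hord) (by rw [Subgroup.orderOf_coe]; exact h4) (congrArg Subtype.val e)
  -- the preimage of the alternating group and a subgroup of order eight
  set L := (alternatingGroup (Fin 5)).comap φ with hLd
  haveI : L.Normal := inferInstanceAs ((alternatingGroup (Fin 5)).comap φ).Normal
  have hmemL : ∀ c, c ∈ L ↔ Perm.sign (φ c) = 1 := fun c => Perm.mem_alternatingGroup
  have hLi : L.index = 2 := by
    rw [hLd, Subgroup.index_comap_of_surjective _ hφs, alternatingGroup.index_eq_two]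
  have hL : Nat.card ↥L = 120 := by
    have := L.card_mul_index
    rw [hLi, hcard] at this
    omega
  set P : Subgroup ↥L :=
    { carrier := {a | inV4 (φ a) = true}
      one_mem' := by
        show inV4 (φ ((1 : ↥L) : ↥C)) = true
        rw [OneMemClass.coe_one, map_one]; exact v4_facts.1
      mul_mem' := fun {a b} ha hb => by
        show inV4 (φ ((a * b : ↥L) : ↥C)) = true
        rw [Subgroup.coe_mul, map_mul]; exact v4_facts.2.2.1 _ ha _ hb
      inv_mem' := fun {a} ha => by
        show inV4 (φ ((a⁻¹ : ↥L) : ↥C)) = true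
        rw [Subgroup.coe_inv, map_inv, inv_eq_of_mul_eq_one_right (v4_facts.2.1 _ ha).2]
        exact ha } with hPd
  have hPsq : ∀ a : ↥P, a * a = 1 := fun a =>
    Subtype.ext (Subtype.ext (hinv _ (v4_facts.2.1 _ a.2).2 ((hmemL _).1 a.1.2)))
  haveI : IsMulCommutative ↥P := ⟨⟨fun a b => by
    have h1 := hPsq (a * b)
    rw [mul_eq_one_iff_eq_inv, mul_inv_rev, inv_eq_of_mul_eq_one_right (hPsq a),
      inv_eq_of_mul_eq_one_right (hPsq b)] at h1
    exact h1⟩⟩
  have huL : uC ∈ L := (hmemL uC).2 (by rw [hφu, map_one])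
  have huP : (⟨uC, huL⟩ : ↥L) ∈ P := by
    show inV4 (φ uC) = true
    rw [hφu]; exact v4_facts.1
  have hP8 : Nat.card ↥P = 8 := by
    have e1 : Nat.card ↥(P.map L.subtype) = Nat.card ↥P := Subgroup.card_map_of_injective L.subtype_injective
    have hPm : ∀ c, c ∈ P.map L.subtype ↔ inV4 (φ c) = true := fun c =>
      ⟨fun ⟨a, ha, e⟩ => e ▸ ha, fun hc => ⟨⟨c, (hmemL c).2 (v4_facts.2.1 _ hc).1⟩, hc, rfl⟩⟩
    have hrel := Cfsg.Lib.MathieuEleven.card_inf_mul_relIndex φ.ker (P.map L.subtype)
    rw [Subgroup.relIndex_ker] at hrel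
    have hi : Nat.card ↥(P.map L.subtype ⊓ φ.ker) = 2 := by
      refine Eq.trans ?_ hZ
      congr 1
      refine congrArg (fun S : Subgroup ↥C => ↥S) (le_antisymm (fun x hx => ?_) (le_inf ?_ ?_))
      · rcases hker x hx.2 with rfl | rfl
        exacts [one_mem _, mem_zpowers uC]
      · exact zpowers_le.2 ((hPm uC).2 (by rw [hφu]; exact v4_facts.1))
      · exact zpowers_le.2 hφu
    have him : Nat.card ↥((P.map L.subtype).map φ) = 4 := by
      rw [← v4_facts.2.2.2, ← Fintype.card_subtype, ← Nat.card_eq_fintype_card]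
      refine Nat.card_congr (Equiv.subtypeEquivRight fun y => ⟨?_, fun hy => ?_⟩)
      · rintro ⟨c, hc, rfl⟩; exact (hPm c).1 hc
      · obtain ⟨c, rfl⟩ := hφs y
        exact ⟨c, (hPm c).2 hy, rfl⟩
    rw [hi, him, e1] at hrel
    omega
  have hPi : P.index = 15 := by
    have := P.card_mul_index
    rw [hP8, hL] at this
    omega
  -- the central involution is not in the derived subgroup
  have hud : (⟨uC, huL⟩ : ↥L) ∉ commutator ↥L := by
    intro hmem
    have h1 : MonoidHom.transfer (MonoidHom.id ↥P) (⟨uC, huL⟩ : ↥L) = 1 :=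
      MonoidHom.mem_ker.1 (Abelianization.commutator_subset_ker _ hmem)
    have hcent : ∀ g : ↥L, g * (⟨uC, huL⟩ : ↥L) = ⟨uC, huL⟩ * g := fun g => Subtype.ext (huc g)
    rw [MonoidHom.transfer_eq_pow _ _ fun k g₀ _ => by
      rw [mul_assoc, ← ((show Commute g₀ (⟨uC, huL⟩ : ↥L) from hcent g₀).pow_right k).eq, ← mul_assoc,
        inv_mul_cancel, one_mul]] at h1
    have h2 : (⟨uC, huL⟩ : ↥L) ^ P.index = 1 := congrArg Subtype.val h1
    have h3 : uC ^ 15 = 1 := by
      have := congrArg Subtype.val h2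
      rw [hPi] at this
      exact this
    have := orderOf_dvd_of_pow_eq_one h3
    rw [huCo] at this
    norm_num at this
  set D := (commutator ↥L).map L.subtype with hDd
  haveI : D.Normal := inferInstanceAs ((commutator ↥L).map L.subtype).Normal
  have huD : uC ∉ D := fun ⟨a, ha, e⟩ => hud (by rwa [show (⟨uC, huL⟩ : ↥L) = a from Subtype.ext e.symm])
  have hD : Nat.card ↥D = 60 ∧ ∀ c ∈ D, Perm.sign (φ c) = 1 := by
    have hDL : ∀ c ∈ D, Perm.sign (φ c) = 1 := by rintro _ ⟨a, -, rfl⟩; exact (hmemL _).1 a.2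
    refine ⟨?_, hDL⟩
    let φL : ↥L →* ↥(alternatingGroup (Fin 5)) :=
      MonoidHom.codRestrict (φ.comp L.subtype) _ fun a => a.2
    have hφL : Function.Surjective φL := fun y => by
      obtain ⟨c, hc⟩ := hφs y
      exact ⟨⟨c, (hmemL c).2 (by rw [hc]; exact Perm.mem_alternatingGroup.1 y.2)⟩, Subtype.ext hc⟩
    have hperf : commutator ↥(alternatingGroup (Fin 5)) = ⊤ := by
      haveI : IsSimpleGroup ↥(alternatingGroup (Fin 5)) := alternatingGroup.isSimpleGroup (by simp)
      refine (IsSimpleGroup.eq_bot_or_eq_top_of_normal _ inferInstance).resolve_left fun e => ?_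
      refine not_comm_of_isSimple (G := ↥(alternatingGroup (Fin 5))) ?_ fun a b => ?_
      · rw [nat_card_alternatingGroup, Nat.card_fin]; decide
      · have := Subgroup.commutator_mem_commutator (mem_top a) (mem_top b)
        rw [← _root_.commutator_def, e, Subgroup.mem_bot, commutatorElement_eq_one_iff_mul_comm] at this
        exact this
    have hmapL : (commutator ↥L).map φL = ⊤ := by
      rw [_root_.commutator_def, Subgroup.map_commutator, Subgroup.map_top_of_surjective _ hφL, ← _root_.commutator_def, hperf]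
    have hrel := Cfsg.Lib.MathieuEleven.card_inf_mul_relIndex φL.ker (commutator ↥L)
    rw [Subgroup.relIndex_ker, hmapL, Subgroup.card_top, nat_card_alternatingGroup, Nat.card_fin] at hrel
    have hb : commutator ↥L ⊓ φL.ker = ⊥ := by
      rw [Subgroup.eq_bot_iff_forall]
      intro a ⟨ha, hak⟩
      have hk : φ (a : ↥C) = 1 := congrArg Subtype.val (MonoidHom.mem_ker.1 hak)
      rcases hker _ hk with e | e
      · exact Subtype.ext e
      · exact absurd ⟨a, ha, e⟩ huD
    rw [hb, Subgroup.card_bot, one_mul] at hrel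
    rw [hDd, Subgroup.card_map_of_injective L.subtype_injective, ← hrel]
    decide
  -- a complement to the centre
  let S : Subgroup ↥C :=
    { carrier := {x | x ∈ D ∨ x * t ∈ D}
      one_mem' := Or.inl D.one_mem
      mul_mem' := fun {x y} hx hy => by
        have hcj : ∀ a, a ∈ D → t * a * t ∈ D := fun a ha => by
          have := ‹D.Normal›.conj_mem a ha t
          rwa [inv_eq_of_mul_eq_one_right htt] at this
        rcases hx with hx | hx <;> rcases hy with hy | hy
        · exact Or.inl (D.mul_mem hx hy)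
        · exact Or.inr (by rw [mul_assoc]; exact D.mul_mem hx hy)
        · refine Or.inr ?_
          have := D.mul_mem hx (hcj y hy)
          rwa [show x * t * (t * y * t) = x * (t * t) * y * t by group, htt, mul_one] at this
        · refine Or.inl ?_
          have := D.mul_mem hx (hcj _ hy)
          rwa [show x * t * (t * (y * t) * t) = x * (t * t) * y * (t * t) by group, htt, mul_one, mul_one] at this
      inv_mem' := fun {x} hx => by
        rcases hx with hx | hx
        · exact Or.inl (D.inv_mem hx)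
        · refine Or.inr ?_
          have := ‹D.Normal›.conj_mem _ (D.inv_mem hx) t
          rwa [mul_inv_rev, inv_eq_of_mul_eq_one_right htt,
            show t * (t * x⁻¹) * t = t * t * (x⁻¹ * t) by group, htt, one_mul] at this }
  have huS : uC ∉ S := by
    rintro (hu' | hu')
    · exact huD hu'
    · have := hD.2 _ hu'
      rw [map_mul, hφu, one_mul, hφt, five_facts.2.1] at this
      exact absurd this (by decide)
  have hS : Nat.card ↥S = 120 := by
    have hset : (S : Set ↥C) = (D : Set ↥C) ∪ (fun x => x * t) '' (D : Set ↥C) := by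
      ext x
      constructor
      · rintro (hx | hx)
        · exact Or.inl hx
        · exact Or.inr ⟨x * t, hx, by simp only; rw [mul_assoc, htt, mul_one]⟩
      · rintro (hx | ⟨y, hy, rfl⟩)
        · exact Or.inl hx
        · exact Or.inr (show y * t * t ∈ D by rw [mul_assoc, htt, mul_one]; exact hy)
    rw [← SetLike.coe_sort_coe S, Nat.card_coe_set_eq, hset, Set.ncard_union_eq ?_ (Set.toFinite _) (Set.toFinite _),
      Set.ncard_image_of_injective _ (mul_left_injective t), ← Nat.card_coe_set_eq, SetLike.coe_sort_coe, hD.1]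
    rw [Set.disjoint_left]
    rintro _ hx ⟨y, hy, rfl⟩
    have := hD.2 _ hx
    rw [map_mul, Perm.sign_mul, hD.2 _ hy, one_mul, hφt, five_facts.2.1] at this
    exact absurd this (by decide)
  have hSi : S.index = 2 := by
    have := S.card_mul_index
    rw [hS, hcard] at this
    omega
  haveI : S.Normal := Subgroup.normal_of_index_eq_two hSi
  have hq2 : Nat.card (↥C ⧸ S) = 2 := by rw [← Subgroup.index_eq_card, hSi]
  have hm2 : Nat.card (Multiplicative (ZMod 2)) = 2 := by
    rw [Nat.card_congr Multiplicative.toAdd, Nat.card_zmod]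
  let m : (↥C ⧸ S) ≃* Multiplicative (ZMod 2) := mulEquivOfPrimeCardEq (p := 2) hq2 hm2
  let f : ↥C →* K5 := φ.prod (m.toMonoidHom.comp (QuotientGroup.mk' S))
  have hfinj : Function.Injective f := by
    refine (injective_iff_map_eq_one f).2 fun c hc => ?_
    have h1 : φ c = 1 := congrArg Prod.fst hc
    have h2 : c ∈ S := (QuotientGroup.eq_one_iff c).1 (m.injective ((congrArg Prod.snd hc).trans (map_one m).symm))
    rcases hker c h1 with e | e
    · exact e
    · exact absurd (e ▸ h2) huS
  have hfb : Function.Bijective f := (Nat.bijective_iff_injective_and_card f).2 ⟨hfinj, by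
    rw [hcard, Nat.card_prod, hm2, Nat.card_perm, Nat.card_fin]; rfl⟩
  refine ⟨MulEquiv.ofBijective f hfb, Prod.ext hφu ?_⟩
  show m (QuotientGroup.mk' S uC) = Multiplicative.ofAdd 1
  have hne : m (QuotientGroup.mk' S uC) ≠ 1 := fun e =>
    huS ((QuotientGroup.eq_one_iff uC).1 (m.injective (e.trans (map_one m).symm)))
  exact zmod_two_gen _ hne

end Cfsg.Lib.M12Nse
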