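import Cfsg.Agent.M12Nse.CentModel

/-!
The second class of involutions.
-/

set_option autoImplicit false
set_option linter.unusedSectionVars false
set_option linter.style.haveILetI false
set_option maxRecDepth 100000

namespace Cfsg.Lib.M12Nse

open Subgroup Cfsg.Lib.SameOrder Cfsg.Lib.Small Equiv

/-- the central involution in the model -/
def sK : K5 := (dd, 1)

set_option synthInstance.maxSize 4000 in
set_option synthInstance.maxHeartbeats 400000 in
theorem center_R : ∀ x : K5, x * x = 1 → x ≠ 1 → x ≠ uK → (∀ y : K5, y * sK = sK * y → y * x = x * y) →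
    x = sK ∨ x = uK * sK := by decide +kernel

set_option synthInstance.maxSize 4000 in
set_option synthInstance.maxHeartbeats 400000 in
theorem center_only : ∀ x : K5, x * x = 1 → x ≠ 1 → x ≠ uK → (∀ y : K5, y * sK = sK * y → y * x = x * y) →
    ∀ y : K5, x = sK → y * y = 1 → y ≠ 1 → y ≠ uK → y ≠ x →
      (∀ v : K5, v * sK = sK * v → v * y = y * v) → y = uK * x := by decide +kernel

set_option synthInstance.maxSize 4000 in
set_option synthInstance.maxHeartbeats 400000 in
theorem center_R_other : ∀ y : K5, y * y = 1 → y ≠ 1 → y ≠ uK → y ≠ uK * sK →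
      (∀ v : K5, v * sK = sK * v → v * y = y * v) → y = sK := by decide +kernel

theorem card_cent_sK : (Finset.univ.filter fun y : K5 => y * sK = sK * y).card = 16 := by decide +kernel

theorem sK_square : ∃ a : K5, a * sK = sK * a ∧ a * a = sK := by decide +kernel

theorem uK_not_square : ∀ a : K5, a * a ≠ uK := by decide +kernel

theorem sK_inverts : ∃ y : K5, (sK * (y * sK * y⁻¹)) ^ 5 = 1 ∧ sK * (y * sK * y⁻¹) ≠ 1 := by decide +kernel

theorem three_count : (Finset.univ.filter fun x : K5 => x ^ 3 = 1 ∧ x ≠ 1).card = 20 := by decide +kernel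

theorem odd_cent : ∀ g : Multiplicative (ZMod 2),
    (Finset.univ.filter fun y : K5 => y * (tp, g) = (tp, g) * y).card = 24 ∧
    ∀ y : K5, y * (tp, g) = (tp, g) * y →
      y * (cyc, 1) * y⁻¹ = (cyc, 1) ∨ y * (cyc, 1) * y⁻¹ = (cyc, 1)⁻¹ := by decide +kernel

theorem tp_facts : ∀ g : Multiplicative (ZMod 2), ((tp, g) : K5) * (tp, g) = 1 ∧ ((tp, g) : K5) ≠ 1 ∧
    ((cyc, 1) : K5) ^ 3 = 1 ∧ ((cyc, 1) : K5) ≠ 1 ∧ ((cyc, 1) : K5) * (tp, g) = (tp, g) * (cyc, 1) := by decide +kernel

set_option synthInstance.maxSize 4000 in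
set_option synthInstance.maxHeartbeats 400000 in
theorem invol_types : ∀ x : K5, x * x = 1 → x ≠ 1 → x ≠ uK → ∃ y : K5,
    y * x * y⁻¹ = sK ∨ y * x * y⁻¹ = uK * sK ∨ y * x * y⁻¹ = (tp, 1) ∨ y * x * y⁻¹ = (tp, Multiplicative.ofAdd 1) := by
  decide +kernel

theorem type_inv : ∀ x y : K5, (Perm.sign (y * x * y⁻¹).1 = Perm.sign x.1) ∧ (y * x * y⁻¹).2 = x.2 := fun x y => by
  refine ⟨?_, ?_⟩
  · rw [Prod.fst_mul, Prod.fst_mul, Prod.fst_inv, Perm.sign_mul, Perm.sign_mul, Perm.sign_inv,
      mul_comm (Perm.sign y.1), mul_assoc, Int.units_mul_self, mul_one]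
  · rw [Prod.snd_mul, Prod.snd_mul, Prod.snd_inv, mul_comm y.2, mul_inv_cancel_right]

/-- the type of the central involution -/
def isS (x : K5) : Bool := decide (Perm.sign x.1 = 1) && decide (x.2 = 1)

theorem isS_conj : ∀ x y : K5, isS (y * x * y⁻¹) = isS x := fun x y => by
  rw [isS, isS, (type_inv x y).1, (type_inv x y).2]

theorem isS_vals : isS sK = true ∧ isS uK = false ∧ isS (uK * sK) = false ∧ isS (tp, 1) = false ∧
    isS (tp, Multiplicative.ofAdd 1) = false := by decide +kernel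

theorem sK_facts : sK * sK = 1 ∧ sK ≠ 1 ∧ uK * sK = sK * uK := by decide +kernel

theorem uK_facts : uK * sK * uK = sK ∧ ((tp, 1) : K5) * uK = (tp, Multiplicative.ofAdd 1) ∧
    ((tp, Multiplicative.ofAdd 1) : K5) * uK = (tp, 1) := by decide +kernel

theorem uK_comm : ∀ y : K5, y * uK = uK * y := by decide +kernel

theorem uK_move {x y : K5} : y * x * y⁻¹ * uK = y * (x * uK) * y⁻¹ := by
  rw [mul_assoc (y * x), uK_comm y⁻¹, ← mul_assoc, mul_assoc y x]

theorem zmod_two_cases : ∀ g : Multiplicative (ZMod 2), g = 1 ∨ g = Multiplicative.ofAdd 1 := by decide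

universe u

variable {G : Type u} [Group G] [Finite G]

/-- the centraliser of an involution commuting with an element of order five, identified with the model -/
structure UData (G : Type u) [Group G] where
  /-- the involution -/
  u : G
  /-- an element of order five -/
  q : G
  loc : Local G
  five : IsFive u q
  card_u : Nat.card ↥(centralizer ({u} : Set G)) = 240
  /-- either the involution is a product of two of its conjugates, or the elements of order six are counted -/
  split : (∃ a b : G, IsConj u a ∧ IsConj u b ∧ a * b = u) ∨ cnt G 6 = 23760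
  /-- the identification -/
  e : ↥(centralizer ({u} : Set G)) ≃* K5
  eu : e ⟨u, mem_centralizer_singleton_iff.2 rfl⟩ = uK

theorem exists_uData (H : Hyp G) : Nonempty (UData G) := by
  obtain ⟨u, q, h⟩ := exists_isFive H.toLocal
  obtain ⟨e, he⟩ := h.exists_model H.toLocal (h.card_cent H) fun x y h hx hy _ => no_twelve H h hx hy
  exact ⟨⟨u, q, H.toLocal, h, h.card_cent H, Or.inr (spectrum H).1, e, he⟩⟩

namespace UData

variable (D : UData G)

/-- an element of the centraliser from the model -/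
noncomputable def el (x : K5) : G := (D.e.symm x : G)

theorem el_mul (x y : K5) : D.el (x * y) = D.el x * D.el y := by simp [el]

theorem el_one : D.el 1 = 1 := by simp [el]

theorem el_inv (x : K5) : D.el x⁻¹ = (D.el x)⁻¹ := by simp [el]

theorem el_inj {x y : K5} (h : D.el x = D.el y) : x = y := D.e.symm.injective (Subtype.ext h)

theorem el_uK : D.el uK = D.u := by rw [el, ← D.eu, MulEquiv.symm_apply_apply]

theorem el_mem (x : K5) : D.el x * D.u = D.u * D.el x := mem_centralizer_singleton_iff.1 (D.e.symm x).2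

theorem el_surj {g : G} (h : g * D.u = D.u * g) : ∃ x, D.el x = g :=
  ⟨D.e ⟨g, mem_centralizer_singleton_iff.2 h⟩, by simp [el]⟩

theorem el_order (x : K5) : orderOf (D.el x) = orderOf x := by
  rw [el, Subgroup.orderOf_coe, MulEquiv.orderOf_eq]

theorem el_commute {x y : K5} (h : x * y = y * x) : D.el x * D.el y = D.el y * D.el x := by
  rw [← el_mul, ← el_mul, h]

theorem el_commute_iff {x y : K5} : D.el x * D.el y = D.el y * D.el x ↔ x * y = y * x :=
  ⟨fun h => D.el_inj (by rw [el_mul, el_mul, h]), D.el_commute⟩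

theorem el_two {x : K5} (h : x * x = 1) (h1 : x ≠ 1) : orderOf (D.el x) = 2 := by
  haveI : Fact (Nat.Prime 2) := ⟨Nat.prime_two⟩
  rw [el_order]
  exact orderOf_eq_prime (by rw [pow_two, h]) h1

theorem el_conj (y x : K5) : IsConj (D.el x) (D.el (y * x * y⁻¹)) :=
  isConj_iff.2 ⟨D.el y, by rw [el_mul, el_mul, el_inv]⟩

/-- the second involution -/
noncomputable def z : G := D.el sK

theorem z_two : orderOf D.z = 2 := D.el_two sK_facts.1 sK_facts.2.1

/-- An element of the centre of a Sylow subgroup, and fusion of two involutions of the centraliser. -/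
theorem fusion : IsConj D.u (D.el (uK * sK)) ∧ 64 ∣ Nat.card ↥(centralizer ({D.z} : Set G)) := by
  classical
  haveI : Fact (Nat.Prime 2) := ⟨Nat.prime_two⟩
  have H := D.loc
  obtain ⟨huu, hu1⟩ := two_iff.1 D.five.two
  set C := centralizer ({D.u} : Set G) with hCd
  set R := C ⊓ centralizer ({D.z} : Set G) with hRd
  have hmemR : ∀ {g : G}, g ∈ R ↔ ∃ x : K5, x * sK = sK * x ∧ D.el x = g := by
    intro g
    constructor
    · rintro ⟨h1, h2⟩
      obtain ⟨x, rfl⟩ := D.el_surj (mem_centralizer_singleton_iff.1 h1)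
      exact ⟨x, D.el_commute_iff.1 (mem_centralizer_singleton_iff.1 h2), rfl⟩
    · rintro ⟨x, hx, rfl⟩
      exact ⟨mem_centralizer_singleton_iff.2 (D.el_mem x), mem_centralizer_singleton_iff.2 (D.el_commute hx)⟩
  have hR : Nat.card ↥R = 16 := by
    rw [← card_cent_sK, ← Fintype.card_subtype, ← Nat.card_eq_fintype_card]
    exact (Nat.card_congr (Equiv.ofBijective (fun x => (⟨D.el x.1, hmemR.2 ⟨x.1, x.2, rfl⟩⟩ : ↥R))
      ⟨fun a b h => by
        have h' := congrArg Subtype.val h
        exact Subtype.ext (D.el_inj h'), fun g => by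
        obtain ⟨x, hx, he⟩ := hmemR.1 g.2
        exact ⟨⟨x, hx⟩, Subtype.ext he⟩⟩)).symm
  obtain ⟨T, hT⟩ := (IsPGroup.of_card (p := 2) (n := 4) (by rw [hR]; norm_num) : IsPGroup 2 ↥R).exists_le_sylow
  have hTc : Nat.card ↥(T : Subgroup G) = 64 := by
    simpa using card_sylow_of_factor T (a := 6) (m := 1485) (by rw [H.card]; norm_num) (by norm_num)
  have hTC : (T : Subgroup G) ⊓ C = R := by
    refine (Subgroup.eq_of_le_of_card_ge (le_inf hT inf_le_left) ?_).symm
    obtain ⟨k, hk⟩ := (T.2.to_le (inf_le_left : (T : Subgroup G) ⊓ C ≤ _)).exists_card_eq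
    have hd := Subgroup.card_dvd_of_le (inf_le_right : (T : Subgroup G) ⊓ C ≤ C)
    rw [hCd, D.card_u, ← hCd, hk] at hd
    rw [hR, hk]
    have hk4 : k ≤ 4 := by
      by_contra hlt
      have : 2 ^ 5 ∣ 240 := (pow_dvd_pow 2 (by omega)).trans hd
      norm_num at this
    calc 2 ^ k ≤ 2 ^ 4 := Nat.pow_le_pow_right (by norm_num) hk4
      _ = 16 := by norm_num
  have huR : D.u ∈ R := hmemR.2 ⟨uK, sK_facts.2.2, D.el_uK⟩
  have hnt : Nontrivial ↥(T : Subgroup G) := Finite.one_lt_card_iff_nontrivial.1 (by rw [hTc]; norm_num)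
  have hZT := T.2.center_nontrivial
  obtain ⟨k, hk⟩ := (T.2.to_subgroup (center ↥(T : Subgroup G))).exists_card_eq
  have h2d : 2 ∣ Nat.card ↥(center ↥(T : Subgroup G)) := by
    rw [hk]
    refine dvd_pow_self 2 fun e => ?_
    rw [e, pow_zero] at hk
    exact absurd hk (Finite.one_lt_card_iff_nontrivial.2 hZT).ne'
  obtain ⟨⟨⟨w, hwT⟩, hwc⟩, hwo⟩ := exists_prime_orderOf_dvd_card' 2 h2d
  rw [← Subgroup.orderOf_coe, ← Subgroup.orderOf_coe] at hwo
  change orderOf w = 2 at hwo
  have hwcomm : ∀ x ∈ (T : Subgroup G), x * w = w * x := fun x hx =>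
    congrArg Subtype.val (mem_center_iff.1 hwc ⟨x, hx⟩)
  obtain ⟨x, rfl⟩ := D.el_surj (hwcomm _ (hT huR)).symm
  obtain ⟨hww, hw1⟩ := two_iff.1 hwo
  have hxx : x * x = 1 := D.el_inj (by rw [el_mul, el_one]; exact hww)
  have hx1 : x ≠ 1 := fun e => hw1 (by rw [e, el_one])
  have hxu : x ≠ uK := fun e => by
    have hle : (T : Subgroup G) ≤ C := fun g hg => mem_centralizer_singleton_iff.2 (by
      rw [← D.el_uK, ← e]; exact hwcomm g hg)
    have := Subgroup.card_dvd_of_le hle
    rw [hTc, hCd, D.card_u] at this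
    norm_num at this
  have hxc : ∀ y : K5, y * sK = sK * y → y * x = x * y := fun y hy =>
    D.el_commute_iff.1 (hwcomm _ (hT (hmemR.2 ⟨y, hy, rfl⟩)))
  -- an element of the Sylow subgroup moving the involution
  haveI : Group.IsNilpotent ↥(T : Subgroup G) := T.2.isNilpotent
  have hlt : R.subgroupOf (T : Subgroup G) < ⊤ := by
    refine lt_top_iff_ne_top.2 fun e => ?_
    have h := Subgroup.subgroupOf_eq_top.1 e
    have := Nat.le_of_dvd Nat.card_pos (Subgroup.card_dvd_of_le h)
    omega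
  obtain ⟨⟨t, htT⟩, htN, htR⟩ :=
    SetLike.exists_of_lt (Group.normalizerCondition_of_isNilpotent (R.subgroupOf (T : Subgroup G)) hlt)
  have htR' : t ∉ R := htR
  have htC : t * D.u ≠ D.u * t := fun h => htR' (hTC ▸ ⟨htT, mem_centralizer_singleton_iff.2 h⟩)
  have hconjR : ∀ r ∈ R, t * r * t⁻¹ ∈ R := fun r hr =>
    (Subgroup.mem_normalizer_iff.1 htN ⟨r, hT hr⟩).1 hr
  have hconjR' : ∀ r ∈ R, t⁻¹ * r * t ∈ R := fun r hr => by
    have := (Subgroup.mem_normalizer_iff.1 htN ⟨t⁻¹ * r * t,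
      mul_mem (mul_mem (inv_mem htT) (hT hr)) htT⟩).2
    refine this ?_
    show t * (t⁻¹ * r * t) * t⁻¹ ∈ R
    rwa [show t * (t⁻¹ * r * t) * t⁻¹ = r by group]
  obtain ⟨y, hy, hye⟩ := hmemR.1 (hconjR _ huR)
  have hyy : y * y = 1 := D.el_inj (by
    rw [el_mul, el_one, hye, show t * D.u * t⁻¹ * (t * D.u * t⁻¹) = t * (D.u * D.u) * t⁻¹ by group, huu, mul_one,
      mul_inv_cancel])
  have hy1 : y ≠ 1 := fun e => hu1 (by
    rw [e, el_one, eq_comm, mul_inv_eq_one, mul_eq_left] at hye; exact hye)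
  have hyu : y ≠ uK := fun e => htC (by
    rw [e, el_uK] at hye
    exact mul_inv_eq_iff_eq_mul.1 hye.symm)
  have hyc : ∀ v : K5, v * sK = sK * v → v * y = y * v := fun v hv => by
    refine D.el_commute_iff.1 ?_
    rw [hye]
    obtain ⟨r, hr, hre⟩ := hmemR.1 (hconjR' _ (hmemR.2 ⟨v, hv, rfl⟩))
    have hc := D.el_mem r
    rw [hre] at hc
    calc D.el v * (t * D.u * t⁻¹) = t * (t⁻¹ * D.el v * t * D.u) * t⁻¹ := by group
      _ = t * (D.u * (t⁻¹ * D.el v * t)) * t⁻¹ := by rw [hc]
      _ = t * D.u * t⁻¹ * D.el v := by group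
  have hyx : y ≠ x := fun e => by
    have h := hwcomm t htT
    rw [← e, hye] at h
    refine htC (mul_inv_eq_iff_eq_mul.1 ?_)
    have := congrArg (fun g => t⁻¹ * g) h
    calc t * D.u * t⁻¹ = t⁻¹ * (t * (t * D.u * t⁻¹)) := by group
      _ = t⁻¹ * (t * D.u * t⁻¹ * t) := this
      _ = D.u := by group
  rcases center_R x hxx hx1 hxu hxc with rfl | rfl
  · refine ⟨?_, hTc ▸ Subgroup.card_dvd_of_le fun g hg => mem_centralizer_singleton_iff.2 (hwcomm g hg)⟩
    have hyz := center_only sK hxx hx1 hxu hxc y rfl hyy hy1 hyu hyx hyc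
    rw [← hyz, hye]
    exact isConj_iff.2 ⟨t, rfl⟩
  · exfalso
    obtain rfl := center_R_other y hyy hy1 hyu hyx hyc
    obtain ⟨a, hac, haa⟩ := sK_square
    obtain ⟨b, hb, hbe⟩ := hmemR.1 (hconjR _ (hmemR.2 ⟨a, hac, rfl⟩))
    refine uK_not_square b (D.el_inj ?_)
    have h1 : t * D.el (uK * sK) * t⁻¹ = D.el (uK * sK) := by
      rw [hwcomm t htT, mul_inv_cancel_right]
    rw [el_mul, el_uK] at h1
    rw [el_mul, hbe, el_uK, show t * D.el a * t⁻¹ * (t * D.el a * t⁻¹) = t * (D.el a * D.el a) * t⁻¹ by group,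
      ← el_mul, haa]
    calc t * D.el sK * t⁻¹ = t * (D.u * (D.u * D.el sK)) * t⁻¹ := by rw [← mul_assoc D.u, huu, one_mul]
      _ = (t * D.u * t⁻¹) * (t * (D.u * D.el sK) * t⁻¹) := by group
      _ = D.el sK * (D.u * D.el sK) := by rw [← hye, h1]
      _ = D.u * (D.el sK * D.el sK) := by rw [← mul_assoc, D.el_mem, mul_assoc]
      _ = D.u := by rw [← el_mul, hyy, el_one, mul_one]

theorem z_not_conj_u : ¬ IsConj D.u D.z := fun h => by
  have := D.fusion.2
  rw [conj_card_centralizer h, D.card_u] at this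
  norm_num at this

theorem card_cent_z : Nat.card ↥(centralizer ({D.z} : Set G)) = 192 := by
  classical
  haveI : Fact (Nat.Prime 5) := ⟨by norm_num⟩
  have H := D.loc
  obtain ⟨a, ha⟩ := D.fusion.2
  set C := centralizer ({D.z} : Set G) with hCd
  have hzC : D.z ∈ C := mem_centralizer_singleton_iff.2 rfl
  have hd : a ∣ 1485 := by
    have := Subgroup.card_subgroup_dvd_card C
    rw [ha, H.card, show (95040 : ℕ) = 64 * 1485 by norm_num] at this
    exact Nat.dvd_of_mul_dvd_mul_left (by norm_num) this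
  have h5 : ¬ 5 ∣ Nat.card ↥C := fun h5 => by
    obtain ⟨⟨p, hp⟩, hpo⟩ := exists_prime_orderOf_dvd_card' (G := ↥C) 5 h5
    rw [← Subgroup.orderOf_coe] at hpo
    exact D.z_not_conj_u (D.five.conj H ⟨D.z_two, hpo, (mem_centralizer_singleton_iff.1 hp).symm⟩)
  have h11 : ¬ 11 ∣ Nat.card ↥C := fun h11 => by
    haveI : Fact (Nat.Prime 11) := ⟨by norm_num⟩
    obtain ⟨⟨p, hp⟩, hpo⟩ := exists_prime_orderOf_dvd_card' (G := ↥C) 11 h11
    rw [← Subgroup.orderOf_coe] at hpo
    change orderOf p = 11 at hpo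
    have := H.cent_eleven hpo ▸ dvd_centralizer_orderOf (mem_centralizer_singleton_iff.1 hp).symm
    rw [D.z_two] at this
    norm_num at this
  obtain ⟨y, hy5, hy1⟩ := sK_inverts
  set z' := D.el (y * sK * y⁻¹) with hz'
  have hp5 : orderOf (D.z * z') = 5 := by
    rw [hz', z, ← el_mul, el_order]
    exact orderOf_eq_prime hy5 hy1
  set K := C ⊓ centralizer ({z'} : Set G) with hKd
  have hK : Nat.card ↥K ≤ 2 := by
    have hle : K ≤ centralizer ({D.z * z'} : Set G) := fun k hk => mem_centralizer_singleton_iff.2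
      (((show Commute k D.z from mem_centralizer_singleton_iff.1 hk.1).mul_right
        (mem_centralizer_singleton_iff.1 hk.2 : Commute k z')).eq)
    have h1 := (H.cent_five hp5).1 ▸ Subgroup.card_dvd_of_le hle
    have h2 := Subgroup.card_dvd_of_le (show K ≤ C from inf_le_left)
    have hk : Nat.card ↥K ∈ Nat.divisors 10 := Nat.mem_divisors.2 ⟨h1, by norm_num⟩
    rw [show Nat.divisors 10 = {1, 2, 5, 10} by decide +kernel] at hk
    simp only [Finset.mem_insert, Finset.mem_singleton] at hk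
    have : ¬ 5 ∣ Nat.card ↥K := fun h => h5 (h.trans h2)
    omega
  have horb := Cfsg.Lib.MathieuEleven.ncard_conj_orbit C z'
  have hsub : (Set.range fun k : C => (k : G) * z' * (k : G)⁻¹).ncard ≤ Nat.card {x : G // IsConj D.z x} := by
    rw [show Nat.card {x : G // IsConj D.z x} = {x : G | IsConj D.z x}.ncard from Nat.card_coe_set_eq _]
    refine Set.ncard_le_ncard ?_ (Set.toFinite _)
    rintro _ ⟨k, rfl⟩
    exact (D.el_conj y sK).trans (isConj_iff.2 ⟨k, rfl⟩)
  have hmul := card_isConj_mul D.z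
  have hcls := class_le H D.z_two
  rw [← hCd, H.card] at hmul
  rw [← hKd] at horb
  set o := (Set.range fun k : C => (k : G) * z' * (k : G)⁻¹).ncard
  set c := Nat.card {x : G // IsConj D.z x}
  have hle : Nat.card ↥C ≤ c * 2 := horb ▸ Nat.mul_le_mul hsub hK
  have hlist : ∀ i ∈ Nat.divisors 1485, ¬ 5 ∣ 64 * i → ¬ 11 ∣ 64 * i → i = 1 ∨ i = 3 ∨ i = 9 ∨ i = 27 := by decide +kernel
  rw [ha] at h5 h11 hle hmul ⊢
  rcases hlist a (Nat.mem_divisors.2 ⟨hd, by norm_num⟩) h5 h11 with e | e | e | e <;> rw [e] at hle hmul ⊢ <;> omega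

theorem card_class_u : Nat.card {x : G // IsConj D.u x} = 396 := by
  have := card_isConj_mul D.u
  rw [D.card_u, D.loc.card] at this
  omega

theorem card_class_z : Nat.card {x : G // IsConj D.z x} = 495 := by
  have := card_isConj_mul D.z
  rw [D.card_cent_z, D.loc.card] at this
  omega

/-- There are two classes of involutions. -/
theorem two_classes {v : G} (hv : orderOf v = 2) : IsConj D.u v ∨ IsConj D.z v := by
  by_contra! hno
  have hdis : Disjoint {x : G | IsConj D.u x} {x : G | IsConj D.z x} := Set.disjoint_left.2 fun x h1 h2 =>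
    D.z_not_conj_u (h1.trans h2.symm)
  have h1 : {x : G | IsConj D.u x}.ncard = 396 := (Nat.card_coe_set_eq _).symm.trans D.card_class_u
  have h2 : {x : G | IsConj D.z x}.ncard = 495 := (Nat.card_coe_set_eq _).symm.trans D.card_class_z
  have h3 : {x : G | orderOf x = 2}.ncard = 891 := (Nat.card_coe_set_eq _).symm.trans D.loc.cnt_two
  have hsub : insert v ({x : G | IsConj D.u x} ∪ {x : G | IsConj D.z x}) ⊆ {x : G | orderOf x = 2} := by
    rintro x (rfl | h | h)
    exacts [hv, conj_two h D.five.two, conj_two h D.z_two]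
  have := Set.ncard_le_ncard hsub (Set.toFinite _)
  rw [Set.ncard_insert_of_notMem (fun h => h.elim hno.1 hno.2) (Set.toFinite _),
    Set.ncard_union_eq hdis (Set.toFinite _) (Set.toFinite _)] at this
  omega

/-- The elements of order three commuting with an involution. -/
theorem three_cent (v : G) (hv : IsConj D.u v) :
    Nat.card {y : G // orderOf y = 3 ∧ y * v = v * y} = 20 := by
  obtain ⟨g, rfl⟩ := isConj_iff.1 hv
  rw [← three_count, ← Fintype.card_subtype, ← Nat.card_eq_fintype_card]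
  refine (Nat.card_congr (Equiv.ofBijective (fun x => (⟨g * D.el x.1 * g⁻¹, ?_, ?_⟩ :
    {y : G // orderOf y = 3 ∧ y * (g * D.u * g⁻¹) = g * D.u * g⁻¹ * y})) ⟨fun a b h => by
      have h' := congrArg Subtype.val h
      exact Subtype.ext (D.el_inj (mul_left_cancel (mul_right_cancel h'))), fun y => ?_⟩)).symm
  · haveI : Fact (Nat.Prime 3) := ⟨Nat.prime_three⟩
    rw [← MulAut.conj_apply, MulEquiv.orderOf_eq, el_order]
    exact orderOf_eq_prime x.2.1 x.2.2
  · calc g * D.el x.1 * g⁻¹ * (g * D.u * g⁻¹) = g * (D.el x.1 * D.u) * g⁻¹ := by group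
      _ = g * (D.u * D.el x.1) * g⁻¹ := by rw [D.el_mem]
      _ = _ := by group
  · obtain ⟨x, hx⟩ := D.el_surj (g := g⁻¹ * y.1 * g) (by
      calc g⁻¹ * y.1 * g * D.u = g⁻¹ * (y.1 * (g * D.u * g⁻¹)) * g := by group
        _ = g⁻¹ * (g * D.u * g⁻¹ * y.1) * g := by rw [y.2.2]
        _ = _ := by group)
    have ho : orderOf x = 3 := by
      rw [← D.el_order, hx]
      have := MulEquiv.orderOf_eq (MulAut.conj g⁻¹) y.1
      rw [MulAut.conj_apply, inv_inv] at this
      rw [this, y.2.1]
    exact ⟨⟨x, orderOf_dvd_iff_pow_eq_one.1 ho.dvd, fun e => by rw [e, orderOf_one] at ho; omega⟩,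
      Subtype.ext (by show g * D.el x * g⁻¹ = y.1; rw [hx]; group)⟩

theorem card_three_cent_conj {v w : G} (h : IsConj v w) :
    Nat.card {y : G // orderOf y = 3 ∧ y * w = w * y} = Nat.card {y : G // orderOf y = 3 ∧ y * v = v * y} := by
  obtain ⟨g, rfl⟩ := isConj_iff.1 h
  refine (Nat.card_congr ((MulAut.conj g).toEquiv.subtypeEquiv fun y => ?_)).symm
  simp only [MulEquiv.toEquiv_eq_coe, MulEquiv.coe_toEquiv]
  rw [MulEquiv.orderOf_eq, MulAut.conj_apply]
  constructor
  · rintro ⟨h1, h2⟩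
    refine ⟨h1, ?_⟩
    calc g * y * g⁻¹ * (g * v * g⁻¹) = g * (y * v) * g⁻¹ := by group
      _ = g * (v * y) * g⁻¹ := by rw [h2]
      _ = _ := by group
  · rintro ⟨h1, h2⟩
    exact ⟨h1, mul_left_cancel (mul_right_cancel (show g * (y * v) * g⁻¹ = g * (v * y) * g⁻¹ by
      calc g * (y * v) * g⁻¹ = g * y * g⁻¹ * (g * v * g⁻¹) := by group
        _ = g * v * g⁻¹ * (g * y * g⁻¹) := h2
        _ = _ := by group))⟩

/-- The centraliser of the second involution has thirty-two elements of order three. -/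
theorem three_cent_z (h6 : cnt G 6 = 23760) : Nat.card {y : G // orderOf y = 3 ∧ y * D.z = D.z * y} = 32 := by
  classical
  have := Fintype.ofFinite G
  have e : {g : G // orderOf g = 6} ≃ Σ v : {v : G // orderOf v = 2}, {y : G // orderOf y = 3 ∧ y * v.1 = v.1 * y} :=
    { toFun := fun g => ⟨⟨g.1 ^ 3, by rw [(orderOf_pow g.1 : orderOf (g.1 ^ 3) = _), g.2]; norm_num⟩,
        ⟨g.1 ^ 4, by rw [(orderOf_pow g.1 : orderOf (g.1 ^ 4) = _), g.2]; norm_num, (Commute.pow_pow_self g.1 4 3).eq⟩⟩
      invFun := fun p => ⟨p.1.1 * p.2.1, by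
        rw [(show Commute p.1.1 p.2.1 from p.2.2.2.symm).orderOf_mul_eq_mul_orderOf_of_coprime
          (by rw [p.1.2, p.2.2.1]; norm_num), p.1.2, p.2.2.1]⟩
      left_inv := fun g => Subtype.ext (by
        show g.1 ^ 3 * g.1 ^ 4 = g.1
        rw [← pow_add, pow_succ, show g.1 ^ 6 = 1 from orderOf_dvd_iff_pow_eq_one.1 g.2.dvd, one_mul])
      right_inv := fun p => by
        obtain ⟨⟨v, hv⟩, ⟨y, hy, hc⟩⟩ := p
        have hv2 : v ^ 2 = 1 := orderOf_dvd_iff_pow_eq_one.1 hv.dvd
        have hy3 : y ^ 3 = 1 := orderOf_dvd_iff_pow_eq_one.1 hy.dvd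
        have hvy : Commute v y := hc.symm
        have h1 : (v * y) ^ 3 = v := by rw [hvy.mul_pow, hy3, mul_one, pow_succ, hv2, one_mul]
        have h2 : (v * y) ^ 4 = y := by
          rw [hvy.mul_pow, show (4 : ℕ) = 2 * 2 from rfl, pow_mul, hv2, one_pow, one_mul,
            show 2 * 2 = 3 + 1 from rfl, pow_add, hy3, one_mul, pow_one]
        exact Sigma.subtype_ext (Subtype.ext h1) h2 }
  rw [cnt, Nat.card_congr e, Nat.card_sigma] at h6
  have hsum : (∑ v : {v : G // orderOf v = 2}, Nat.card {y : G // orderOf y = 3 ∧ y * v.1 = v.1 * y}) =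
      ∑ v : {v : G // orderOf v = 2}, if IsConj D.u v.1 then 20 else
        Nat.card {y : G // orderOf y = 3 ∧ y * D.z = D.z * y} :=
    Finset.sum_congr rfl fun v _ => by
      split_ifs with h
      · exact D.three_cent _ h
      · exact card_three_cent_conj ((D.two_classes v.2).resolve_left h)
  rw [hsum, Finset.sum_ite, Finset.sum_const, Finset.sum_const, smul_eq_mul, smul_eq_mul] at h6
  have hall : (Finset.univ : Finset {v : G // orderOf v = 2}).card = 891 := by
    rw [Finset.card_univ, ← Nat.card_eq_fintype_card]; exact D.loc.cnt_two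
  have hU : ((Finset.univ : Finset {v : G // orderOf v = 2}).filter fun v => IsConj D.u v.1).card = 396 := by
    rw [← D.card_class_u, ← Fintype.card_subtype, ← Nat.card_eq_fintype_card]
    exact Nat.card_congr
      { toFun := fun v => ⟨v.1.1, v.2⟩
        invFun := fun x => ⟨⟨x.1, conj_two x.2 D.five.two⟩, x.2⟩
        left_inv := fun v => rfl
        right_inv := fun x => rfl }
  have hsplit := Finset.card_filter_add_card_filter_not (s := (Finset.univ : Finset {v : G // orderOf v = 2}))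
    (fun v => IsConj D.u v.1)
  rw [hall, hU] at hsplit
  rw [hU] at h6
  rw [show ((Finset.univ : Finset {v : G // orderOf v = 2}).filter fun v => ¬ IsConj D.u v.1).card = 495 by omega] at h6
  omega

/-- The normaliser of an element of order three in the centraliser of a conjugate of the second involution. -/
theorem normalizer_three (h6 : cnt G 6 = 23760) {v : G} (hv : IsConj D.z v) {w : G} (hw : orderOf w = 3) (hc : w * v = v * w) :
    Nat.card ↥(centralizer ({v} : Set G) ⊓ normalizer (zpowers w : Set G)) = 12 := by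
  haveI : Fact (Nat.Prime 3) := ⟨Nat.prime_three⟩
  set C := centralizer ({v} : Set G) with hCd
  have hC : Nat.card ↥C = 192 := (conj_card_centralizer hv).trans D.card_cent_z
  have h32 : Nat.card {y : G // orderOf y = 3 ∧ y * v = v * y} = 32 := (card_three_cent_conj hv).trans (D.three_cent_z h6)
  have hS : ∀ P : Sylow 3 ↥C, Nat.card ↥(P : Subgroup ↥C) = 3 := fun P => by
    simpa using card_sylow_of_factor P (a := 1) (m := 64) (by rw [hC]; norm_num) (by norm_num)
  have h1 := cnt_prime hS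
  have e : cnt ↥C 3 = 32 := h32 ▸ Nat.card_congr
    { toFun := fun g => ⟨g.1.1, by rw [Subgroup.orderOf_coe]; exact g.2, mem_centralizer_singleton_iff.1 g.1.2⟩
      invFun := fun y => ⟨⟨y.1, mem_centralizer_singleton_iff.2 y.2.2⟩, by rw [← Subgroup.orderOf_coe]; exact y.2.1⟩
      left_inv := fun g => rfl
      right_inv := fun y => rfl }
  have hle : zpowers w ≤ C := zpowers_le.2 (mem_centralizer_singleton_iff.2 hc)
  have h2 := (Cfsg.Lib.MathieuEleven.sylow_count C hle (n := 1) (by rw [Nat.card_zpowers, hw, pow_one])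
    (by rw [hC]; norm_num)).1
  rw [hC, show Nat.card (Sylow 3 ↥C) = 16 by omega] at h2
  omega

theorem tp_class (hp : ∃ a b : G, IsConj D.u a ∧ IsConj D.u b ∧ a * b = D.u) (g : Multiplicative (ZMod 2)) :
    IsConj D.u (D.el (tp, g)) := by
  obtain ⟨a, b, ha, hb, hab⟩ := hp
  obtain ⟨haa, ha1⟩ := two_iff.1 (conj_two ha D.five.two)
  obtain ⟨hbb, hb1⟩ := two_iff.1 (conj_two hb D.five.two)
  have hb' : b = a * D.u := by rw [← hab, ← mul_assoc, haa, one_mul]
  have hcomm : a * D.u = D.u * a := by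
    have h : a * D.u * (a * D.u) = 1 := hb' ▸ hbb
    calc a * D.u = (a * D.u)⁻¹ := eq_inv_of_mul_eq_one_left h
      _ = D.u⁻¹ * a⁻¹ := mul_inv_rev _ _
      _ = _ := by rw [inv_eq_of_mul_eq_one_right haa, inv_eq_of_mul_eq_one_right (two_iff.1 D.five.two).1]
  obtain ⟨x, hx⟩ := D.el_surj hcomm
  have hxb : D.el (x * uK) = b := by rw [el_mul, el_uK, hx, hb']
  obtain ⟨y, hy⟩ := invol_types x (D.el_inj (by rw [el_mul, el_one, hx, haa]))
    (fun e => ha1 (by rw [← hx, e, el_one]))
    (fun e => hb1 (by rw [hb', ← hx, e, el_uK, (two_iff.1 D.five.two).1]))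
  have hUa : IsConj D.u (D.el (y * x * y⁻¹)) := (hx ▸ ha : IsConj D.u (D.el x)).trans (D.el_conj y x)
  have hUb : IsConj D.u (D.el (y * (x * uK) * y⁻¹)) :=
    (hxb ▸ hb : IsConj D.u (D.el (x * uK))).trans (D.el_conj y (x * uK))
  rw [← uK_move] at hUb
  rcases hy with e | e | e | e <;> rw [e] at hUa hUb
  · exact absurd hUa D.z_not_conj_u
  · rw [uK_facts.1] at hUb
    exact absurd hUb D.z_not_conj_u
  all_goals (rcases zmod_two_cases g with rfl | rfl)
  · exact hUa
  · rw [uK_facts.2.1] at hUb; exact hUb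
  · rw [uK_facts.2.2] at hUb; exact hUb
  · exact hUa

/-- The classes of the involutions of the centraliser. -/
theorem el_class {x : K5} (hx : x * x = 1) (h1 : x ≠ 1) : IsConj D.z (D.el x) ↔ isS x = true := by
  classical
  have hu : IsConj D.u (D.el uK) := by rw [el_uK]
  have htp : ∀ g : Multiplicative (ZMod 2), IsConj D.u (D.el (tp, g)) := by
    rcases D.split with hp | h6
    · exact D.tp_class hp
    intro g
    obtain ⟨hsq, hne, hc3, hc1, hcc⟩ := tp_facts g
    refine (D.two_classes (D.el_two hsq hne)).resolve_right fun hz => ?_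
    haveI : Fact (Nat.Prime 3) := ⟨Nat.prime_three⟩
    have hw : orderOf (D.el (cyc, 1)) = 3 := by rw [el_order]; exact orderOf_eq_prime hc3 hc1
    have hN := D.normalizer_three h6 hz hw (D.el_commute hcc)
    obtain ⟨hcard, hnorm⟩ := odd_cent g
    have hle : Nat.card {y : K5 // y * (tp, g) = (tp, g) * y} ≤
        Nat.card ↥(centralizer ({D.el (tp, g)} : Set G) ⊓ normalizer (zpowers (D.el (cyc, 1)) : Set G)) := by
      refine Nat.card_le_card_of_injective (fun y => ⟨D.el y.1, ⟨mem_centralizer_singleton_iff.2 (D.el_commute y.2),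
        Cfsg.Lib.MathieuEleven.mem_normalizer_zpowers ?_⟩⟩) fun a b h => by
          have h' := congrArg Subtype.val h
          exact Subtype.ext (D.el_inj h')
      rw [← el_inv, ← el_mul, ← el_mul]
      rcases hnorm y.1 y.2 with e | e <;> rw [e]
      · exact mem_zpowers _
      · rw [el_inv]; exact inv_mem (mem_zpowers _)
    rw [Nat.card_eq_fintype_card, Fintype.card_subtype, hcard, hN] at hle
    omega
  have hnot : ∀ {y : G}, IsConj D.u y → ¬ IsConj D.z y := fun h h' => D.z_not_conj_u (h.trans h'.symm)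
  by_cases hxu : x = uK
  · subst hxu
    simp only [isS_vals.2.1, Bool.false_eq_true, iff_false]
    exact hnot hu
  obtain ⟨y, hy⟩ := invol_types x hx h1 hxu
  have hc := D.el_conj y x
  rw [← isS_conj x y]
  rcases hy with e | e | e | e <;> rw [e] at hc ⊢
  · simp only [isS_vals.1, iff_true]
    exact hc.symm
  · simp only [isS_vals.2.2.1, Bool.false_eq_true, iff_false]
    exact hnot (D.fusion.1.trans hc.symm)
  · simp only [isS_vals.2.2.2.1, Bool.false_eq_true, iff_false]
    exact hnot ((htp _).trans hc.symm)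
  · simp only [isS_vals.2.2.2.2, Bool.false_eq_true, iff_false]
    exact hnot ((htp _).trans hc.symm)

end UData

end Cfsg.Lib.M12Nse
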