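import Cfsg.Agent.M12Nse.Frame

/-!
Coordinates in a group presented by the relations of the centraliser.
-/

set_option autoImplicit false
set_option linter.unusedSectionVars false
set_option linter.style.haveILetI false
set_option maxRecDepth 100000

namespace Cfsg.Lib.M12Nse

open Subgroup

universe u

/-- the parameters: action of the outer element, its square, the two commutators -/
structure Par where
  inv : Bool
  eps : Fin 2
  p : Fin 2
  r : Fin 2

/-- codes of the two-group -/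
abbrev Q5 : Type := Fin 2 × Fin 2 × Fin 2 × Fin 2 × Fin 2

/-- codes of the group -/
abbrev E192 : Type := Q5 × Fin 3 × Fin 2

namespace Par

variable (P : Par)

/-- product of the two-group -/
def qmul : Q5 → Q5 → Q5
  | (i, j, k, l, e), (i', j', k', l', e') =>
    (i + i', j + j', k + k', l + l', e + e' + i' * ((P.p + P.r) * l + P.p * k) + j' * (P.p * l + P.r * k))

/-- optional code -/
def qpw (x : Q5) (i : Fin 2) : Q5 := if i = 0 then (0, 0, 0, 0, 0) else x

/-- extension of the images of the four generators -/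
def lin (A B C D : Q5) : Q5 → Q5
  | (i, j, k, l, e) => P.qmul (P.qmul (P.qmul (P.qmul (qpw A i) (qpw B j)) (qpw C k)) (qpw D l)) (0, 0, 0, 0, e)

/-- conjugation by the element of order three -/
def actW : Q5 → Q5 := P.lin (0, 1, 0, 0, 0) (1, 1, 0, 0, 0) (0, 0, 0, 1, 0) (0, 0, 1, 1, 0)

/-- conjugation by the outer element -/
def actY : Q5 → Q5 :=
  P.lin (0, 0, 1, 0, 0) (if P.inv then (0, 0, 1, 1, 0) else (0, 0, 0, 1, 0)) (1, 0, 0, 0, 0)
    (if P.inv then (1, 1, 0, 0, 0) else (0, 1, 0, 0, 0))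

/-- iterated conjugation -/
def actWn (i : Fin 3) (q : Q5) : Q5 := if i = 0 then q else if i = 1 then P.actW q else P.actW (P.actW q)

/-- conjugation by a power of the outer element -/
def actYn (k : Fin 2) (q : Q5) : Q5 := if k = 0 then q else P.actY q

/-- the exponent after passing the outer element -/
def sig (k : Fin 2) (i : Fin 3) : Fin 3 := if k = 0 then i else if P.inv then -i else i

/-- product of the group -/
def emul : E192 → E192 → E192
  | (q, i, k), (q', i', k') =>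
    (P.qmul (P.qmul q (P.actWn i (P.actYn k q'))) (0, 0, 0, 0, k * k' * P.eps), i + P.sig k i', k + k')

end Par

/-- the relations -/
structure Rel (G : Type u) [Group G] (z : G) (P : Par) where
  a : G
  b : G
  w : G
  y : G
  a2 : G
  zz : z * z = 1
  aa : a * a = 1
  bb : b * b = 1
  a22 : a2 * a2 = 1
  za : z * a = a * z
  zb : z * b = b * z
  zw : z * w = w * z
  zy : z * y = y * z
  ab : a * b = b * a
  w3 : w ^ 3 = 1
  wa : w * a * w⁻¹ = b
  wb : w * b * w⁻¹ = a * b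
  ya : y * a * y⁻¹ = a2
  yw : y * w * y⁻¹ = if P.inv then w⁻¹ else w
  yy : y * y = z ^ P.eps.val
  pa : a2 * a * a2 = a * z ^ P.p.val
  pb : a2 * b * a2 = b * z ^ P.r.val

variable {G : Type u} [Group G]

theorem fin2_pow_add {g : G} (hg : g * g = 1) (i j : Fin 2) : g ^ (i + j).val = g ^ i.val * g ^ j.val := by
  rw [← pow_add, Fin.val_add]
  exact (pow_eq_pow_mod _ (by rw [pow_two, hg])).symm

theorem fin2_pow_mul {g : G} (hg : g * g = 1) (i j : Fin 2) : g ^ (i * j).val = g ^ (i.val * j.val) := by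
  rw [Fin.val_mul]
  exact (pow_eq_pow_mod _ (by rw [pow_two, hg])).symm

/-- the commutation rule for two commuting up to a central involution -/
theorem swap_pow {x g z : G} (hzx : z * x = x * z) (hzz : z * z = 1) (hxx : x * x = 1) {c : Fin 2}
    (h : x * g * x = g * z ^ c.val) (i j : Fin 2) :
    x ^ i.val * g ^ j.val = g ^ j.val * x ^ i.val * z ^ (c * i * j).val := by
  have h' : x * g = g * x * z ^ c.val := by
    calc x * g = x * g * (x * x) := by rw [hxx, mul_one]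
      _ = x * g * x * x := by group
      _ = g * z ^ c.val * x := by rw [h]
      _ = g * (z ^ c.val * x) := by group
      _ = g * (x * z ^ c.val) := by rw [((show Commute z x from hzx).pow_left c.val).eq]
      _ = _ := by group
  fin_cases i <;> fin_cases j <;> simp [h']

namespace Rel

variable {z : G} {P : Par} (R : Rel G z P)

/-- the image of `a2` -/
def b2 : G := R.w * R.a2 * R.w⁻¹

theorem z_a2 : z * R.a2 = R.a2 * z := by
  have h1 : Commute z R.y := R.zy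
  have h2 : Commute z R.a := R.za
  rw [← R.ya]
  exact (h1.mul_right h2).mul_right h1.inv_right

theorem z_b2 : z * R.b2 = R.b2 * z := by
  have h1 : Commute z R.w := R.zw
  have h2 : Commute z R.a2 := R.z_a2
  exact (h1.mul_right h2).mul_right h1.inv_right

theorem b22 : R.b2 * R.b2 = 1 := by
  rw [b2, show R.w * R.a2 * R.w⁻¹ * (R.w * R.a2 * R.w⁻¹) = R.w * (R.a2 * R.a2) * R.w⁻¹ by group, R.a22]
  group

theorem yy_conj (x : G) (hx : z * x = x * z) : R.y * (R.y * x * R.y⁻¹) * R.y⁻¹ = x := by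
  rw [show R.y * (R.y * x * R.y⁻¹) * R.y⁻¹ = R.y * R.y * x * (R.y * R.y)⁻¹ by group, R.yy,
    ((show Commute z x from hx).pow_left P.eps.val).eq, mul_inv_cancel_right]

theorem wab : R.w * (R.a * R.b) * R.w⁻¹ = R.a := by
  calc R.w * (R.a * R.b) * R.w⁻¹ = (R.w * R.a * R.w⁻¹) * (R.w * R.b * R.w⁻¹) := by group
    _ = R.b * (R.a * R.b) := by rw [R.wa, R.wb]
    _ = R.a := by rw [R.ab, ← mul_assoc, R.bb, one_mul]

theorem winv_a : R.w⁻¹ * R.a * R.w = R.a * R.b := by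
  calc R.w⁻¹ * R.a * R.w = R.w⁻¹ * (R.w * (R.a * R.b) * R.w⁻¹) * R.w := by rw [R.wab]
    _ = R.a * R.b := by group

theorem winv_b : R.w⁻¹ * R.b * R.w = R.a := by
  rw [← R.wa]; group

theorem b2_eq : R.b2 = if P.inv then R.y * (R.a * R.b) * R.y⁻¹ else R.y * R.b * R.y⁻¹ := by
  have hw := R.yw
  have key : R.b2 = R.y * ((R.y⁻¹ * R.w * R.y) * R.a * (R.y⁻¹ * R.w * R.y)⁻¹) * R.y⁻¹ := by
    rw [b2, ← R.ya]; group
  cases hi : P.inv
  · rw [hi] at hw
    simp only [Bool.false_eq_true, ↓reduceIte] at hw ⊢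
    have e : R.y⁻¹ * R.w * R.y = R.w := by
      conv_lhs => rw [← hw]
      group
    rw [key, e, R.wa]
  · rw [hi] at hw
    simp only [↓reduceIte] at hw ⊢
    have e : R.y⁻¹ * R.w * R.y = R.w⁻¹ := by
      have h : R.w = (R.y * R.w * R.y⁻¹)⁻¹ := by rw [hw, inv_inv]
      calc R.y⁻¹ * R.w * R.y = R.y⁻¹ * (R.y * R.w * R.y⁻¹)⁻¹ * R.y := by rw [← h]
        _ = R.w⁻¹ := by group
    rw [key, e, inv_inv, R.winv_a]

theorem a2b2 : R.a2 * R.b2 = R.b2 * R.a2 := by
  have h : ∀ x, R.a * x = x * R.a → R.a2 * (R.y * x * R.y⁻¹) = R.y * x * R.y⁻¹ * R.a2 := fun x hx => by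
    rw [← R.ya]
    calc R.y * R.a * R.y⁻¹ * (R.y * x * R.y⁻¹) = R.y * (R.a * x) * R.y⁻¹ := by group
      _ = R.y * (x * R.a) * R.y⁻¹ := by rw [hx]
      _ = _ := by group
  rw [R.b2_eq]
  split
  · exact h _ ((Commute.refl R.a).mul_right R.ab)
  · exact h _ R.ab

theorem yb : R.y * R.b * R.y⁻¹ = if P.inv then R.a2 * R.b2 else R.b2 := by
  rw [R.b2_eq]
  cases P.inv
  · simp
  · simp only [↓reduceIte]
    rw [← R.ya]
    calc R.y * R.b * R.y⁻¹ = R.y * (R.a * R.a * R.b) * R.y⁻¹ := by rw [R.aa, one_mul]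
      _ = _ := by group

theorem ya2 : R.y * R.a2 * R.y⁻¹ = R.a := by
  rw [← R.ya, R.yy_conj _ R.za]

theorem yb2 : R.y * R.b2 * R.y⁻¹ = if P.inv then R.a * R.b else R.b := by
  rw [R.b2_eq]
  cases P.inv
  · simp only [Bool.false_eq_true, ↓reduceIte]
    rw [R.yy_conj _ R.zb]
  · simp only [↓reduceIte]
    exact R.yy_conj _ ((show Commute z R.a from R.za).mul_right R.zb)

theorem wb2 : R.w * R.b2 * R.w⁻¹ = R.a2 * R.b2 := by
  have hw := R.yw
  have key : R.w * R.b2 * R.w⁻¹ =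
      R.y * ((R.y⁻¹ * R.w * R.y) * (R.y⁻¹ * R.w * R.y) * R.a * ((R.y⁻¹ * R.w * R.y) * (R.y⁻¹ * R.w * R.y))⁻¹) * R.y⁻¹ := by
    rw [b2, ← R.ya]; group
  cases hi : P.inv
  · rw [hi] at hw
    simp only [Bool.false_eq_true, ↓reduceIte] at hw
    have e : R.y⁻¹ * R.w * R.y = R.w := by
      conv_lhs => rw [← hw]
      group
    rw [key, e]
    calc R.y * (R.w * R.w * R.a * (R.w * R.w)⁻¹) * R.y⁻¹ = R.y * (R.w * (R.w * R.a * R.w⁻¹) * R.w⁻¹) * R.y⁻¹ := by group
      _ = (R.y * R.a * R.y⁻¹) * (R.y * R.b * R.y⁻¹) := by rw [R.wa, R.wb]; group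
      _ = _ := by rw [R.ya, R.yb, hi]; simp
  · rw [hi] at hw
    simp only [↓reduceIte] at hw
    have e : R.y⁻¹ * R.w * R.y = R.w⁻¹ := by
      have h : R.w = (R.y * R.w * R.y⁻¹)⁻¹ := by rw [hw, inv_inv]
      calc R.y⁻¹ * R.w * R.y = R.y⁻¹ * (R.y * R.w * R.y⁻¹)⁻¹ * R.y := by rw [← h]
        _ = R.w⁻¹ := by group
    have h2 : R.w⁻¹ * R.w⁻¹ = R.w := by
      calc R.w⁻¹ * R.w⁻¹ = R.w⁻¹ * R.w⁻¹ * R.w ^ 3 := by rw [R.w3, mul_one]
        _ = R.w := by rw [pow_succ, pow_two]; group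
    rw [key, e, h2, R.wa, R.yb, hi]
    simp

theorem b2a : R.b2 * R.a * R.b2 = R.a * z ^ (P.p + P.r).val := by
  have hz : Commute z R.w := R.zw
  rw [fin2_pow_add R.zz]
  calc R.b2 * R.a * R.b2 = R.b2 * (R.w * (R.a * R.b) * R.w⁻¹) * R.b2 := by rw [R.wab]
    _ = R.w * (R.a2 * R.a * (R.a2 * R.a2) * R.b * R.a2) * R.w⁻¹ := by rw [R.a22, b2]; group
    _ = R.w * ((R.a2 * R.a * R.a2) * (R.a2 * R.b * R.a2)) * R.w⁻¹ := by group
    _ = R.w * (R.a * (z ^ P.p.val * R.b) * z ^ P.r.val) * R.w⁻¹ := by rw [R.pa, R.pb]; group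
    _ = R.w * (R.a * R.b) * (z ^ P.p.val * z ^ P.r.val * R.w⁻¹) := by
      rw [((show Commute z R.b from R.zb).pow_left P.p.val).eq]; group
    _ = R.w * (R.a * R.b) * (R.w⁻¹ * (z ^ P.p.val * z ^ P.r.val)) := by
      rw [((hz.pow_left P.p.val).mul_left (hz.pow_left P.r.val)).inv_right.eq]
    _ = _ := by rw [← mul_assoc, R.wab]

theorem b2b : R.b2 * R.b * R.b2 = R.b * z ^ P.p.val := by
  have hz : Commute z R.w := R.zw
  calc R.b2 * R.b * R.b2 = R.w * (R.a2 * R.a * R.a2) * R.w⁻¹ := by rw [b2, ← R.wa]; group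
    _ = R.w * R.a * (z ^ P.p.val * R.w⁻¹) := by rw [R.pa]; group
    _ = R.w * R.a * (R.w⁻¹ * z ^ P.p.val) := by rw [(hz.pow_left P.p.val).inv_right.eq]
    _ = _ := by rw [← mul_assoc, R.wa]

/-- the element of a code of the two-group -/
def nfQ : Q5 → G
  | (i, j, k, l, e) => R.a ^ i.val * R.b ^ j.val * R.a2 ^ k.val * R.b2 ^ l.val * z ^ e.val

/-- the element of a code -/
def nf : E192 → G
  | (q, i, k) => R.nfQ q * R.w ^ i.val * R.y ^ k.val

theorem nfQ_a (i j k l e x : Fin 2) : R.nfQ (i, j, k, l, e) * R.a ^ x.val =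
    R.nfQ (i + x, j, k, l, P.p * k * x + (P.p + P.r) * l * x + e) := by
  have hz : ∀ n m : ℕ, Commute (z ^ n) (R.a ^ m) := fun n m => (show Commute z R.a from R.za).pow_pow n m
  have hd : ∀ n m : ℕ, Commute (z ^ n) (R.b2 ^ m) := fun n m => (show Commute z R.b2 from R.z_b2).pow_pow n m
  have hb : Commute (R.b ^ j.val) (R.a ^ x.val) := (show Commute R.a R.b from R.ab).symm.pow_pow _ _
  simp only [nfQ, fin2_pow_add R.zz, fin2_pow_add R.aa, ← mul_assoc]
  rw [(hz e.val x.val).right_comm, mul_assoc _ (R.b2 ^ l.val) (R.a ^ x.val),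
    swap_pow R.z_b2 R.zz R.b22 R.b2a l x]
  simp only [← mul_assoc]
  rw [mul_assoc _ (R.a2 ^ k.val) (R.a ^ x.val), swap_pow R.z_a2 R.zz R.a22 R.pa k x]
  simp only [← mul_assoc]
  rw [hb.right_comm, (hd _ l.val).right_comm]

theorem nfQ_b (i j k l e x : Fin 2) : R.nfQ (i, j, k, l, e) * R.b ^ x.val =
    R.nfQ (i, j + x, k, l, P.r * k * x + P.p * l * x + e) := by
  have hz : ∀ n m : ℕ, Commute (z ^ n) (R.b ^ m) := fun n m => (show Commute z R.b from R.zb).pow_pow n m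
  have hd : ∀ n m : ℕ, Commute (z ^ n) (R.b2 ^ m) := fun n m => (show Commute z R.b2 from R.z_b2).pow_pow n m
  simp only [nfQ, fin2_pow_add R.zz, fin2_pow_add R.bb, ← mul_assoc]
  rw [(hz e.val x.val).right_comm, mul_assoc _ (R.b2 ^ l.val) (R.b ^ x.val),
    swap_pow R.z_b2 R.zz R.b22 R.b2b l x]
  simp only [← mul_assoc]
  rw [mul_assoc _ (R.a2 ^ k.val) (R.b ^ x.val), swap_pow R.z_a2 R.zz R.a22 R.pb k x]
  simp only [← mul_assoc]
  rw [(hd _ l.val).right_comm]

theorem nfQ_qmul (q q' : Q5) : R.nfQ (P.qmul q q') = R.nfQ q * R.nfQ q' := by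
  obtain ⟨i, j, k, l, e⟩ := q
  obtain ⟨i', j', k', l', e'⟩ := q'
  have hc : ∀ n m : ℕ, Commute (z ^ n) (R.a2 ^ m) := fun n m => (show Commute z R.a2 from R.z_a2).pow_pow n m
  have hd : ∀ n m : ℕ, Commute (z ^ n) (R.b2 ^ m) := fun n m => (show Commute z R.b2 from R.z_b2).pow_pow n m
  have cd : Commute (R.b2 ^ l.val) (R.a2 ^ k'.val) := (show Commute R.a2 R.b2 from R.a2b2).symm.pow_pow _ _
  symm
  calc R.nfQ (i, j, k, l, e) * R.nfQ (i', j', k', l', e')
      = R.nfQ (i, j, k, l, e) * R.a ^ i'.val * R.b ^ j'.val * R.a2 ^ k'.val * R.b2 ^ l'.val * z ^ e'.val := by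
        simp only [nfQ, mul_assoc]
    _ = R.nfQ (i + i', j + j', k, l, P.r * k * j' + P.p * l * j' + (P.p * k * i' + (P.p + P.r) * l * i' + e)) *
        R.a2 ^ k'.val * R.b2 ^ l'.val * z ^ e'.val := by rw [nfQ_a, nfQ_b]
    _ = R.nfQ (i + i', j + j', k + k', l + l', P.r * k * j' + P.p * l * j' + (P.p * k * i' + (P.p + P.r) * l * i' + e) + e') := by
        simp only [nfQ, fin2_pow_add R.zz (_ + _ + (_ + _ + _)) e', fin2_pow_add R.a22, fin2_pow_add R.b22, ← mul_assoc]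
        rw [(hc _ k'.val).right_comm, cd.right_comm, (hd _ l'.val).right_comm]
    _ = _ := by
        congr 1
        simp only [Par.qmul, Prod.mk.injEq, true_and]
        generalize P.p = p
        generalize P.r = r
        clear cd
        revert i' j' k l e e' p r
        decide +kernel

theorem nfQ_qpw (x : Q5) (g : G) (h : R.nfQ x = g) (i : Fin 2) : R.nfQ (Par.qpw x i) = g ^ i.val := by
  fin_cases i <;> simp [Par.qpw, nfQ, ← h]

theorem nfQ_lin {g : G} {A B C D : Q5} (ha : R.nfQ A = g * R.a * g⁻¹) (hb : R.nfQ B = g * R.b * g⁻¹)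
    (hc : R.nfQ C = g * R.a2 * g⁻¹) (hd : R.nfQ D = g * R.b2 * g⁻¹) (hz : Commute z g) (q : Q5) :
    R.nfQ (P.lin A B C D q) = g * R.nfQ q * g⁻¹ := by
  obtain ⟨i, j, k, l, e⟩ := q
  simp only [Par.lin, nfQ_qmul, R.nfQ_qpw _ _ ha, R.nfQ_qpw _ _ hb, R.nfQ_qpw _ _ hc, R.nfQ_qpw _ _ hd, conj_pow]
  simp only [nfQ, Fin.val_zero, pow_zero, one_mul]
  rw [show g * (R.a ^ i.val * R.b ^ j.val * R.a2 ^ k.val * R.b2 ^ l.val * z ^ e.val) * g⁻¹ =
    g * (R.a ^ i.val * R.b ^ j.val * R.a2 ^ k.val * R.b2 ^ l.val) * (z ^ e.val * g⁻¹) by group,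
    ((hz.pow_left e.val).inv_right).eq]
  group

theorem nfQ_w (q : Q5) : R.w * R.nfQ q = R.nfQ (P.actW q) * R.w := by
  rw [Par.actW, R.nfQ_lin (g := R.w) (by simp [nfQ, R.wa]) (by simp [nfQ, R.wb]) (by simp [nfQ, b2])
    (by simp [nfQ, R.wb2]) R.zw]
  group

theorem nfQ_y (q : Q5) : R.y * R.nfQ q = R.nfQ (P.actY q) * R.y := by
  rw [Par.actY, R.nfQ_lin (g := R.y) (by simp [nfQ, R.ya]) (by rw [R.yb]; split <;> simp [nfQ])
    (by simp [nfQ, R.ya2]) (by rw [R.yb2]; split <;> simp [nfQ]) R.zy]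
  group

theorem w_pow_add (i j : Fin 3) : R.w ^ (i + j).val = R.w ^ i.val * R.w ^ j.val := by
  rw [← pow_add, Fin.val_add]
  exact (pow_eq_pow_mod _ R.w3).symm

theorem w_pow_neg (i : Fin 3) : R.w ^ (-i).val = (R.w ^ i.val)⁻¹ := by
  apply eq_inv_of_mul_eq_one_left
  rw [← w_pow_add, neg_add_cancel]
  simp

theorem y_w (k : Fin 2) (i : Fin 3) : R.y ^ k.val * R.w ^ i.val = R.w ^ (P.sig k i).val * R.y ^ k.val := by
  fin_cases k
  · simp [Par.sig]
  · have h := congrArg (· ^ i.val) R.yw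
    simp only [conj_pow] at h
    have h' : R.y * R.w ^ i.val * R.y⁻¹ = R.w ^ (P.sig 1 i).val := by
      rw [h]
      cases hi : P.inv <;> simp [Par.sig, hi, w_pow_neg, inv_pow]
    simp only [Fin.mk_one, Fin.val_one, pow_one, ← h']
    group

theorem nf_emul (x x' : E192) : R.nf (P.emul x x') = R.nf x * R.nf x' := by
  obtain ⟨q, i, k⟩ := x
  obtain ⟨q', i', k'⟩ := x'
  have hy : R.y ^ k.val * R.nfQ q' = R.nfQ (P.actYn k q') * R.y ^ k.val := by
    fin_cases k
    · simp [Par.actYn]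
    · simp [Par.actYn, nfQ_y]
  have hw : ∀ p, R.w ^ i.val * R.nfQ p = R.nfQ (P.actWn i p) * R.w ^ i.val := by
    intro p
    fin_cases i
    · simp [Par.actWn]
    · simp [Par.actWn, nfQ_w]
    · simp only [Fin.reduceFinMk, Fin.val_two, pow_two, Par.actWn, Fin.reduceEq, ↓reduceIte]
      rw [mul_assoc, nfQ_w, ← mul_assoc, nfQ_w, mul_assoc]
  have hzw : ∀ n m : ℕ, Commute (z ^ n) (R.w ^ m) := fun n m => (show Commute z R.w from R.zw).pow_pow n m
  have hzy : ∀ n m : ℕ, Commute (z ^ n) (R.y ^ m) := fun n m => (show Commute z R.y from R.zy).pow_pow n m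
  have hyy : R.y ^ k.val * R.y ^ k'.val = z ^ (k * k' * P.eps).val * R.y ^ (k + k').val := by
    fin_cases k <;> fin_cases k' <;> simp [R.yy]
  symm
  calc R.nf (q, i, k) * R.nf (q', i', k')
      = R.nfQ q * R.w ^ i.val * (R.y ^ k.val * R.nfQ q') * R.w ^ i'.val * R.y ^ k'.val := by simp only [nf]; group
    _ = R.nfQ q * (R.w ^ i.val * R.nfQ (P.actYn k q')) * (R.y ^ k.val * R.w ^ i'.val) * R.y ^ k'.val := by
        rw [hy]; group
    _ = R.nfQ q * R.nfQ (P.actWn i (P.actYn k q')) * (R.w ^ i.val * R.w ^ (P.sig k i').val) *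
        (R.y ^ k.val * R.y ^ k'.val) := by rw [hw, y_w]; group
    _ = R.nfQ q * R.nfQ (P.actWn i (P.actYn k q')) * (R.w ^ (i + P.sig k i').val * z ^ (k * k' * P.eps).val) *
        R.y ^ (k + k').val := by rw [hyy, ← w_pow_add]; group
    _ = _ := by
        rw [← (hzw _ _).eq]
        simp only [Par.emul, nf, nfQ_qmul]
        simp only [nfQ, Fin.val_zero, pow_zero, one_mul]
        group

end Rel

/-- the relations of a frame -/
def Frame.par {z : G} [Finite G] (F : Frame z) : Par := ⟨F.inv, F.eps, F.p, F.r⟩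

/-- a frame as relations -/
def Frame.rel {z : G} [Finite G] (F : Frame z) : Rel G z F.par :=
  ⟨F.a, F.b, F.w, F.y, F.a2, F.zz, F.aa, F.bb, F.a22, F.za, F.zb, F.zw, F.zy, F.ab, F.w3, F.wa, F.wb, F.ya, F.yw,
    F.yy, F.pa, F.pb⟩

end Cfsg.Lib.M12Nse
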