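import Cfsg.Agent.Recognition.MathieuEleven.Basic
import Cfsg.Agent.Counting.SameOrder

/-!
Counting lemmas for the recognition of the Mathieu group of degree twelve by its order and the
numbers of elements of each order.
-/

set_option autoImplicit false
set_option linter.unusedSectionVars false
set_option linter.style.haveILetI false

namespace Cfsg.Lib.M12Nse

open Subgroup Cfsg.Lib.SameOrder Cfsg.Lib.Small

/-- the possible numbers of elements of a given order -/
def nseVals : List ℕ := [0, 1, 891, 4400, 5940, 9504, 17280, 23760]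

/-- the hypothesis -/
structure Hyp (G : Type*) [Group G] : Prop where
  card : Nat.card G = 95040
  mem : ∀ n, cnt G n ∈ nseVals

universe u

variable {G : Type u} [Group G] [Finite G]

/-- The size of a class times the order of the centraliser. -/
theorem card_isConj_mul (v : G) :
    Nat.card {x : G // IsConj v x} * Nat.card ↥(centralizer ({v} : Set G)) = Nat.card G := by
  rw [← Cfsg.Lib.Counting.card_carrier_mul_centralizer v]
  congr 1

/-- Conjugation transports a centraliser. -/
theorem card_centralizer_conj (g v : G) :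
    Nat.card ↥(centralizer ({g * v * g⁻¹} : Set G)) = Nat.card ↥(centralizer ({v} : Set G)) := by
  refine (Nat.card_congr ((MulAut.conj g).toEquiv.subtypeEquiv fun a => ?_)).symm
  simp only [MulEquiv.toEquiv_eq_coe, MulEquiv.coe_toEquiv, MulAut.conj_apply, mem_centralizer_singleton_iff]
  constructor
  · intro h
    calc g * a * g⁻¹ * (g * v * g⁻¹) = g * (a * v) * g⁻¹ := by group
      _ = g * (v * a) * g⁻¹ := by rw [h]
      _ = _ := by group
  · intro h
    have := congrArg (fun t => g⁻¹ * t * g) h
    simpa [mul_assoc] using this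

theorem conj_card_centralizer {v x : G} (h : IsConj v x) :
    Nat.card ↥(centralizer ({x} : Set G)) = Nat.card ↥(centralizer ({v} : Set G)) := by
  obtain ⟨g, rfl⟩ := isConj_iff.1 h
  exact card_centralizer_conj g v

theorem conj_orderOf {v x : G} (h : IsConj v x) : orderOf x = orderOf v := by
  obtain ⟨g, rfl⟩ := isConj_iff.1 h
  exact MulEquiv.orderOf_eq (MulAut.conj g) v

theorem dvd_centralizer_orderOf {v a : G} (h : a * v = v * a) :
    orderOf a ∣ Nat.card ↥(centralizer ({v} : Set G)) :=
  Subgroup.orderOf_dvd_natCard _ (mem_centralizer_singleton_iff.2 h)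

/-- An element centralising a subgroup of prime order is found through any generator. -/
theorem mem_cent_zpowers {x a : G} (h : a * x = x * a) : a ∈ centralizer (zpowers x : Set G) := by
  refine mem_centralizer_iff.2 fun b hb => ?_
  obtain ⟨k, rfl⟩ := mem_zpowers_iff.1 hb
  exact ((show Commute a x from h).zpow_right k).eq.symm

section Prime

variable {p : ℕ} [Fact p.Prime]

/-- the Sylow subgroup of prime order containing a given element -/
theorem exists_sylow_zpowers (hS : ∀ P : Sylow p G, Nat.card ↥(P : Subgroup G) = p) {x : G} (hx : orderOf x = p) :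
    ∃ P : Sylow p G, (P : Subgroup G) = zpowers x := by
  obtain ⟨P, hP⟩ := IsPGroup.exists_le_sylow
    (IsPGroup.of_card (p := p) (n := 1) (by rw [Nat.card_zpowers, hx, pow_one]) : IsPGroup p ↥(zpowers x))
  exact ⟨P, (Subgroup.eq_of_le_of_card_ge hP (by rw [hS, Nat.card_zpowers, hx])).symm⟩

/-- Elements of order `k p` are shared evenly among the Sylow subgroups of order `p`. -/
theorem cnt_eq_mul (hS : ∀ P : Sylow p G, Nat.card ↥(P : Subgroup G) = p) (P₀ : Sylow p G) {n k : ℕ}
    (hn : ∀ g : G, orderOf g = n → orderOf (g ^ k) = p) :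
    cnt G n = Nat.card (Sylow p G) * Nat.card {g : G // orderOf g = n ∧ g ^ k ∈ (P₀ : Subgroup G)} := by
  classical
  have := Fintype.ofFinite G
  have := Fintype.ofFinite (Sylow p G)
  let f : {g : G // orderOf g = n} → Sylow p G := fun g => (exists_sylow_zpowers hS (hn g.1 g.2)).choose
  have hf : ∀ g, (f g : Subgroup G) = zpowers (g.1 ^ k) := fun g => (exists_sylow_zpowers hS (hn g.1 g.2)).choose_spec
  rw [cnt, ← Nat.card_congr (Equiv.sigmaFiberEquiv f), Nat.card_sigma]
  have hfib : ∀ P : Sylow p G, Nat.card {g // f g = P} =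
      Nat.card {g : G // orderOf g = n ∧ g ^ k ∈ (P₀ : Subgroup G)} := by
    intro P
    obtain ⟨c, hc⟩ := MulAction.exists_smul_eq G P₀ P
    have hmem : ∀ a, a ∈ (P : Subgroup G) ↔ c⁻¹ * a * c ∈ (P₀ : Subgroup G) := fun a => by
      rw [← hc, Sylow.coe_subgroup_smul, Subgroup.mem_pointwise_smul_iff_inv_smul_mem]
      simp [MulAut.smul_def, mul_assoc]
    have hiff : ∀ g : {g : G // orderOf g = n}, f g = P ↔ g.1 ^ k ∈ (P : Subgroup G) := fun g => by
      constructor
      · rintro rfl; rw [hf]; exact mem_zpowers _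
      · intro h
        refine Sylow.ext ((hf g).trans (Subgroup.eq_of_le_of_card_ge (zpowers_le.2 h) ?_))
        rw [hS, Nat.card_zpowers, hn g.1 g.2]
    calc Nat.card {g // f g = P}
        = Nat.card {g : {g : G // orderOf g = n} // g.1 ^ k ∈ (P : Subgroup G)} :=
          Nat.card_congr (Equiv.subtypeEquivRight hiff)
      _ = Nat.card {g : G // orderOf g = n ∧ g ^ k ∈ (P : Subgroup G)} :=
          Nat.card_congr (Equiv.subtypeSubtypeEquivSubtypeInter _ fun g => g ^ k ∈ (P : Subgroup G))
      _ = _ := Nat.card_congr ((MulAut.conj c⁻¹).toEquiv.subtypeEquiv fun g => by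
          simp only [MulEquiv.toEquiv_eq_coe, MulEquiv.coe_toEquiv, MulAut.conj_apply, inv_inv]
          rw [show orderOf (c⁻¹ * g * c) = orderOf g by
            simpa using MulEquiv.orderOf_eq (MulAut.conj c⁻¹) g,
            show (c⁻¹ * g * c) ^ k = c⁻¹ * g ^ k * c by simpa using conj_pow (i := k) (a := c⁻¹) (b := g),
            ← hmem])
  rw [Finset.sum_congr rfl fun P _ => hfib P, Finset.sum_const, Finset.card_univ, smul_eq_mul,
    Nat.card_eq_fintype_card (α := Sylow p G)]

/-- The non-trivial elements of a subgroup of prime order. -/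
theorem card_order_in {P : Subgroup G} (hP : Nat.card ↥P = p) :
    Nat.card {g : G // orderOf g = p ∧ g ∈ P} = p - 1 := by
  have e : {g : G | orderOf g = p ∧ g ∈ P} = (P : Set G) \ {1} := by
    ext g
    constructor
    · rintro ⟨h1, h2⟩
      exact ⟨h2, fun e => (Fact.out : p.Prime).ne_one (by rw [← h1, e, orderOf_one])⟩
    · rintro ⟨h2, h1⟩
      exact ⟨((Nat.dvd_prime Fact.out).1 (hP ▸ Subgroup.orderOf_dvd_natCard _ h2)).resolve_left
        fun e => h1 (orderOf_eq_one_iff.1 e), h2⟩
  show Nat.card ↥{g : G | orderOf g = p ∧ g ∈ P} = p - 1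
  rw [Nat.card_coe_set_eq, e, Set.ncard_sdiff (Set.singleton_subset_iff.2 P.one_mem), Set.ncard_singleton,
    ← Nat.card_coe_set_eq]
  show Nat.card ↥P - 1 = p - 1
  rw [hP]

theorem cnt_prime (hS : ∀ P : Sylow p G, Nat.card ↥(P : Subgroup G) = p) :
    cnt G p = (p - 1) * Nat.card (Sylow p G) := by
  obtain ⟨P₀⟩ : Nonempty (Sylow p G) := Sylow.nonempty
  rw [cnt_eq_mul hS P₀ (k := 1) (n := p) fun g hg => by rwa [pow_one]]
  simp only [pow_one]
  rw [card_order_in (hS P₀), mul_comm]

end Prime

end Cfsg.Lib.M12Nse
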