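import Cfsg.Agent.Recognition.MathieuEleven.Basic
import Cfsg.Agent.Counting.SameOrder
import Cfsg.Agent.M12Nse.Facts

/-!
Groups whose Sylow five-subgroups have order five and are self-centralising.
-/

set_option autoImplicit false
set_option linter.unusedSectionVars false
set_option linter.style.haveILetI false

namespace Cfsg.Lib.M12Nse

open Subgroup Cfsg.Lib.SameOrder Cfsg.Lib.Small Cfsg.Lib.MathieuEleven

universe u

variable {X : Type u} [Group X] [Finite X]

local instance fact_five_fpf : Fact (Nat.Prime 5) := ⟨by norm_num⟩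

/-- order `5 m`, and elements of order five generate their centralisers -/
structure Fpf (X : Type*) [Group X] (m n : ℕ) : Prop where
  card : Nat.card X = 5 * m
  cop : ¬ 5 ∣ m
  five : Nat.card (Sylow 5 X) = n
  cent : ∀ q : X, orderOf q = 5 → Nat.card ↥(centralizer ({q} : Set X)) = 5

variable {m n : ℕ}

theorem Fpf.sylow (h : Fpf X m n) (P : Sylow 5 X) : Nat.card ↥(P : Subgroup X) = 5 := by
  simpa using card_sylow_of_factor P (a := 1) (m := m) (by rw [h.card, pow_one]) h.cop

theorem Fpf.invariant_mod (h : Fpf X m n) {A : Subgroup X} {q : X} (hq : orderOf q = 5)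
    (hn : q ∈ normalizer (A : Set X)) (hA : ¬ 5 ∣ Nat.card ↥A) : Nat.card ↥A % 5 = 1 := by
  have h1 : (A : Set X).ncard % 5 = {a ∈ (A : Set X) | q * a = a * q}.ncard % 5 :=
    ncard_conj_mod (k := 1) (by rw [pow_one, ← hq, pow_orderOf_eq_one])
      fun a ha => (Subgroup.mem_normalizer_iff.1 hn a).1 ha
  have h2 : {a ∈ (A : Set X) | q * a = a * q} = {1} := by
    ext a
    simp only [SetLike.mem_coe, Set.mem_singleton_iff]
    refine ⟨fun ha => ?_, fun e => ⟨e ▸ A.one_mem, by rw [e, mul_one, one_mul]⟩⟩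
    obtain ⟨ha, hc⟩ := ha
    by_contra h1
    have hd : orderOf a ∣ 5 := h.cent q hq ▸ dvd_centralizer_orderOf hc.symm
    have h5 := ((Nat.dvd_prime (by norm_num)).1 hd).resolve_left fun e => h1 (orderOf_eq_one_iff.1 e)
    exact hA (h5 ▸ Subgroup.orderOf_dvd_natCard _ ha)
  rw [h2, ← Nat.card_coe_set_eq, Set.ncard_singleton] at h1
  exact h1

theorem Fpf.order_five_mem (h : Fpf X m n) (K : Subgroup X) [K.Normal] (h5 : 5 ∣ Nat.card ↥K) {q : X}
    (hq : orderOf q = 5) : q ∈ K := by
  have hi : ¬ 5 ∣ K.index := fun hd => h.cop (by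
    have := Nat.mul_dvd_mul h5 hd
    rw [Subgroup.card_mul_index, h.card] at this
    exact Nat.dvd_of_mul_dvd_mul_left (by norm_num) this)
  rw [← QuotientGroup.eq_one_iff, ← orderOf_eq_one_iff]
  have hd : orderOf (q : X ⧸ K) ∣ 5 := hq ▸ orderOf_map_dvd (QuotientGroup.mk' K) q
  rcases (Nat.dvd_prime (by norm_num)).1 hd with e | e
  · exact e
  · exact absurd (e ▸ orderOf_dvd_natCard (q : X ⧸ K)) hi

/-- A normal subgroup of order prime to five. -/
theorem Fpf.coprime_normal (h : Fpf X m n) (hm : m ∣ 144) (K : Subgroup X) [K.Normal] (hK : ¬ 5 ∣ Nat.card ↥K) :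
    Nat.card ↥K = 1 ∨ Nat.card ↥K = 16 := by
  obtain ⟨q, hq⟩ := exists_prime_orderOf_dvd_card' (G := X) 5 (by rw [h.card]; exact dvd_mul_right 5 m)
  have hmod := h.invariant_mod hq (A := K) (by rw [Subgroup.normalizer_eq_top_iff.2 ‹_›]; exact mem_top q) hK
  have hd : Nat.card ↥K ∣ 144 := by
    have hd := Subgroup.card_subgroup_dvd_card K
    rw [h.card] at hd
    exact (((Nat.Prime.coprime_iff_not_dvd (by norm_num)).2 hK).symm.dvd_of_dvd_mul_left hd).trans hm
  have hlist : ∀ j ∈ Nat.divisors 144, j % 5 = 1 → j = 1 ∨ j = 6 ∨ j = 16 ∨ j = 36 := by decide +kernel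
  rcases hlist _ (Nat.mem_divisors.2 ⟨hd, by norm_num⟩) hmod with e | e | e | e
  · exact Or.inl e
  swap
  · exact Or.inr e
  all_goals
    exfalso
    have : Fact (Nat.Prime 3) := ⟨Nat.prime_three⟩
    obtain ⟨S⟩ : Nonempty (Sylow 3 ↥K) := Sylow.nonempty
    set A := (S : Subgroup ↥K).map K.subtype with hAd
    have h5N : 5 ∣ Nat.card ↥(normalizer (A : Set X)) := by
      have hh : K.index ∣ Nat.card ↥(normalizer (A : Set X)) := by
        rw [← Subgroup.relIndex_top_right, ← Sylow.normalizer_sup_eq_top S, Subgroup.relIndex_sup_right]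
        exact Subgroup.relIndex_dvd_card K _
      refine dvd_trans ?_ hh
      have : 5 ∣ Nat.card ↥K * K.index := by rw [Subgroup.card_mul_index, h.card]; exact dvd_mul_right 5 m
      exact ((Nat.Prime.dvd_mul (by norm_num)).1 this).resolve_left hK
    obtain ⟨⟨q', hq'⟩, hqo⟩ := exists_prime_orderOf_dvd_card' 5 h5N
    rw [← Subgroup.orderOf_coe] at hqo
  · have hS : Nat.card ↥A = 3 := by
      rw [hAd, Subgroup.card_map_of_injective K.subtype_injective]
      simpa using card_sylow_of_factor S (a := 1) (m := 2) (by rw [e]; norm_num) (by norm_num)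
    have := h.invariant_mod hqo hq' (by rw [hS]; norm_num)
    rw [hS] at this
    norm_num at this
  · have hS : Nat.card ↥A = 9 := by
      rw [hAd, Subgroup.card_map_of_injective K.subtype_injective]
      simpa using card_sylow_of_factor S (a := 2) (m := 4) (by rw [e]; norm_num) (by norm_num)
    have := h.invariant_mod hqo hq' (by rw [hS]; norm_num)
    rw [hS] at this
    norm_num at this

/-- A proper normal subgroup containing the elements of order five has order twice or four times the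
number of Sylow subgroups times five, unless it has a normal complement. -/
theorem Fpf.normal_big (h : Fpf X m n) (hm : m ∣ 144) (hn : n ≠ 1) (hn16 : n ≠ 16) (K : Subgroup X) [K.Normal]
    (h5 : 5 ∣ Nat.card ↥K) : Nat.card ↥K = 10 * n ∨ Nat.card ↥K = 20 * n := by
  obtain ⟨P⟩ : Nonempty (Sylow 5 X) := Sylow.nonempty
  have hPK : (P : Subgroup X) ≤ K := fun a ha => by
    by_cases h1 : a = 1
    · exact h1 ▸ K.one_mem
    have hd := h.sylow P ▸ Subgroup.orderOf_dvd_natCard _ ha
    exact h.order_five_mem K h5 (((Nat.dvd_prime (by norm_num)).1 hd).resolve_left fun e => h1 (orderOf_eq_one_iff.1 e))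
  have hv : ¬ 5 ^ (1 + 1) ∣ Nat.card ↥K := fun hd => by
    have := hd.trans (Subgroup.card_subgroup_dvd_card K)
    rw [h.card] at this
    exact h.cop (Nat.dvd_of_mul_dvd_mul_left (show 0 < 5 by norm_num) (by simpa [pow_two] using this))
  obtain ⟨S, hS⟩ := exists_sylow_in K hPK (n := 1) (by rw [h.sylow P, pow_one]) hv
  obtain ⟨hcount, -⟩ := sylow_count K hPK (n := 1) (by rw [h.sylow P, pow_one]) hv
  set N := K ⊓ normalizer ((P : Subgroup X) : Set X) with hNd
  have hnK : Nat.card (Sylow 5 ↥K) = n := by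
    have hSc : ∀ Q : Sylow 5 ↥K, Nat.card ↥(Q : Subgroup ↥K) = 5 := fun Q => by
      obtain ⟨c, hc⟩ := Subgroup.card_subgroup_dvd_card K
      obtain ⟨d, hd⟩ := h5
      simpa using card_sylow_of_factor Q (a := 1) (m := d) (by rw [hd, pow_one]) fun hd' => hv (by
        rw [hd]; exact Nat.mul_dvd_mul_left 5 hd')
    have h1 := cnt_prime hSc
    have h2 := cnt_prime (h.sylow)
    rw [h.five] at h2
    have e : cnt ↥K 5 = cnt X 5 := by
      refine Nat.card_congr
        { toFun := fun g => ⟨g.1.1, by rw [Subgroup.orderOf_coe]; exact g.2⟩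
          invFun := fun g => ⟨⟨g.1, h.order_five_mem K h5 g.2⟩, by rw [← Subgroup.orderOf_coe]; exact g.2⟩
          left_inv := fun g => rfl
          right_inv := fun g => rfl }
    omega
  rw [hnK] at hcount
  obtain ⟨q, hq⟩ := exists_prime_orderOf_dvd_card' (G := ↥(P : Subgroup X)) 5 (by rw [h.sylow P])
  rw [← Subgroup.orderOf_coe] at hq
  have hrel := relIndex_centralizer_dvd (h.sylow P) (T := N) inf_le_right
  have hm' := Cfsg.Lib.MathieuEleven.card_inf_mul_relIndex (centralizer ((P : Subgroup X) : Set X)) N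
  have hPN : (P : Subgroup X) ≤ N := le_inf hPK Subgroup.le_normalizer
  have hCle : ∀ a ∈ centralizer ((P : Subgroup X) : Set X), a ∈ (P : Subgroup X) := fun a ha => by
    have he : (P : Subgroup X) = centralizer ({(q : X)} : Set X) := Subgroup.eq_of_le_of_card_ge
      (fun b hb => mem_centralizer_singleton_iff.2 (by
        have : IsCyclic ↥(P : Subgroup X) := isCyclic_of_prime_card (h.sylow P)
        exact congrArg Subtype.val ((IsCyclic.isMulCommutative (α := ↥(P : Subgroup X))).is_comm.comm ⟨b, hb⟩ q)))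
      (by rw [h.sylow P, h.cent _ hq])
    rw [he]
    exact mem_centralizer_singleton_iff.2 (mem_centralizer_iff.1 ha _ q.2).symm
  have hC5 : Nat.card ↥(N ⊓ centralizer ((P : Subgroup X) : Set X)) = 5 := by
    refine Eq.trans ?_ (h.sylow P)
    congr 1
    refine congrArg (fun S : Subgroup X => ↥S) (le_antisymm (fun a ha => hCle a ha.2) (le_inf hPN fun a ha => ?_))
    refine mem_centralizer_iff.2 fun b hb => ?_
    have : IsCyclic ↥(P : Subgroup X) := isCyclic_of_prime_card (h.sylow P)
    exact congrArg Subtype.val ((IsCyclic.isMulCommutative (α := ↥(P : Subgroup X))).is_comm.comm ⟨b, hb⟩ ⟨a, ha⟩)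
  rw [hC5] at hm'
  have hr : (centralizer ((P : Subgroup X) : Set X)).relIndex N ∈ Nat.divisors 4 := Nat.mem_divisors.2 ⟨hrel, by norm_num⟩
  rw [show Nat.divisors 4 = {1, 2, 4} by decide +kernel] at hr
  simp only [Finset.mem_insert, Finset.mem_singleton] at hr
  rcases hr with e | e | e <;> rw [e] at hm'
  swap
  · left; rw [← hcount, ← hm']; ring
  swap
  · right; rw [← hcount, ← hm']; ring
  exfalso
  have hN5 : Nat.card ↥N = 5 := by omega
  have hNP : N = (P : Subgroup X) := (Subgroup.eq_of_le_of_card_ge hPN (by rw [hN5, h.sylow P])).symm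
  have hle : normalizer ((S : Subgroup ↥K) : Set ↥K) ≤ centralizer ((S : Subgroup ↥K) : Set ↥K) := by
    intro a ha
    rw [hS, ← Subgroup.subgroupOf_normalizer_eq hPK] at ha
    have haN : (a : X) ∈ (P : Subgroup X) := hNP ▸ Subgroup.mem_inf.2 ⟨a.2, ha⟩
    refine mem_centralizer_iff.2 fun b hb => ?_
    rw [hS] at hb
    have : IsCyclic ↥(P : Subgroup X) := isCyclic_of_prime_card (h.sylow P)
    exact Subtype.ext (show (b : X) * (a : X) = (a : X) * (b : X) from congrArg Subtype.val
      ((IsCyclic.isMulCommutative (α := ↥(P : Subgroup X))).is_comm.comm ⟨b, hb⟩ ⟨a, haN⟩))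
  obtain ⟨L, hLn, hLc, hLmem⟩ := Cfsg.Lib.MathieuEleven.exists_complement S hle
  have hS5 : Nat.card ↥(S : Subgroup ↥K) = 5 := by
    rw [hS, Nat.card_congr (Subgroup.subgroupOfEquivOfLe hPK).toEquiv, h.sylow P]
  rw [hS5, ← hcount, hN5] at hLc
  have hLn' : Nat.card ↥L = n := by omega
  have hn5 : ¬ 5 ∣ n := fun hd => by
    have h1 := card_sylow_modEq_one 5 X
    rw [h.five] at h1
    have h1' : n % 5 = 1 := h1
    omega
  set L' := L.map K.subtype with hL'
  have hL'c : Nat.card ↥L' = n := by rw [hL', Subgroup.card_map_of_injective K.subtype_injective, hLn']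
  have : L'.Normal := ⟨fun a ha g => by
    obtain ⟨b, hb, rfl⟩ := ha
    refine ⟨⟨g * (b : X) * g⁻¹, ‹K.Normal›.conj_mem _ b.2 g⟩, hLmem _ ?_, rfl⟩
    rw [← Subgroup.orderOf_coe]
    show (orderOf (g * (b : X) * g⁻¹)).Coprime 5
    rw [← MulAut.conj_apply, MulEquiv.orderOf_eq, Subgroup.orderOf_coe]
    exact Nat.Coprime.coprime_dvd_left (Subgroup.orderOf_dvd_natCard L hb)
      (by rw [hLn']; exact ((Nat.Prime.coprime_iff_not_dvd (by norm_num)).2 hn5).symm)⟩
  have := h.coprime_normal hm L' (by rw [hL'c]; exact hn5)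
  omega

end Cfsg.Lib.M12Nse
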