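import Cfsg.Agent.M12Nse.CentralInvol

/-!
The two elementary abelian subgroups in the centraliser of the second involution.
-/

set_option autoImplicit false
set_option linter.unusedSectionVars false
set_option linter.style.haveILetI false
set_option maxRecDepth 100000

namespace Cfsg.Lib.M12Nse

open Subgroup Cfsg.Lib.SameOrder Cfsg.Lib.Small Equiv

/-- the elementary subgroup of the model -/
def inA (x : K5) : Bool := x.1 == 1 || x.1 == tp || x.1 == swap 2 3 || x.1 == dd

/-- neither trivial nor central -/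
def six (x : K5) : Bool := inA x && !(x == 1) && !(x == sK)

/-- in the pair of the involution -/
def upair (x : K5) : Bool := x == uK || x == uK * sK

set_option synthInstance.maxSize 4000 in
set_option synthInstance.maxHeartbeats 400000 in
theorem A_group : inA 1 = true ∧ inA sK = true ∧ six uK = true ∧ six (uK * sK) = true ∧
    (∀ x : K5, inA x = true → x * sK = sK * x ∧ x * x = 1 ∧ (six x = true → isS x = false) ∧
      ∀ y : K5, inA y = true → x * y = y * x ∧ inA (x * y) = true) := by decide +kernel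

set_option synthInstance.maxSize 4000 in
set_option synthInstance.maxHeartbeats 400000 in
theorem rel_mem : ∀ x : K5, x * sK = sK * x → x * x = 1 → x ≠ 1 → isS x = false →
    x * uK ≠ 1 → isS (x * uK) = false → inA x = true := by decide +kernel

set_option synthInstance.maxSize 4000 in
set_option synthInstance.maxHeartbeats 400000 in
theorem R_fix : ∀ x : K5, x * sK = sK * x → ∀ y : K5, inA y = true →
    x * y * x⁻¹ = y ∨ x * y * x⁻¹ = y * sK := by decide +kernel

set_option synthInstance.maxSize 4000 in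
set_option synthInstance.maxHeartbeats 400000 in
theorem R_cent : ∀ x : K5, x * sK = sK * x → ∀ y : K5, six y = true → upair y = false →
    x * y = y * x → inA x = true := by decide +kernel

set_option synthInstance.maxSize 4000 in
set_option synthInstance.maxHeartbeats 400000 in
theorem R_move : ∃ r : K5, r * sK = sK * r ∧ ∀ y : K5, six y = true → upair y = false → r * y * r⁻¹ = y * sK := by
  decide +kernel

set_option synthInstance.maxSize 4000 in
set_option synthInstance.maxHeartbeats 400000 in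
theorem third_pair : ∀ b : K5, six b = true → upair b = false →
    (∀ c : K5, six c = true → upair c = false → c ≠ b → c ≠ b * sK → c = uK * b ∨ c = uK * b * sK) ∧
    ∀ x : K5, inA x = true → x = 1 ∨ x = sK ∨ x = uK ∨ x = uK * sK ∨ x = b ∨ x = b * sK ∨ x = uK * b ∨
      x = uK * b * sK := by decide +kernel

set_option synthInstance.maxSize 4000 in
set_option synthInstance.maxHeartbeats 400000 in
theorem isS_conj_sK : ∀ x : K5, x * x = 1 → x ≠ 1 → isS x = true → ∃ y : K5, y * x * y⁻¹ = sK := by decide +kernel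

theorem card_A : (Finset.univ.filter fun x : K5 => inA x = true).card = 8 ∧
    (Finset.univ.filter fun x : K5 => six x = true).card = 6 := by decide +kernel

universe u

variable {G : Type u} [Group G] [Finite G]

/-- the relations of the centraliser -/
structure Frame (z : G) where
  a : G
  b : G
  w : G
  y : G
  a2 : G
  /-- the action of the outer element on the element of order three -/
  inv : Bool
  /-- the square of the outer element -/
  eps : Fin 2
  p : Fin 2
  r : Fin 2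
  zz : z * z = 1
  aa : a * a = 1
  bb : b * b = 1
  a22 : a2 * a2 = 1
  za : z * a = a * z
  zb : z * b = b * z
  zw : z * w = w * z
  zy : z * y = y * z
  ab : a * b = b * a
  w3 : w ^ 3 = 1
  wa : w * a * w⁻¹ = b
  wb : w * b * w⁻¹ = a * b
  ya : y * a * y⁻¹ = a2
  yw : y * w * y⁻¹ = if inv then w⁻¹ else w
  yy : y * y = z ^ eps.val
  pa : a2 * a * a2 = a * z ^ p.val
  pb : a2 * b * a2 = b * z ^ r.val
  pr : p ≠ 0 ∨ r ≠ 0
  /-- the index two subgroup -/
  C1 : Subgroup G
  c1a : a ∈ C1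
  c1b : b ∈ C1
  c1a2 : a2 ∈ C1
  c1w : w ∈ C1
  c1z : z ∈ C1
  c1y : y ∉ C1
  indep : ∀ i j e : ℕ, i < 2 → j < 2 → e < 2 → a ^ i * b ^ j * z ^ e = 1 → i = 0 ∧ j = 0 ∧ e = 0
  card : Nat.card ↥(centralizer ({z} : Set G)) = 192

namespace UData

variable (D : UData G)

theorem el_sq {x : K5} (h : x * x = 1) : D.el x * D.el x = 1 := by rw [← el_mul, h, el_one]

theorem exists_frame : Nonempty (Frame D.z) := by
  classical
  haveI : Fact (Nat.Prime 2) := ⟨Nat.prime_two⟩
  haveI : Fact (Nat.Prime 3) := ⟨Nat.prime_three⟩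
  set z := D.z with hzd
  obtain ⟨hzz, hz1⟩ := two_iff.1 D.z_two
  set C := centralizer ({z} : Set G) with hCd
  have hC : Nat.card ↥C = 192 := D.card_cent_z
  obtain ⟨hA1, hAs, hsu, hsuz, hA⟩ := A_group
  let A0 : Subgroup G :=
    { carrier := {g | ∃ x, inA x = true ∧ D.el x = g}
      one_mem' := ⟨1, hA1, D.el_one⟩
      mul_mem' := by
        rintro _ _ ⟨x, hx, rfl⟩ ⟨y, hy, rfl⟩
        exact ⟨x * y, ((hA x hx).2.2.2 y hy).2, D.el_mul x y⟩
      inv_mem' := by
        rintro _ ⟨x, hx, rfl⟩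
        exact ⟨x, hx, (inv_eq_of_mul_eq_one_right (D.el_sq (hA x hx).2.1)).symm⟩ }
  have hA0C : A0 ≤ C := by
    rintro _ ⟨x, hx, rfl⟩
    exact mem_centralizer_singleton_iff.2 (D.el_commute (hA x hx).1)
  have huA : D.u ∈ A0 := ⟨uK, (Bool.and_eq_true _ _ ▸ (Bool.and_eq_true _ _ ▸ hsu).1).1, D.el_uK⟩
  have hzA : z ∈ A0 := ⟨sK, hAs, rfl⟩
  have hcz : ∀ {g : G}, g ∈ C → g * z = z * g := fun hg => mem_centralizer_singleton_iff.1 hg
  have hUsix : ∀ {x : K5}, six x = true → IsConj D.u (D.el x) := by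
    intro x hx
    have hx' := hx
    simp only [six, Bool.and_eq_true, Bool.not_eq_true', beq_eq_false_iff_ne] at hx'
    obtain ⟨⟨h1, h2⟩, -⟩ := hx'
    refine (D.two_classes (D.el_two (hA x h1).2.1 h2)).resolve_right fun h => ?_
    have := (D.el_class (hA x h1).2.1 h2).1 h
    rw [(hA x h1).2.2.1 hx] at this
    exact Bool.noConfusion this
  have hA0cases : ∀ {g : G}, g ∈ A0 → g = 1 ∨ g = z ∨ IsConj D.u g := by
    rintro _ ⟨x, hx, rfl⟩
    by_cases h1 : x = 1
    · exact Or.inl (by rw [h1, el_one])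
    by_cases h2 : x = sK
    · exact Or.inr (Or.inl (by rw [h2]; rfl))
    exact Or.inr (Or.inr (hUsix (by simp [six, hx, h1, h2])))
  have hnU1 : ¬ IsConj D.u (1 : G) := fun h => by
    have := conj_two h D.five.two
    rw [orderOf_one] at this
    omega
  have hnUz : ¬ IsConj D.u z := D.z_not_conj_u
  -- elements of the class close to the first involution
  have hrel : ∀ {g : G}, g ∈ C → IsConj D.u g → g * D.u = D.u * g → IsConj D.u (g * D.u) → g ∈ A0 := by
    intro g hg hU hc hU'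
    obtain ⟨x, rfl⟩ := D.el_surj hc
    have hx2 : x * x = 1 := D.el_inj (by rw [el_mul, el_one]; exact (two_iff.1 (conj_two hU D.five.two)).1)
    have hx1 : x ≠ 1 := fun e => hnU1 (by rwa [e, el_one] at hU)
    have hU'' : IsConj D.u (D.el (x * uK)) := by rw [el_mul, el_uK]; exact hU'
    clear hU'
    have hxu : x * uK ≠ 1 := fun e => hnU1 (by rwa [e, el_one] at hU'')
    have hnS : ∀ {y : K5}, y * y = 1 → y ≠ 1 → IsConj D.u (D.el y) → isS y = false := by
      intro y h1 h2 h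
      by_contra h'
      exact D.z_not_conj_u (h.trans ((D.el_class h1 h2).2 (by simpa using h')).symm)
    have hxu2 : x * uK * (x * uK) = 1 := D.el_inj (by
      rw [el_mul, el_one]; exact (two_iff.1 (conj_two hU'' D.five.two)).1)
    exact ⟨x, rel_mem x (D.el_commute_iff.1 (hcz hg)) hx2 hx1 (hnS hx2 hx1 hU) hxu (hnS hxu2 hxu hU''), rfl⟩
  have hfindc : ∀ {v : G}, v ∈ C → IsConj D.u v → ∃ c ∈ C, c * D.u * c⁻¹ = v := by
    intro v hv hU
    obtain ⟨g, rfl⟩ := isConj_iff.1 hU
    obtain ⟨x, hx⟩ := D.el_surj (g := g⁻¹ * z * g) (by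
      have h := hcz hv
      calc g⁻¹ * z * g * D.u = g⁻¹ * (z * (g * D.u * g⁻¹)) * g := by group
        _ = g⁻¹ * (g * D.u * g⁻¹ * z) * g := by rw [h]
        _ = _ := by group)
    have hxz : IsConj z (D.el x) := hx ▸ isConj_iff.2 ⟨g⁻¹, by group⟩
    have hx2 : x * x = 1 := D.el_inj (by rw [el_mul, el_one]; exact (two_iff.1 (conj_two hxz D.z_two)).1)
    have hx1 : x ≠ 1 := fun e => by
      have := conj_two hxz D.z_two
      rw [e, el_one, orderOf_one] at this
      omega
    obtain ⟨y, hy⟩ := isS_conj_sK x hx2 hx1 ((D.el_class hx2 hx1).1 hxz)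
    refine ⟨g * (D.el y)⁻¹, mem_centralizer_singleton_iff.2 ?_, ?_⟩
    · have h1 : D.el y * (g⁻¹ * z * g) * (D.el y)⁻¹ = z := by rw [← hx, ← el_inv, ← el_mul, ← el_mul, hy]; rfl
      calc g * (D.el y)⁻¹ * z = g * (D.el y)⁻¹ * (D.el y * (g⁻¹ * z * g) * (D.el y)⁻¹) := by rw [h1]
        _ = _ := by group
    · rw [show g * (D.el y)⁻¹ * D.u * (g * (D.el y)⁻¹)⁻¹ = g * ((D.el y)⁻¹ * (D.u * D.el y)) * g⁻¹ by group,
        ← D.el_mem y, inv_mul_cancel_left]
  -- the normaliser
  set C1 := C ⊓ normalizer (A0 : Set G) with hC1d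
  have hkey : ∀ {c : G}, c ∈ C → c * D.u * c⁻¹ ∈ A0 → c ∈ C1 := by
    intro c hc hv
    have hz' : c⁻¹ * z * c = z := by
      rw [mul_assoc, ← hcz hc, inv_mul_cancel_left]
    have hsub : ∀ g ∈ A0, c⁻¹ * g * c ∈ A0 := by
      intro g hg
      have hgC : c⁻¹ * g * c ∈ C := C.mul_mem (C.mul_mem (C.inv_mem hc) (hA0C hg)) hc
      rcases hA0cases hg with rfl | rfl | hU
      · simp
      · rw [hz']; exact hzA
      obtain ⟨x, hx, rfl⟩ := hg
      obtain ⟨v, hvA, hve⟩ := hv
      rcases hA0cases (A0.mul_mem ⟨x, hx, rfl⟩ ⟨v, hvA, rfl⟩) with e | e | e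
      · have : D.el x = D.el v := by rw [eq_comm, ← inv_eq_of_mul_eq_one_right e, inv_eq_of_mul_eq_one_right (D.el_sq (hA x hx).2.1)]
        rw [this, hve, show c⁻¹ * (c * D.u * c⁻¹) * c = D.u by group]
        exact huA
      · have : D.el x = z * D.el v := by rw [← e, mul_assoc, D.el_sq (hA v hvA).2.1, mul_one]
        rw [this, hve, show c⁻¹ * (z * (c * D.u * c⁻¹)) * c = (c⁻¹ * z * c) * D.u by group, hz']
        exact A0.mul_mem hzA huA
      · refine hrel hgC (hU.trans (isConj_iff.2 ⟨c⁻¹, by group⟩)) ?_ ?_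
        · have hc' := D.el_commute ((hA x hx).2.2.2 v hvA).1
          rw [hve] at hc'
          calc c⁻¹ * D.el x * c * D.u = c⁻¹ * (D.el x * (c * D.u * c⁻¹)) * c := by group
            _ = c⁻¹ * (c * D.u * c⁻¹ * D.el x) * c := by rw [hc']
            _ = _ := by group
        · refine e.trans (isConj_iff.2 ⟨c⁻¹, ?_⟩)
          rw [hve]; group
    refine ⟨hc, ?_⟩
    have hmap : A0.map (MulAut.conj c⁻¹).toMonoidHom = A0 := Subgroup.eq_of_le_of_card_ge (by
      rintro _ ⟨g, hg, rfl⟩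
      simpa [MulAut.conj_apply] using hsub g hg) (Subgroup.card_map_of_injective (MulAut.conj c⁻¹).injective).ge
    have hin : c⁻¹ ∈ normalizer (A0 : Set G) := Subgroup.mem_normalizer_iff_map_conj_eq.2 hmap
    simpa using inv_mem hin
  have hRC1 : ∀ {c : G}, c ∈ C → c * D.u = D.u * c → c ∈ C1 := fun hc h => hkey hc (by
    rw [h, mul_inv_cancel_right]; exact huA)
  -- the order of the normaliser
  have hRcard : ∀ K : Subgroup G, K ≤ C → (∀ {g : G}, g ∈ C → g * D.u = D.u * g → g ∈ K) →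
      Nat.card ↥(K ⊓ centralizer ({D.u} : Set G)) = 16 := by
    intro K hK hK'
    rw [← card_cent_sK, ← Fintype.card_subtype, ← Nat.card_eq_fintype_card]
    refine (Nat.card_congr (Equiv.ofBijective (fun x => (⟨D.el x.1, hK' (mem_centralizer_singleton_iff.2
      (D.el_commute x.2)) (D.el_mem x.1), mem_centralizer_singleton_iff.2 (D.el_mem x.1)⟩ :
      ↥(K ⊓ centralizer ({D.u} : Set G)))) ⟨fun a b h => ?_, fun g => ?_⟩)).symm
    · have h' := congrArg Subtype.val h
      exact Subtype.ext (D.el_inj h')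
    · obtain ⟨x, hx⟩ := D.el_surj (mem_centralizer_singleton_iff.1 g.2.2)
      exact ⟨⟨x, D.el_commute_iff.1 (hx ▸ hcz (hK g.2.1))⟩, Subtype.ext hx⟩
  have hC1card : Nat.card ↥C1 = 96 := by
    have horb := Cfsg.Lib.MathieuEleven.ncard_conj_orbit C1 D.u
    have hR16 := hRcard C1 inf_le_left fun hg h => hRC1 hg h
    have hrange : (Set.range fun k : C1 => (k : G) * D.u * (k : G)⁻¹) = D.el '' {x | six x = true} := by
      ext g
      constructor
      · rintro ⟨k, rfl⟩
        obtain ⟨x, hx, hxe⟩ := (Subgroup.mem_normalizer_iff.1 k.2.2 D.u).1 huA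
        refine ⟨x, ?_, hxe⟩
        have hne : ∀ {v : G}, (v = 1 ∨ v = z) → D.el x ≠ v := fun hv e => by
          have hU : IsConj D.u (D.el x) := hxe ▸ isConj_iff.2 ⟨k, rfl⟩
          rcases hv with rfl | rfl
          exacts [hnU1 (e ▸ hU), hnUz (e ▸ hU)]
        show six x = true
        simp only [six, hx, Bool.true_and, Bool.and_eq_true, Bool.not_eq_true', beq_eq_false_iff_ne]
        exact ⟨fun e => hne (Or.inl rfl) (by rw [e, el_one]), fun e => hne (Or.inr rfl) (by rw [e]; rfl)⟩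
      · rintro ⟨x, hx, rfl⟩
        have hx' : inA x = true := by
          have hx' : six x = true := hx
          simp only [six, Bool.and_eq_true] at hx'
          exact hx'.1.1
        obtain ⟨c, hc, hce⟩ := hfindc (hA0C ⟨x, hx', rfl⟩) (hUsix hx)
        exact ⟨⟨c, hkey hc (hce ▸ ⟨x, hx', rfl⟩)⟩, hce⟩
    rw [hrange, Set.ncard_image_of_injective _ fun a b h => D.el_inj h, hR16] at horb
    rw [show {x : K5 | six x = true}.ncard = 6 by
      rw [← card_A.2, ← Set.ncard_coe_finset]; congr 1; ext x; simp] at horb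
    omega
  have hC1i : (C1.subgroupOf C).index = 2 := by
    have h := (C1.subgroupOf C).card_mul_index
    rw [Nat.card_congr (Subgroup.subgroupOfEquivOfLe (inf_le_left : C1 ≤ C)).toEquiv, hC1card, hC] at h
    omega
  haveI : (C1.subgroupOf C).Normal := Subgroup.normal_of_index_eq_two hC1i
  have hsq : ∀ {g : G}, g ∈ C → g * g ∈ C1 := fun {g} hg => by
    have := Subgroup.mul_self_mem_of_index_two hC1i ⟨g, hg⟩
    exact this
  have hconj : ∀ {g h : G}, g ∈ C → h ∈ C1 → g * h * g⁻¹ ∈ C1 := fun {g h} hg hh =>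
    (‹(C1.subgroupOf C).Normal›).conj_mem ⟨h, hh.1⟩ hh ⟨g, hg⟩
  -- an element of order three
  obtain ⟨⟨w, hwo, hwc⟩⟩ : Nonempty {y : G // orderOf y = 3 ∧ y * D.z = D.z * y} := by
    obtain ⟨w, hw⟩ := exists_prime_orderOf_dvd_card' (G := ↥C) 3 (by rw [hC]; norm_num)
    exact ⟨⟨w, by rw [Subgroup.orderOf_coe]; exact hw, mem_centralizer_singleton_iff.1 w.2⟩⟩
  have hwC : w ∈ C := mem_centralizer_singleton_iff.2 hwc
  have hw3 : w ^ 3 = 1 := orderOf_dvd_iff_pow_eq_one.1 hwo.dvd
  have hw1 : w ∈ C1 := by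
    have := hsq (C.mul_mem hwC hwC)
    rwa [show w * w * (w * w) = w ^ 3 * w by rw [pow_succ, pow_two]; group, hw3, one_mul] at this
  have hwN : ∀ g, g ∈ A0 → w * g * w⁻¹ ∈ A0 := fun g => (Subgroup.mem_normalizer_iff.1 hw1.2 g).1
  have hwz : w * z * w⁻¹ = z := by rw [hcz hwC, mul_inv_cancel_right]
  have hwfix : w * D.u ≠ D.u * w := fun h => by
    have hd := Subgroup.orderOf_dvd_natCard (C ⊓ centralizer ({D.u} : Set G))
      (show w ∈ C ⊓ centralizer ({D.u} : Set G) from ⟨hwC, mem_centralizer_singleton_iff.2 h⟩)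
    rw [hRcard C le_rfl (fun hg _ => hg), hwo] at hd
    norm_num at hd
  have huz : D.u * z = z * D.u := (hcz (hA0C huA))
  have hw3' : ∀ x, w * (w * (w * x * w⁻¹) * w⁻¹) * w⁻¹ = x := fun x => by
    calc w * (w * (w * x * w⁻¹) * w⁻¹) * w⁻¹ = w ^ 3 * x * (w ^ 3)⁻¹ := by rw [pow_succ, pow_two]; group
      _ = x := by rw [hw3]; group
  have hwzconj : ∀ x, w * (x * z) * w⁻¹ = w * x * w⁻¹ * z := fun x => by
    calc w * (x * z) * w⁻¹ = w * x * w⁻¹ * (w * z * w⁻¹) := by group
      _ = _ := by rw [hwz]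
  set b0 := w * D.u * w⁻¹ with hb0d
  set c0 := w * b0 * w⁻¹ with hc0d
  have hwu : ∀ {x : G}, w * x * w⁻¹ = x → x = D.u → False := fun h e => hwfix (by
    subst e; exact mul_inv_eq_iff_eq_mul.1 h)
  have hb0u : b0 ≠ D.u := fun e => hwu e rfl
  have hb0uz : b0 ≠ D.u * z := fun e => by
    have h2 : c0 = D.u := by rw [hc0d, e, hwzconj, ← hb0d, e, mul_assoc, hzz, mul_one]
    have h3 := hw3' D.u
    rw [← hb0d, ← hc0d, h2, ← hb0d] at h3
    exact hb0u h3
  have hc0u : c0 ≠ D.u := fun e => by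
    have h3 := hw3' D.u
    rw [← hb0d, ← hc0d, e, ← hb0d] at h3
    exact hb0u h3
  have hc0uz : c0 ≠ D.u * z := fun e => by
    have h3 := hw3' D.u
    rw [← hb0d, ← hc0d, e, hwzconj, ← hb0d] at h3
    refine hb0uz ?_
    calc b0 = b0 * (z * z) := by rw [hzz, mul_one]
      _ = D.u * z := by rw [← mul_assoc, h3]
  have hc0b : c0 ≠ b0 := fun e => by
    have h3 := hw3' D.u
    rw [← hb0d, ← hc0d, e, ← hc0d, e] at h3
    exact hb0u h3
  have hc0bz : c0 ≠ b0 * z := fun e => by
    have h3 := hw3' D.u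
    rw [← hb0d, ← hc0d, e, hwzconj, ← hc0d, e, mul_assoc, hzz, mul_one] at h3
    exact hb0u h3
  obtain ⟨bK, hbA, hbe⟩ := hwN _ huA
  obtain ⟨cK, hcA, hce⟩ := hwN _ ⟨bK, hbA, hbe⟩
  rw [← hb0d] at hbe
  rw [← hb0d, ← hc0d] at hce
  have hsix : ∀ {x : K5}, inA x = true → IsConj D.u (D.el x) → six x = true := fun {x} hx hU => by
    simp only [six, hx, Bool.true_and, Bool.and_eq_true, Bool.not_eq_true', beq_eq_false_iff_ne]
    exact ⟨fun e => hnU1 (by rwa [e, el_one] at hU), fun e => hnUz (by rwa [e] at hU)⟩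
  have hbsix : six bK = true := hsix hbA (hbe ▸ isConj_iff.2 ⟨w, rfl⟩)
  have hcsix : six cK = true := hsix hcA (hce ▸ (show IsConj D.u b0 from isConj_iff.2 ⟨w, rfl⟩).trans (isConj_iff.2 ⟨w, rfl⟩))
  have hup : ∀ {x : K5}, D.el x ≠ D.u → D.el x ≠ D.u * z → upair x = false := fun {x} h1 h2 => by
    simp only [upair, Bool.or_eq_false_iff, beq_eq_false_iff_ne]
    exact ⟨fun e => h1 (by rw [e, el_uK]), fun e => h2 (by rw [e, el_mul, el_uK]; rfl)⟩
  have hbup : upair bK = false := hup (hbe ▸ hb0u) (hbe ▸ hb0uz)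
  have hcK := (third_pair bK hbsix hbup).1 cK hcsix (hup (hce ▸ hc0u) (hce ▸ hc0uz))
    (fun e => hc0b (by rw [← hce, e, hbe])) (fun e => hc0bz (by rw [← hce, e, el_mul, hbe]; rfl))
  -- choose the generators
  obtain ⟨a, b, haA, hb, hab, ha_u, hwa, hwb⟩ : ∃ a b : G, a ∈ A0 ∧ (∃ x, six x = true ∧ upair x = false ∧ D.el x = b) ∧
      a * b = b * a ∧ (a = D.u ∨ a = D.u * z) ∧ w * a * w⁻¹ = b ∧ w * b * w⁻¹ = a * b := by
    have hcomm : D.u * b0 = b0 * D.u := by
      rw [← D.el_uK, ← hbe]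
      exact D.el_commute ((hA uK (Bool.and_eq_true _ _ ▸ (Bool.and_eq_true _ _ ▸ hsu).1).1).2.2.2 bK hbA).1
    rcases hcK with e | e
    · refine ⟨D.u, b0, huA, ⟨bK, hbsix, hbup, hbe⟩, hcomm, Or.inl rfl, rfl, ?_⟩
      rw [← hc0d, ← hce, e, el_mul, el_uK, hbe]
    · have hb0z : b0 * z = z * b0 := by rw [← hbe]; exact hcz (hA0C ⟨bK, hbA, rfl⟩)
      refine ⟨D.u * z, b0 * z, A0.mul_mem huA hzA, ⟨bK * sK, ?_, ?_, by rw [el_mul, hbe]; rfl⟩, ?_, Or.inr rfl,
        by rw [hwzconj], ?_⟩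
      · refine hsix ((hA bK hbA).2.2.2 sK hAs).2 ?_
        rw [el_mul, hbe, show D.el sK = z from rfl, ← hwzconj]
        refine IsConj.trans ?_ (isConj_iff.2 ⟨w, rfl⟩)
        have e : D.u * z = D.el (uK * sK) := by rw [el_mul, el_uK]; rfl
        rw [e]
        exact hUsix hsuz
      · refine hup (fun h => hb0uz ?_) (fun h => hb0u ?_)
        · rw [el_mul, hbe, show D.el sK = z from rfl] at h
          rw [← h, mul_assoc, hzz, mul_one]
        · rw [el_mul, hbe, show D.el sK = z from rfl] at h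
          exact mul_right_cancel h
      · calc D.u * z * (b0 * z) = D.u * (z * b0) * z := by group
          _ = D.u * b0 * (z * z) := by rw [← hb0z]; group
          _ = b0 * D.u * (z * z) := by rw [hcomm]
          _ = b0 * (D.u * z) * z := by group
          _ = b0 * (z * D.u) * z := by rw [huz]
          _ = b0 * z * (D.u * z) := by group
      · rw [hwzconj, ← hc0d, ← hce, e, el_mul, el_mul, el_uK, hbe, show D.el sK = z from rfl]
        calc D.u * b0 * z * z = D.u * b0 * (z * z) := by group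
          _ = D.u * (z * z) * b0 * 1 := by rw [hzz]; group
          _ = D.u * z * (z * b0) := by group
          _ = D.u * z * (b0 * z) := by rw [hb0z]
  obtain ⟨xb, hxb6, hxbu, hxbe⟩ := hb
  have hxbA : inA xb = true := by simp only [six, Bool.and_eq_true] at hxb6; exact hxb6.1.1
  have hbA0 : b ∈ A0 := ⟨xb, hxbA, hxbe⟩
  have hafix : ∀ g : G, g ∈ C → g * a = a * g → g * D.u = D.u * g := by
    intro g hg h
    rcases ha_u with e | e <;> rw [e] at h
    · exact h
    · refine mul_right_cancel (b := z) ?_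
      calc g * D.u * z = g * (D.u * z) := by group
        _ = D.u * z * g := h
        _ = D.u * (z * g) := by group
        _ = D.u * g * z := by rw [← hcz hg]; group
  obtain ⟨xa, hxa6, hxau, hxae⟩ : ∃ x, six x = true ∧ upair x = true ∧ D.el x = a := by
    rcases ha_u with e | e
    · exact ⟨uK, hsu, by simp [upair], by rw [el_uK, e]⟩
    · exact ⟨uK * sK, hsuz, by simp [upair], by rw [el_mul, el_uK, e]; rfl⟩
  have hxaA : inA xa = true := by simp only [six, Bool.and_eq_true] at hxa6; exact hxa6.1.1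
  have haa : a * a = 1 := hxae ▸ D.el_sq (hA xa hxaA).2.1
  have hbb : b * b = 1 := hxbe ▸ D.el_sq (hA xb hxbA).2.1
  have haz : a * z = z * a := hcz (hA0C haA)
  have hbz : b * z = z * b := hcz (hA0C hbA0)
  have habne : ∀ {g : G}, g = a ∨ g = a * z → g = b ∨ g = b * z → False := by
    intro g h1 h2
    obtain ⟨xg, hg, hgu⟩ : ∃ x, D.el x = g ∧ upair x = true := by
      rcases h1 with rfl | rfl
      · exact ⟨xa, hxae, hxau⟩
      · refine ⟨xa * sK, by rw [el_mul, hxae]; rfl, ?_⟩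
        simp only [upair, Bool.or_eq_true, beq_iff_eq] at hxau ⊢
        rcases hxau with e | e
        · exact Or.inr (by rw [e])
        · exact Or.inl (by rw [e, mul_assoc, sK_facts.1, mul_one])
    have hx : xg = xb ∨ xg = xb * sK := by
      rcases h2 with rfl | rfl
      · exact Or.inl (D.el_inj (by rw [hg, hxbe]))
      · exact Or.inr (D.el_inj (by rw [hg, el_mul, hxbe]; rfl))
    simp only [upair, Bool.or_eq_true, beq_iff_eq] at hgu
    simp only [upair, Bool.or_eq_false_iff, beq_eq_false_iff_ne] at hxbu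
    rcases hx with e | e <;> rw [e] at hgu <;> rcases hgu with e' | e'
    · exact hxbu.1 e'
    · exact hxbu.2 e'
    · exact hxbu.2 (by rw [← e', mul_assoc, sK_facts.1, mul_one])
    · exact hxbu.1 (mul_right_cancel e')
  -- an element moving the first pair alone
  obtain ⟨rK, hrs, hrmove⟩ := R_move
  set t1 := w * D.el rK * w⁻¹ with ht1d
  have hrC : D.el rK ∈ C := mem_centralizer_singleton_iff.2 (D.el_commute hrs)
  have hrb : D.el rK * b * (D.el rK)⁻¹ = b * z := by
    rw [← hxbe, ← el_inv, ← el_mul, ← el_mul, hrmove xb hxb6 hxbu, el_mul]; rfl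
  have hra : D.el rK * a = a * D.el rK := by
    have h := D.el_mem rK
    rcases ha_u with e | e <;> rw [e]
    · exact h
    · rw [← mul_assoc, h, mul_assoc, hcz hrC, mul_assoc]
  have hra' : D.el rK * a * (D.el rK)⁻¹ = a := by rw [hra, mul_inv_cancel_right]
  have ht1b : t1 * b * t1⁻¹ = b := by
    rw [← hwa]
    calc t1 * (w * a * w⁻¹) * t1⁻¹ = w * (D.el rK * a * (D.el rK)⁻¹) * w⁻¹ := by rw [ht1d]; group
      _ = _ := by rw [hra']
  have hwab : w * (a * b) * w⁻¹ = a := by
    calc w * (a * b) * w⁻¹ = (w * a * w⁻¹) * (w * b * w⁻¹) := by group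
      _ = b * (a * b) := by rw [hwa, hwb]
      _ = a := by rw [hab, ← mul_assoc, hbb, one_mul]
  have ht1a : t1 * a * t1⁻¹ = a * z := by
    conv_lhs => rw [← hwab]
    calc t1 * (w * (a * b) * w⁻¹) * t1⁻¹ = w * ((D.el rK * a * (D.el rK)⁻¹) * (D.el rK * b * (D.el rK)⁻¹)) * w⁻¹ := by
          rw [ht1d]; group
      _ = w * ((a * b) * z) * w⁻¹ := by rw [hra', hrb]; group
      _ = a * z := by rw [hwzconj, hwab]
  have ht1C : t1 ∈ C := C.mul_mem (C.mul_mem hwC hrC) (C.inv_mem hwC)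
  -- fixing one pair fixes the others
  have hpair : ∀ {g : G}, g ∈ C → (g * a * g⁻¹ = a ∨ g * a * g⁻¹ = a * z) →
      (g * b * g⁻¹ = b ∨ g * b * g⁻¹ = b * z) := by
    have hR : ∀ {g : G}, g ∈ C → g * a * g⁻¹ = a → g * b * g⁻¹ = b ∨ g * b * g⁻¹ = b * z := by
      intro g hg h
      obtain ⟨x, hx⟩ := D.el_surj (hafix g hg (mul_inv_eq_iff_eq_mul.1 h))
      have hxs : x * sK = sK * x := D.el_commute_iff.1 (hx ▸ hcz hg)
      rw [← hx, ← hxbe, ← el_inv, ← el_mul, ← el_mul]
      rcases R_fix x hxs xb hxbA with e | e <;> rw [e]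
      · exact Or.inl rfl
      · exact Or.inr (by rw [el_mul]; rfl)
    intro g hg h
    rcases h with h | h
    · exact hR hg h
    have hcj : ∀ x, t1 * (x * z) * t1⁻¹ = t1 * x * t1⁻¹ * z := fun x => by
      calc t1 * (x * z) * t1⁻¹ = t1 * x * t1⁻¹ * (t1 * z * t1⁻¹) := by group
        _ = _ := by rw [hcz ht1C, mul_inv_cancel_right]
    have h' : (t1 * g) * a * (t1 * g)⁻¹ = a := by
      rw [show t1 * g * a * (t1 * g)⁻¹ = t1 * (g * a * g⁻¹) * t1⁻¹ by group, h, hcj, ht1a, mul_assoc, hzz, mul_one]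
    rcases hR (C.mul_mem ht1C hg) h' with e | e <;>
      rw [show t1 * g * b * (t1 * g)⁻¹ = t1 * (g * b * g⁻¹) * t1⁻¹ by group] at e
    · refine Or.inl (mul_left_cancel (mul_right_cancel (e.trans ?_) : t1 * _ = t1 * b))
      exact ht1b.symm
    · refine Or.inr (mul_left_cancel (mul_right_cancel (e.trans ?_) : t1 * _ = t1 * (b * z)))
      rw [hcj, ht1b]
  have hcentA : ∀ {g : G}, g ∈ C → g * a = a * g → g * b = b * g → g ∈ A0 := by
    intro g hg h1 h2
    obtain ⟨x, hx⟩ := D.el_surj (hafix g hg h1)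
    refine ⟨x, R_cent x (D.el_commute_iff.1 (hx ▸ hcz hg)) xb hxb6 hxbu (D.el_commute_iff.1 ?_), hx⟩
    rw [hx, hxbe]; exact h2
  have hA0list : ∀ {g : G}, g ∈ A0 → (g = 1 ∨ g = z) ∨ (g = a ∨ g = a * z) ∨ (g = b ∨ g = b * z) ∨
      (g = a * b ∨ g = a * b * z) := by
    rintro _ ⟨x, hx, rfl⟩
    rcases (third_pair xb hxb6 hxbu).2 x hx with e | e | e | e | e | e | e | e <;> subst e
    · exact Or.inl (Or.inl D.el_one)
    · exact Or.inl (Or.inr rfl)
    · refine Or.inr (Or.inl ?_)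
      rcases ha_u with e | e <;> rw [e, el_uK]
      · exact Or.inl rfl
      · exact Or.inr (by rw [mul_assoc, hzz, mul_one])
    · refine Or.inr (Or.inl ?_)
      rcases ha_u with e | e <;> rw [e, el_mul, el_uK]
      · exact Or.inr rfl
      · exact Or.inl rfl
    · exact Or.inr (Or.inr (Or.inl (Or.inl hxbe)))
    · exact Or.inr (Or.inr (Or.inl (Or.inr (by rw [el_mul, hxbe]; rfl))))
    · refine Or.inr (Or.inr (Or.inr ?_))
      rw [el_mul, el_uK, hxbe]
      rcases ha_u with e | e <;> rw [e]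
      · exact Or.inl rfl
      · refine Or.inr ?_
        calc D.u * b = D.u * (z * z) * b := by rw [hzz, mul_one]
          _ = D.u * z * (z * b) := by group
          _ = D.u * z * (b * z) := by rw [hbz]
          _ = D.u * z * b * z := by group
    · refine Or.inr (Or.inr (Or.inr ?_))
      rw [el_mul, el_mul, el_uK, hxbe, show D.el sK = z from rfl]
      rcases ha_u with e | e <;> rw [e]
      · exact Or.inr rfl
      · refine Or.inl ?_
        calc D.u * b * z = D.u * (b * z) := by group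
          _ = D.u * (z * b) := by rw [hbz]
          _ = D.u * z * b := by group
  -- an element of the normaliser maps the first pair to one of three
  have hwpow : ∀ i : ℕ, w ^ i ∈ C1 := fun i => C1.pow_mem hw1 i
  have hwinv : w⁻¹ = w ^ 2 := by
    refine inv_eq_of_mul_eq_one_right ?_
    rw [← pow_succ', hw3]
  have hshift : ∀ {g : G}, g ∈ C1 → ∃ i : ℕ, (w ^ i * g) * a * (w ^ i * g)⁻¹ = a ∨
      (w ^ i * g) * a * (w ^ i * g)⁻¹ = a * z := by
    intro g hg
    have hU : IsConj D.u (g * a * g⁻¹) := (hxae ▸ hUsix hxa6 : IsConj D.u a).trans (isConj_iff.2 ⟨g, rfl⟩)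
    rcases hA0list ((Subgroup.mem_normalizer_iff.1 hg.2 a).1 haA) with h | h | h | h
    · rcases h with h | h <;> rw [h] at hU
      exacts [absurd hU hnU1, absurd hU hnUz]
    · exact ⟨0, by simpa using h⟩
    · refine ⟨2, ?_⟩
      have hx : ∀ x, w ^ 2 * (w * x * w⁻¹) * (w ^ 2)⁻¹ = x := fun x => by
        calc w ^ 2 * (w * x * w⁻¹) * (w ^ 2)⁻¹ = w ^ 3 * x * (w ^ 3)⁻¹ := by rw [pow_succ w 2, pow_two]; group
          _ = x := by rw [hw3]; group
      rw [show w ^ 2 * g * a * (w ^ 2 * g)⁻¹ = w ^ 2 * (g * a * g⁻¹) * (w ^ 2)⁻¹ by group]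
      rcases h with h | h <;> rw [h]
      · exact Or.inl (by rw [← hwa, hx])
      · exact Or.inr (by rw [← hwa, ← hwzconj, hx])
    · refine ⟨1, ?_⟩
      rw [pow_one, show w * g * a * (w * g)⁻¹ = w * (g * a * g⁻¹) * w⁻¹ by group]
      rcases h with h | h <;> rw [h]
      · exact Or.inl hwab
      · exact Or.inr (by rw [hwzconj, hwab])
  have hbab : b ≠ a * b ∧ b * z ≠ a * b ∧ b ≠ a * b * z ∧ b * z ≠ a * b * z := by
    refine ⟨fun e => ?_, fun e => ?_, fun e => ?_, fun e => ?_⟩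
    · exact hnU1 (right_eq_mul.1 e ▸ (hxae ▸ hUsix hxa6 : IsConj D.u a))
    · rw [hbz] at e
      exact hnUz (mul_right_cancel e ▸ (hxae ▸ hUsix hxa6 : IsConj D.u a))
    · have e' : b * z = a * b := by
        calc b * z = a * b * z * z := by rw [← e]
          _ = a * b := by rw [mul_assoc, hzz, mul_one]
      rw [hbz] at e'
      exact hnUz (mul_right_cancel e' ▸ (hxae ▸ hUsix hxa6 : IsConj D.u a))
    · exact hnU1 (right_eq_mul.1 (mul_right_cancel e) ▸ (hxae ▸ hUsix hxa6 : IsConj D.u a))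
  -- the normaliser of the element of order three
  set N := C ⊓ normalizer (zpowers w : Set G) with hNd
  have hNpm : ∀ {g : G}, g ∈ N → g * w * g⁻¹ = w ∨ g * w * g⁻¹ = w⁻¹ := by
    intro g hg
    have hm := (Subgroup.mem_normalizer_iff.1 hg.2 w).1 (mem_zpowers w)
    obtain ⟨i, hi⟩ := (isOfFinOrder_iff_pow_eq_one.2 ⟨3, by norm_num, hw3⟩).mem_powers_iff_mem_zpowers.2 hm
    have hi' : w ^ (i % 3) = g * w * g⁻¹ := by rw [← hwo, pow_mod_orderOf]; exact hi
    have h3 : i % 3 < 3 := Nat.mod_lt _ (by norm_num)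
    rcases (show i % 3 = 0 ∨ i % 3 = 1 ∨ i % 3 = 2 by omega) with e | e | e <;> rw [e] at hi'
    · exfalso
      rw [pow_zero, eq_comm, mul_inv_eq_one, mul_eq_left] at hi'
      rw [hi', orderOf_one] at hwo; omega
    · exact Or.inl (by rw [← hi', pow_one])
    · exact Or.inr (by rw [← hi', hwinv])
  have hsmall : ∀ {g : G}, g ∈ C1 → g ∈ N → ∃ i : ℕ, g = w ^ i ∨ g = z * w ^ i := by
    intro g hg hgN
    obtain ⟨i, hi⟩ := hshift hg
    set g' := w ^ i * g with hg'
    have hg'C : g' ∈ C := C.mul_mem (C.pow_mem hwC i) hg.1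
    have hgb := hpair hg'C hi
    have hN' : g' * w * g'⁻¹ = g * w * g⁻¹ := by
      rw [hg', show w ^ i * g * w * (w ^ i * g)⁻¹ = w ^ i * (g * w * g⁻¹) * (w ^ i)⁻¹ by group]
      rcases hNpm hgN with e | e <;> rw [e]
      · rw [← pow_succ, pow_succ', mul_inv_cancel_right]
      · rw [((Commute.refl w).pow_left i).inv_right.eq, mul_inv_cancel_right]
    rcases hNpm hgN with e | e <;> rw [e] at hN'
    swap
    · exfalso
      have h1 : g' * b * g'⁻¹ = w⁻¹ * (g' * a * g'⁻¹) * w := by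
        rw [← hwa]
        calc g' * (w * a * w⁻¹) * g'⁻¹ = (g' * w * g'⁻¹) * (g' * a * g'⁻¹) * (g' * w * g'⁻¹)⁻¹ := by group
          _ = _ := by rw [hN', inv_inv]
      have h2 : w⁻¹ * a * w = a * b := by
        calc w⁻¹ * a * w = w⁻¹ * (w * (a * b) * w⁻¹) * w := by rw [hwab]
          _ = a * b := by group
      have h3 : w⁻¹ * (a * z) * w = a * b * z := by
        calc w⁻¹ * (a * z) * w = w⁻¹ * a * (z * w) := by group
          _ = w⁻¹ * a * (w * z) := by rw [← hcz hwC]
          _ = w⁻¹ * a * w * z := by group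
          _ = _ := by rw [h2]
      rcases hi with ha | ha <;> rw [ha] at h1 <;> rcases hgb with hb' | hb' <;> rw [hb'] at h1 <;>
        first | rw [h2] at h1 | rw [h3] at h1
      exacts [hbab.1 h1, hbab.2.1 h1, hbab.2.2.1 h1, hbab.2.2.2 h1]
    have h1 : g' * b * g'⁻¹ = w * (g' * a * g'⁻¹) * w⁻¹ := by
      rw [← hwa]
      calc g' * (w * a * w⁻¹) * g'⁻¹ = (g' * w * g'⁻¹) * (g' * a * g'⁻¹) * (g' * w * g'⁻¹)⁻¹ := by group
        _ = _ := by rw [hN']
    have h2 : g' * (a * b) * g'⁻¹ = w * (g' * b * g'⁻¹) * w⁻¹ := by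
      rw [← hwb]
      calc g' * (w * b * w⁻¹) * g'⁻¹ = (g' * w * g'⁻¹) * (g' * b * g'⁻¹) * (g' * w * g'⁻¹)⁻¹ := by group
        _ = _ := by rw [hN']
    have hboth : g' * a * g'⁻¹ = a ∧ g' * b * g'⁻¹ = b := by
      rcases hi with ha | ha
      · exact ⟨ha, by rw [h1, ha, hwa]⟩
      exfalso
      have hb' : g' * b * g'⁻¹ = b * z := by rw [h1, ha, hwzconj, hwa]
      rw [show g' * (a * b) * g'⁻¹ = (g' * a * g'⁻¹) * (g' * b * g'⁻¹) by group, hb', ha, hwzconj, hwb,
        show a * z * (b * z) = a * (z * b) * z by group, ← hbz, show a * (b * z) * z = a * b * (z * z) by group, hzz,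
        mul_one, left_eq_mul] at h2
      exact hz1 h2
    have hgA : g' ∈ A0 := hcentA hg'C (mul_inv_eq_iff_eq_mul.1 hboth.1) (mul_inv_eq_iff_eq_mul.1 hboth.2)
    have hcom : w * g' * w⁻¹ = g' := by
      have := mul_inv_eq_iff_eq_mul.1 hN'
      rw [← this, mul_inv_cancel_right]
    have hgz : g' = 1 ∨ g' = z := by
      rcases hA0list hgA with h | h | h | h
      · exact h
      all_goals exfalso
      · rcases h with h | h <;> rw [h] at hcom
        · rw [hwa] at hcom; exact habne (Or.inl rfl) (Or.inl hcom.symm)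
        · rw [hwzconj, hwa] at hcom; exact habne (Or.inr rfl) (Or.inr hcom.symm)
      · rcases h with h | h <;> rw [h] at hcom
        · rw [hwb] at hcom; exact hbab.1 hcom.symm
        · rw [hwzconj, hwb] at hcom; exact hbab.2.2.2 hcom.symm
      · rcases h with h | h <;> rw [h] at hcom
        · rw [hwab, left_eq_mul] at hcom
          have hbU : IsConj D.u b := hxbe ▸ hUsix hxb6
          rw [hcom] at hbU
          exact hnU1 hbU
        · rw [hwzconj, hwab, mul_right_cancel_iff, left_eq_mul] at hcom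
          exact absurd (hxbe ▸ hUsix hxb6 : IsConj D.u b) (hcom ▸ hnU1)
    obtain ⟨j, hj⟩ : ∃ j : ℕ, (w ^ i)⁻¹ = w ^ j := ⟨2 * i, by rw [← inv_pow, hwinv, ← pow_mul]⟩
    refine ⟨j, ?_⟩
    have hgg : g = (w ^ i)⁻¹ * g' := by rw [hg']; group
    rw [hj] at hgg
    rcases hgz with e | e <;> rw [e] at hgg
    · exact Or.inl (by rw [hgg, mul_one])
    · exact Or.inr (by rw [hgg, hcz (C.pow_mem hwC j)])
  have hN : Nat.card ↥N = 12 := by
    have hle : zpowers w ≤ C := zpowers_le.2 hwC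
    obtain ⟨hn, hmod⟩ := Cfsg.Lib.MathieuEleven.sylow_count C hle (p := 3) (n := 1)
      (by rw [Nat.card_zpowers, hwo, pow_one]) (by rw [hC]; norm_num)
    rw [hC, ← hNd] at hn
    have hzN : z ∈ N := ⟨mem_centralizer_singleton_iff.2 rfl, Cfsg.Lib.MathieuEleven.mem_normalizer_zpowers (by
      rw [← hcz hwC, mul_inv_cancel_right]; exact mem_zpowers w)⟩
    have hwN' : w ∈ N := ⟨hwC, Subgroup.le_normalizer (mem_zpowers w)⟩
    have h2 : 2 ∣ Nat.card ↥N := D.z_two ▸ Subgroup.orderOf_dvd_natCard N hzN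
    have h3 : 3 ∣ Nat.card ↥N := hwo ▸ Subgroup.orderOf_dvd_natCard N hwN'
    have h6 : Nat.card ↥(N ⊓ C1) ≤ 6 := by
      have hsub : ((N ⊓ C1 : Subgroup G) : Set G) ⊆ (fun x : Fin 2 × Fin 3 => z ^ x.1.val * w ^ x.2.val) '' Set.univ := by
        intro g hg
        obtain ⟨i, hi⟩ := hsmall hg.2 hg.1
        rw [← pow_mod_orderOf w i, hwo] at hi
        rcases hi with e | e
        · exact ⟨(0, ⟨i % 3, Nat.mod_lt _ (by norm_num)⟩), trivial, by simp [e]⟩
        · exact ⟨(1, ⟨i % 3, Nat.mod_lt _ (by norm_num)⟩), trivial, by simp [e]⟩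
      have := (Set.ncard_le_ncard hsub (Set.toFinite _)).trans (Set.ncard_image_le (Set.toFinite _))
      rwa [← Nat.card_coe_set_eq, SetLike.coe_sort_coe, Set.ncard_univ, Nat.card_prod, Nat.card_fin, Nat.card_fin] at this
    have hidx : C1.relIndex N ≤ 2 := by
      refine le_of_le_of_eq (Subgroup.relIndex_le_of_le_right (inf_le_left : N ≤ C) ?_) hC1i
      show (C1.subgroupOf C).index ≠ 0
      rw [hC1i]; norm_num
    have hmul := Cfsg.Lib.MathieuEleven.card_inf_mul_relIndex C1 N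
    have hle12 : Nat.card ↥N ≤ 12 := by
      have := Nat.mul_le_mul h6 hidx
      rwa [hmul] at this
    have : Nat.card ↥N = 6 ∨ Nat.card ↥N = 12 := by
      have : 0 < Nat.card ↥N := Nat.card_pos
      omega
    rcases this with e | e
    · exfalso; rw [e] at hn; omega
    · exact e
  -- an outer element
  obtain ⟨y0, hy0N, hy0⟩ : ∃ y ∈ N, y ∉ C1 := by
    by_contra! hall
    have hsub : (N : Set G) ⊆ (fun x : Fin 2 × Fin 3 => z ^ x.1.val * w ^ x.2.val) '' Set.univ := by
      intro g hg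
      obtain ⟨i, hi⟩ := hsmall (hall g hg) hg
      rw [← pow_mod_orderOf w i, hwo] at hi
      rcases hi with e | e
      · exact ⟨(0, ⟨i % 3, Nat.mod_lt _ (by norm_num)⟩), trivial, by simp [e]⟩
      · exact ⟨(1, ⟨i % 3, Nat.mod_lt _ (by norm_num)⟩), trivial, by simp [e]⟩
    have := (Set.ncard_le_ncard hsub (Set.toFinite _)).trans (Set.ncard_image_le (Set.toFinite _))
    rw [← Nat.card_coe_set_eq, SetLike.coe_sort_coe, hN, Set.ncard_univ, Nat.card_prod, Nat.card_fin, Nat.card_fin] at this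
    omega
  have hy0C : y0 ∈ C := hy0N.1
  set y := y0 ^ 3 with hyd
  have hyN : y ∈ N := N.pow_mem hy0N 3
  have hyC : y ∈ C := hyN.1
  have hy1 : y ∉ C1 := fun h => hy0 (by
    have := C1.mul_mem h (C1.inv_mem (hsq hy0C))
    rwa [hyd, show y0 ^ 3 * (y0 * y0)⁻¹ = y0 by rw [pow_succ, pow_two]; group] at this)
  obtain ⟨e, he⟩ : ∃ e : Fin 2, y * y = z ^ e.val := by
    obtain ⟨i, hi⟩ := hsmall (hsq hy0C) (N.mul_mem hy0N hy0N)
    have hc : Commute z (w ^ i) := (show Commute z w from (hcz hwC).symm).pow_right i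
    rw [hyd, ← pow_add, show 3 + 3 = 2 * 3 from rfl, pow_mul, pow_two]
    have hwi : (w ^ i) ^ 3 = 1 := by rw [← pow_mul, mul_comm, pow_mul, hw3, one_pow]
    rcases hi with e | e <;> rw [e]
    · exact ⟨0, by rw [hwi]; simp⟩
    · exact ⟨1, by rw [hc.mul_pow, hwi, mul_one, pow_succ, pow_two, hzz, one_mul]; simp⟩
  have hyz : y * z = z * y := hcz hyC
  set a2 := y * a * y⁻¹ with ha2d
  have haC : a ∈ C := hA0C haA
  have haC1 : a ∈ C1 := hRC1 haC (by
    rcases ha_u with e | e <;> rw [e]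
    calc D.u * z * D.u = D.u * (z * D.u) := by group
      _ = D.u * (D.u * z) := by rw [huz]
      _ = _ := by group)
  have hbC1 : b ∈ C1 := hwa ▸ hconj hwC haC1
  have ha2C1 : a2 ∈ C1 := hconj hyC haC1
  have ha2sq : a2 * a2 = 1 := by
    rw [ha2d, show y * a * y⁻¹ * (y * a * y⁻¹) = y * (a * a) * y⁻¹ by group, haa, mul_one, mul_inv_cancel]
  have ha2inv : a2⁻¹ = a2 := inv_eq_of_mul_eq_one_right ha2sq
  have ha2A : a2 ∉ A0 := fun h => hy1 (hkey hyC (by
    rcases ha_u with e | e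
    · rwa [ha2d, e] at h
    · have h' := A0.mul_mem h hzA
      rwa [ha2d, e, show y * (D.u * z) * y⁻¹ * z = y * D.u * (z * y⁻¹) * z by group,
        show z * y⁻¹ = y⁻¹ * z from ((show Commute y z from hyz).inv_left).eq.symm,
        show y * D.u * (y⁻¹ * z) * z = y * D.u * y⁻¹ * (z * z) by group, hzz, mul_one] at h'))
  -- an involution of the normaliser fixes the pairs
  have hfixa : a2 * a * a2⁻¹ = a ∨ a2 * a * a2⁻¹ = a * z := by
    have hU : IsConj D.u (a2 * a * a2⁻¹) := (hxae ▸ hUsix hxa6 : IsConj D.u a).trans (isConj_iff.2 ⟨a2, rfl⟩)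
    rcases hA0list ((Subgroup.mem_normalizer_iff.1 ha2C1.2 a).1 haA) with h | h | h | h
    · rcases h with h | h <;> rw [h] at hU
      exacts [absurd hU hnU1, absurd hU hnUz]
    · exact h
    all_goals exfalso
    all_goals
      obtain ⟨i, hi⟩ := hshift ha2C1
      have hg'C : w ^ i * a2 ∈ C := C.mul_mem (C.pow_mem hwC i) ha2C1.1
    · -- image of the first pair is the second
      have hback : a2 * b * a2⁻¹ = a ∨ a2 * b * a2⁻¹ = a * z := by
        have hcj : a2 * (a2 * a * a2⁻¹) * a2⁻¹ = a := by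
          rw [show a2 * (a2 * a * a2⁻¹) * a2⁻¹ = (a2 * a2) * a * (a2 * a2)⁻¹ by group, ha2sq, one_mul, inv_one, mul_one]
        rcases h with h | h <;> rw [h] at hcj
        · exact Or.inl hcj
        · refine Or.inr ?_
          calc a2 * b * a2⁻¹ = a2 * (b * z) * a2⁻¹ * (a2 * z⁻¹ * a2⁻¹) := by group
            _ = a * z := by
              rw [hcj, inv_eq_of_mul_eq_one_right hzz, hcz ha2C1.1, mul_inv_cancel_right]
      have hx : ∀ x, w ^ 2 * (w * x * w⁻¹) * (w ^ 2)⁻¹ = x := fun x => by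
        calc w ^ 2 * (w * x * w⁻¹) * (w ^ 2)⁻¹ = w ^ 3 * x * (w ^ 3)⁻¹ := by rw [pow_succ w 2, pow_two]; group
          _ = x := by rw [hw3]; group
      have hgC : w ^ 2 * a2 ∈ C := C.mul_mem (C.pow_mem hwC 2) ha2C1.1
      have h1 : w ^ 2 * a2 * a * (w ^ 2 * a2)⁻¹ = a ∨ w ^ 2 * a2 * a * (w ^ 2 * a2)⁻¹ = a * z := by
        rw [show w ^ 2 * a2 * a * (w ^ 2 * a2)⁻¹ = w ^ 2 * (a2 * a * a2⁻¹) * (w ^ 2)⁻¹ by group]
        rcases h with h | h <;> rw [h]
        · exact Or.inl (by rw [← hwa, hx])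
        · exact Or.inr (by rw [← hwa, ← hwzconj, hx])
      have h2 := hpair hgC h1
      rw [show w ^ 2 * a2 * b * (w ^ 2 * a2)⁻¹ = w ^ 2 * (a2 * b * a2⁻¹) * (w ^ 2)⁻¹ by group] at h2
      have h3 : w ^ 2 * a * (w ^ 2)⁻¹ = a * b := by rw [← hwb, ← hwa, pow_two]; group
      rcases hback with hb' | hb' <;> rw [hb'] at h2
      · rw [h3] at h2
        rcases h2 with e | e
        exacts [hbab.1 e.symm, hbab.2.1 e.symm]
      · have h4 : w ^ 2 * (a * z) * (w ^ 2)⁻¹ = a * b * z := by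
          rw [show w ^ 2 * (a * z) * (w ^ 2)⁻¹ = w * (w * (a * z) * w⁻¹) * w⁻¹ by rw [pow_two]; group, hwzconj, hwzconj,
            hwa, hwb]
        rw [h4] at h2
        rcases h2 with e | e
        exacts [hbab.2.2.1 e.symm, hbab.2.2.2 e.symm]
    · -- image of the first pair is the third
      have hgC : w * a2 ∈ C := C.mul_mem hwC ha2C1.1
      have h1 : w * a2 * a * (w * a2)⁻¹ = a ∨ w * a2 * a * (w * a2)⁻¹ = a * z := by
        rw [show w * a2 * a * (w * a2)⁻¹ = w * (a2 * a * a2⁻¹) * w⁻¹ by group]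
        rcases h with h | h <;> rw [h]
        · exact Or.inl hwab
        · exact Or.inr (by rw [hwzconj, hwab])
      have h2 := hpair hgC h1
      rw [show w * a2 * b * (w * a2)⁻¹ = w * (a2 * b * a2⁻¹) * w⁻¹ by group] at h2
      have h3 : a2 * b * a2⁻¹ = a ∨ a2 * b * a2⁻¹ = a * z := by
        rcases h2 with e | e
        · refine Or.inl (mul_left_cancel (mul_right_cancel (e.trans hwa.symm) : w * _ = w * a))
        · refine Or.inr (mul_left_cancel (mul_right_cancel (e.trans ?_) : w * _ = w * (a * z)))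
          rw [hwzconj, hwa]
      have hcj : a2 * (a2 * b * a2⁻¹) * a2⁻¹ = b := by
        rw [show a2 * (a2 * b * a2⁻¹) * a2⁻¹ = (a2 * a2) * b * (a2 * a2)⁻¹ by group, ha2sq, one_mul, inv_one, mul_one]
      have hzc : a2 * z * a2⁻¹ = z := by rw [hcz ha2C1.1, mul_inv_cancel_right]
      rcases h3 with e | e <;> rw [e] at hcj <;> rcases h with h | h
      · rw [h] at hcj; exact hbab.1 hcj.symm
      · rw [h] at hcj; exact hbab.2.2.1 hcj.symm
      · rw [show a2 * (a * z) * a2⁻¹ = a2 * a * a2⁻¹ * (a2 * z * a2⁻¹) by group, h, hzc] at hcj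
        exact hbab.2.2.1 hcj.symm
      · rw [show a2 * (a * z) * a2⁻¹ = a2 * a * a2⁻¹ * (a2 * z * a2⁻¹) by group, h, hzc, mul_assoc, hzz, mul_one] at hcj
        exact hbab.1 hcj.symm
  have hfixb := hpair ha2C1.1 hfixa
  obtain ⟨p, hp⟩ : ∃ p : Fin 2, a2 * a * a2 = a * z ^ p.val := by
    rw [ha2inv] at hfixa
    rcases hfixa with h | h
    exacts [⟨0, by simp [h]⟩, ⟨1, by simp [h]⟩]
  obtain ⟨r, hr⟩ : ∃ r : Fin 2, a2 * b * a2 = b * z ^ r.val := by
    rw [ha2inv] at hfixb
    rcases hfixb with h | h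
    exacts [⟨0, by simp [h]⟩, ⟨1, by simp [h]⟩]
  have hpr : p ≠ 0 ∨ r ≠ 0 := by
    by_contra! h
    obtain ⟨rfl, rfl⟩ := h
    simp only [Fin.val_zero, pow_zero, mul_one] at hp hr
    refine ha2A (hcentA ha2C1.1 (mul_inv_eq_iff_eq_mul.1 ?_) (mul_inv_eq_iff_eq_mul.1 ?_))
    · rw [ha2inv]; exact hp
    · rw [ha2inv]; exact hr
  have hindep : ∀ i j e : ℕ, i < 2 → j < 2 → e < 2 → a ^ i * b ^ j * z ^ e = 1 → i = 0 ∧ j = 0 ∧ e = 0 := by
    intro i j e hi hj he' h
    have haU : IsConj D.u a := hxae ▸ hUsix hxa6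
    have hbU : IsConj D.u b := hxbe ▸ hUsix hxb6
    have habU : ∀ {g : G}, g = a * b ∨ g = a * b * z → g ≠ 1 := by
      intro g hg e1
      subst e1
      rcases hg with hg | hg
      · exact habne (Or.inl rfl) (Or.inl ((mul_eq_one_iff_eq_inv.1 hg.symm).trans (inv_eq_of_mul_eq_one_right hbb)))
      · rw [eq_comm, mul_assoc, mul_eq_one_iff_eq_inv, mul_inv_rev, inv_eq_of_mul_eq_one_right hzz,
          inv_eq_of_mul_eq_one_right hbb, ← hbz] at hg
        exact habne (Or.inl rfl) (Or.inr hg)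
    interval_cases i <;> interval_cases j <;> interval_cases e <;>
      simp only [pow_zero, pow_one, one_mul, mul_one] at h <;>
      first
        | exact ⟨rfl, rfl, rfl⟩
        | exact absurd h hz1
        | (rw [h] at haU; exact absurd haU hnU1)
        | (rw [h] at hbU; exact absurd hbU hnU1)
        | exact absurd h (habU (Or.inl rfl))
        | exact absurd h (habU (Or.inr rfl))
        | (rw [mul_eq_one_iff_eq_inv, inv_eq_of_mul_eq_one_right hzz] at h
           first
             | (rw [h] at haU; exact absurd haU hnUz)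
             | (rw [h] at hbU; exact absurd hbU hnUz))
  exact ⟨{
    a := a, b := b, w := w, y := y, a2 := a2
    inv := decide (y * w * y⁻¹ = w⁻¹)
    eps := e, p := p, r := r
    zz := hzz, aa := haa, bb := hbb, a22 := ha2sq
    za := haz.symm, zb := hbz.symm, zw := (hcz hwC).symm, zy := hyz.symm
    ab := hab, w3 := hw3, wa := hwa, wb := hwb, ya := ha2d.symm
    yw := by
      by_cases h : y * w * y⁻¹ = w⁻¹
      · simp [h]
      · rw [decide_eq_false h]
        simpa using (hNpm hyN).resolve_right h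
    yy := he, pa := hp, pb := hr, pr := hpr
    C1 := C1, c1a := haC1, c1b := hbC1, c1a2 := ha2C1, c1w := hw1
    c1z := ⟨mem_centralizer_singleton_iff.2 rfl, Subgroup.le_normalizer hzA⟩
    c1y := hy1, indep := hindep, card := hC }⟩

end UData

end Cfsg.Lib.M12Nse
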