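import Cfsg.Agent.M12Nse.FiveFpf
import Cfsg.Agent.Components.Recognition.OrderThreeSixty
import Cfsg.Agent.S0496

/-!
A simple subgroup of index two.
-/

set_option autoImplicit false
set_option linter.unusedSectionVars false
set_option linter.style.haveILetI false
set_option maxRecDepth 100000

namespace Cfsg.Lib.M12Nse

open Subgroup Cfsg.Lib.SameOrder Cfsg.Lib.Small Cfsg.Lib.MathieuEleven

universe u

variable {X : Type u} [Group X] [Finite X] {m n : ℕ}

local instance fact_five_two : Fact (Nat.Prime 5) := ⟨by norm_num⟩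

theorem Fpf.sub (h : Fpf X m n) (N : Subgroup X) [N.Normal] {m' : ℕ} (hN : Nat.card ↥N = 5 * m') (hm' : ¬ 5 ∣ m') :
    Fpf ↥N m' n := by
  have h5 : 5 ∣ Nat.card ↥N := hN ▸ dvd_mul_right 5 m'
  have hS : ∀ Q : Sylow 5 ↥N, Nat.card ↥(Q : Subgroup ↥N) = 5 := fun Q => by
    simpa using card_sylow_of_factor Q (a := 1) (m := m') (by rw [hN, pow_one]) hm'
  refine ⟨hN, hm', ?_, fun q hq => ?_⟩
  · have h1 := cnt_prime hS
    have h2 := cnt_prime h.sylow
    rw [h.five] at h2
    have e : cnt ↥N 5 = cnt X 5 := Nat.card_congr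
      { toFun := fun g => ⟨g.1.1, by rw [Subgroup.orderOf_coe]; exact g.2⟩
        invFun := fun g => ⟨⟨g.1, h.order_five_mem N h5 g.2⟩, by rw [← Subgroup.orderOf_coe]; exact g.2⟩
        left_inv := fun g => rfl
        right_inv := fun g => rfl }
    omega
  · have hq' : orderOf (q : X) = 5 := by rw [Subgroup.orderOf_coe]; exact hq
    refine le_antisymm ?_ (Nat.le_of_dvd Nat.card_pos (hq ▸ dvd_centralizer_orderOf rfl))
    rw [← h.cent _ hq']
    refine Nat.card_le_card_of_injective (fun a => ⟨(a.1 : X), mem_centralizer_singleton_iff.2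
      (congrArg Subtype.val (mem_centralizer_singleton_iff.1 a.2) : (a.1 : X) * (q : X) = (q : X) * a.1)⟩) ?_
    intro a b e
    have e' := congrArg Subtype.val e
    exact Subtype.ext (Subtype.ext e')

/-- The self-centralising element of order five forces a simple subgroup of index two. -/
theorem exists_simple_index_two (h : Fpf X m n) (hmn : m = 144 ∧ n = 36 ∨ m = 24 ∧ n = 6) :
    ∃ N : Subgroup X, N.Normal ∧ N.index = 2 ∧ IsSimpleGroup ↥N := by
  have hm : m ∣ 144 := by rcases hmn with ⟨rfl, -⟩ | ⟨rfl, -⟩ <;> norm_num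
  have hn1 : n ≠ 1 ∧ n ≠ 16 := by rcases hmn with ⟨-, rfl⟩ | ⟨-, rfl⟩ <;> norm_num
  have hsize : 5 * m = 20 * n := by rcases hmn with ⟨rfl, rfl⟩ | ⟨rfl, rfl⟩ <;> norm_num
  have hbig : ∀ (K : Subgroup X) [K.Normal], 5 ∣ Nat.card ↥K → K = ⊤ ∨ K.index = 2 := fun K _ h5 => by
    have hc := K.card_mul_index
    rw [h.card] at hc
    rcases h.normal_big hm hn1.1 hn1.2 K h5 with e | e <;> rw [e] at hc
    · right
      have : 10 * n * K.index = 10 * n * 2 := by rw [hc, hsize]; ring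
      exact mul_left_cancel₀ (by rcases hmn with ⟨-, rfl⟩ | ⟨-, rfl⟩ <;> norm_num) this
    · left
      refine Subgroup.index_eq_one.1 (mul_left_cancel₀ (a := 20 * n) (by
        rcases hmn with ⟨-, rfl⟩ | ⟨-, rfl⟩ <;> norm_num) (by rw [hc, hsize, mul_one]))
  have hcop : ∀ (K : Subgroup X) [K.Normal], ¬ 5 ∣ Nat.card ↥K → K = ⊥ := fun K _ h5 => by
    refine Subgroup.card_eq_one.1 ((h.coprime_normal hm K h5).resolve_right fun e => ?_)
    have hc := K.card_mul_index
    rw [e, h.card] at hc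
    rcases hmn with ⟨rfl, rfl⟩ | ⟨rfl, rfl⟩
    · have hi : Nat.card (X ⧸ K) = 5 ^ 1 * 9 := by
        rw [← Subgroup.index_eq_card]; omega
      obtain ⟨S⟩ : Nonempty (Sylow 5 (X ⧸ K)) := Sylow.nonempty
      obtain ⟨hd, hmod⟩ := sylow_facts S hi (by norm_num)
      have hlist : ∀ j ∈ Nat.divisors 9, j % 5 = 1 → j = 1 := by decide +kernel
      have hone := hlist _ (Nat.mem_divisors.2 ⟨hd, by norm_num⟩) hmod
      haveI : Subsingleton (Sylow 5 (X ⧸ K)) := (Nat.card_eq_one_iff_unique.1 hone).1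
      haveI := S.normal_of_subsingleton
      set L := (S : Subgroup (X ⧸ K)).comap (QuotientGroup.mk' K) with hL
      have hSc := card_sylow_of_factor S hi (by norm_num)
      have hSi := (S : Subgroup (X ⧸ K)).card_mul_index
      rw [hSc, hi] at hSi
      have hLi : L.index = 9 := by
        rw [hL, Subgroup.index_comap_of_surjective _ (QuotientGroup.mk'_surjective K)]; omega
      have hLc := L.card_mul_index
      rw [hLi, h.card] at hLc
      have := hbig L ⟨16, by omega⟩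
      rcases this with e | e
      · rw [e, Subgroup.index_top] at hLi; omega
      · omega
    · omega
  have hnc : ¬ (Nat.card X).Prime := by
    rw [h.card]
    exact Nat.not_prime_mul (by norm_num) (by rcases hmn with ⟨rfl, -⟩ | ⟨rfl, -⟩ <;> norm_num)
  haveI : Nontrivial X := Finite.one_lt_card_iff_nontrivial.1 (by rw [h.card, hsize]; omega)
  obtain ⟨N, hN, hN1, hN2⟩ : ∃ N : Subgroup X, N.Normal ∧ N ≠ ⊥ ∧ N ≠ ⊤ := by
    by_contra! hno
    haveI : IsSimpleGroup X := ⟨fun K hK => or_iff_not_imp_left.2 (hno K hK)⟩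
    have hs := Cfsg.Agent.S0496.result (G := X) (fun hc => not_comm_of_isSimple hnc hc.is_comm.comm)
      (by rcases hmn with ⟨rfl, -⟩ | ⟨rfl, -⟩ <;> rw [h.card] <;> norm_num)
    rcases hmn with ⟨rfl, -⟩ | ⟨rfl, -⟩ <;> rw [h.card] at hs <;> omega
  haveI := hN
  have h5 : 5 ∣ Nat.card ↥N := by_contra fun h5 => hN1 (hcop N h5)
  have hidx := (hbig N h5).resolve_left hN2
  refine ⟨N, hN, hidx, ?_⟩
  obtain ⟨m', rfl⟩ : 2 ∣ m := by rcases hmn with ⟨rfl, -⟩ | ⟨rfl, -⟩ <;> norm_num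
  have hc := N.card_mul_index
  rw [hidx, h.card] at hc
  have hNc : Nat.card ↥N = 5 * m' := by omega
  have h' : Fpf ↥N m' n := h.sub N hNc fun hd => h.cop (hd.mul_left 2)
  haveI : Nontrivial ↥N := Finite.one_lt_card_iff_nontrivial.1 (by rw [hNc]; omega)
  refine ⟨fun L hL => ?_⟩
  by_cases hL5 : 5 ∣ Nat.card ↥L
  · right
    refine Subgroup.eq_top_of_card_eq L ?_
    have hd := Subgroup.card_subgroup_dvd_card L
    rcases h'.normal_big ((dvd_mul_left m' 2).trans hm) hn1.1 hn1.2 L hL5 with e | e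
    · rw [e, hNc]; omega
    · exfalso
      have := Nat.le_of_dvd Nat.card_pos hd
      rw [e, hNc] at this
      omega
  · left
    refine Subgroup.card_eq_one.1 ((h'.coprime_normal ((dvd_mul_left m' 2).trans hm) L hL5).resolve_right fun e => ?_)
    have hd := Subgroup.card_subgroup_dvd_card L
    rw [e, hNc] at hd
    rcases hmn with ⟨h1, -⟩ | ⟨h1, -⟩ <;> omega

/-- even permutations of six letters have no order six -/
theorem perm_six_orders : ∀ σ : Equiv.Perm (Fin 6), Equiv.Perm.sign σ = 1 → σ ^ 6 = 1 → σ ^ 2 = 1 ∨ σ ^ 3 = 1 := by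
  decide +kernel

/-- even involutions of six letters invert elements of order five -/
theorem perm_six_invert : ∀ σ : Equiv.Perm (Fin 6), Equiv.Perm.sign σ = 1 → σ ^ 2 = 1 → σ ≠ 1 →
    ∃ y : Equiv.Perm (Fin 6), Equiv.Perm.sign y = 1 ∧ (σ * (y * σ * y⁻¹)) ^ 5 = 1 ∧ σ * (y * σ * y⁻¹) ≠ 1 := by
  decide +kernel

theorem perm_six_four : ∃ σ : Equiv.Perm (Fin 6), Equiv.Perm.sign σ = 1 ∧ σ ^ 4 = 1 ∧ σ ^ 2 ≠ 1 := by decide +kernel

variable {N : Type u} [Group N] [Finite N] [IsSimpleGroup N] (hN : Nat.card N = 360)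

include hN

theorem three_sixty_no_six (g : N) : orderOf g ≠ 6 := by
  obtain ⟨e⟩ := Cfsg.Lib.Components.OrderThreeSixty.iso_alternating hN
  intro hg
  have h6 : orderOf ((e g : alternatingGroup (Fin 6)) : Equiv.Perm (Fin 6)) = 6 := by
    rw [Subgroup.orderOf_coe, MulEquiv.orderOf_eq, hg]
  rcases perm_six_orders _ (Equiv.Perm.mem_alternatingGroup.1 (e g).2) (orderOf_dvd_iff_pow_eq_one.1 h6.dvd) with h | h <;>
    have := orderOf_dvd_of_pow_eq_one h <;> rw [h6] at this <;> norm_num at this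

theorem three_sixty_invert {x : N} (hx : x ^ 2 = 1) (hx1 : x ≠ 1) :
    ∃ y : N, orderOf (x * (y * x * y⁻¹)) = 5 := by
  obtain ⟨e⟩ := Cfsg.Lib.Components.OrderThreeSixty.iso_alternating hN
  obtain ⟨y, hys, hy5, hy1⟩ := perm_six_invert _ (Equiv.Perm.mem_alternatingGroup.1 (e x).2)
    (by rw [← Subgroup.coe_pow, ← map_pow, hx, map_one]; rfl)
    (fun h => hx1 (e.injective (Subtype.ext (by rw [map_one]; exact h))))
  refine ⟨e.symm ⟨y, Equiv.Perm.mem_alternatingGroup.2 hys⟩, ?_⟩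
  rw [← MulEquiv.orderOf_eq e, map_mul, map_mul, map_mul, map_inv, MulEquiv.apply_symm_apply, ← Subgroup.orderOf_coe]
  have : Fact (Nat.Prime 5) := ⟨by norm_num⟩
  exact orderOf_eq_prime hy5 hy1

theorem three_sixty_eight (E : Subgroup N) (hE : Nat.card ↥E = 8) : ∃ a ∈ E, a ^ 2 ≠ 1 := by
  obtain ⟨e⟩ := Cfsg.Lib.Components.OrderThreeSixty.iso_alternating hN
  have : Fact (Nat.Prime 2) := ⟨Nat.prime_two⟩
  obtain ⟨σ, hs, h4, h2⟩ := perm_six_four
  set g := e.symm ⟨σ, Equiv.Perm.mem_alternatingGroup.2 hs⟩ with hg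
  have hg4 : g ^ 4 = 1 := by
    apply e.injective
    rw [map_pow, map_one, hg, MulEquiv.apply_symm_apply]
    exact Subtype.ext h4
  have hg2 : g ^ 2 ≠ 1 := fun h => h2 (by
    have := congrArg e h
    rw [map_pow, map_one, hg, MulEquiv.apply_symm_apply] at this
    exact congrArg Subtype.val this)
  have hord : orderOf g ∣ 2 ^ 2 := orderOf_dvd_of_pow_eq_one (by norm_num [hg4])
  obtain ⟨k, -, hk⟩ := (Nat.dvd_prime_pow Nat.prime_two).1 hord
  obtain ⟨P, hP⟩ := IsPGroup.exists_le_sylow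
    (IsPGroup.of_card (p := 2) (n := k) (by rw [Nat.card_zpowers, hk]) : IsPGroup 2 ↥(zpowers g))
  obtain ⟨S, hS⟩ : ∃ S : Sylow 2 N, (S : Subgroup N) = E :=
    ⟨Sylow.ofCard E (by rw [hE, hN, show (360 : ℕ) = 2 ^ 3 * 45 by norm_num,
      Nat.factorization_mul (by norm_num) (by norm_num), Finsupp.add_apply, Nat.Prime.factorization_pow Nat.prime_two,
      Finsupp.single_eq_same, Nat.factorization_eq_zero_of_not_dvd (by norm_num)]; norm_num), Sylow.coe_ofCard _ _⟩
  obtain ⟨c, hc⟩ := MulAction.exists_smul_eq N P S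
  refine ⟨c * g * c⁻¹, ?_, fun h => hg2 ?_⟩
  · rw [← hS, ← hc]
    exact Subgroup.smul_mem_pointwise_smul g (MulAut.conj c) _ (hP (mem_zpowers g))
  · rw [conj_pow, conj_eq_one_iff] at h
    exact h

end Cfsg.Lib.M12Nse
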