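import Cfsg.Agent.M12Nse.Spectrum

/-!
The involutions commuting with elements of order five: three possible centraliser orders.
-/

set_option autoImplicit false
set_option linter.unusedSectionVars false
set_option linter.style.haveILetI false
set_option maxRecDepth 100000

namespace Cfsg.Lib.M12Nse

open Subgroup Cfsg.Lib.SameOrder Cfsg.Lib.Small Cfsg.Lib.MathieuEleven

universe u

variable {G : Type u} [Group G] [Finite G]

local instance fact_five_inv : Fact (Nat.Prime 5) := ⟨by norm_num⟩

/-- an involution commuting with an element of order five -/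
structure IsFive (u q : G) : Prop where
  two : orderOf u = 2
  five : orderOf q = 5
  comm : u * q = q * u

theorem two_iff {v : G} : orderOf v = 2 ↔ v * v = 1 ∧ v ≠ 1 := by
  constructor
  · intro h
    refine ⟨?_, fun e => by rw [e, orderOf_one] at h; omega⟩
    rw [← pow_two, ← h, pow_orderOf_eq_one]
  · rintro ⟨h1, h2⟩
    have : Fact (Nat.Prime 2) := ⟨Nat.prime_two⟩
    exact orderOf_eq_prime (by rw [pow_two]; exact h1) h2

theorem conj_two {v x : G} (h : IsConj v x) (hv : orderOf v = 2) : orderOf x = 2 := by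
  rw [conj_orderOf h, hv]

variable (H : Hyp G)

include H

theorem order_mem (g : G) : orderOf g ∈ ([1, 2, 3, 4, 5, 6, 8, 10, 11] : List ℕ) := (spectrum H).2.2.2 g

theorem no_twelve {x y : G} (h : Commute x y) (hx : orderOf x = 3) (hy : 4 ∣ orderOf y) : False := by
  have hy' : orderOf (y ^ (orderOf y / 4)) = 4 := orderOf_pow_orderOf_div (orderOf_pos y).ne' hy
  have := orderOf_ne_twelve H (x * y ^ (orderOf y / 4))
  rw [(h.pow_right _).orderOf_mul_eq_mul_orderOf_of_coprime (by rw [hx, hy']; norm_num), hx, hy'] at this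
  exact this rfl

omit H

/-- The local facts used below. -/
structure Local (G : Type u) [Group G] : Prop where
  card : Nat.card G = 95040
  normalizer_five : ∀ P : Sylow 5 G, Nat.card ↥(normalizer ((P : Subgroup G) : Set G)) = 40
  cent_five : ∀ {q : G}, orderOf q = 5 → Nat.card ↥(centralizer ({q} : Set G)) = 10 ∧
      ∃ u, orderOf u = 2 ∧ u * q = q * u ∧ ∀ v, orderOf v = 2 → v * q = q * v → v = u
  cent_eleven : ∀ {x : G}, orderOf x = 11 → Nat.card ↥(centralizer ({x} : Set G)) = 11
  cnt_two : cnt G 2 = 891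

theorem Hyp.toLocal (H : Hyp G) : Local G :=
  ⟨H.card, Cfsg.Lib.M12Nse.card_normalizer_five H, fun hq => Cfsg.Lib.M12Nse.cent_five H hq,
    fun hx => Cfsg.Lib.M12Nse.cent_eleven H hx, Cfsg.Lib.M12Nse.cnt_two H⟩

theorem Local.sylow_five (L : Local G) (P : Sylow 5 G) : Nat.card ↥(P : Subgroup G) = 5 := by
  simpa using card_sylow_of_factor P (a := 1) (m := 19008) (by rw [L.card]; norm_num) (by norm_num)

theorem Local.orderOf_five (L : Local G) {g : G} (h : 5 ∣ orderOf g) : orderOf g = 5 ∨ orderOf g = 10 := by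
  set x := g ^ (orderOf g / 5) with hxd
  have hx : orderOf x = 5 := orderOf_pow_orderOf_div (orderOf_pos g).ne' h
  have hc : g * x = x * g := (Commute.self_pow g _).eq
  have hd : orderOf g ∣ 10 := (L.cent_five hx).1 ▸ dvd_centralizer_orderOf hc
  have : ∀ j ∈ Nat.divisors 10, 5 ∣ j → j = 5 ∨ j = 10 := by decide +kernel
  exact this _ (Nat.mem_divisors.2 ⟨hd, by norm_num⟩) h

variable (L : Local G)

include L

theorem IsFive.unique {u q v : G} (h : IsFive u q) (hv : orderOf v = 2) (hc : v * q = q * v) : v = u := by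
  obtain ⟨-, w, -, -, huniq⟩ := L.cent_five h.five
  rw [huniq v hv hc, huniq u h.two h.comm]

theorem exists_isFive : ∃ u q : G, IsFive u q := by
  obtain ⟨q, hq⟩ := exists_prime_orderOf_dvd_card' (G := G) 5 (by rw [L.card]; norm_num)
  obtain ⟨-, u, hu, hc, -⟩ := L.cent_five hq
  exact ⟨u, q, hu, hq, hc⟩

/-- All these involutions are conjugate. -/
theorem IsFive.conj {u q v p : G} (h : IsFive u q) (h' : IsFive v p) : IsConj u v := by
  obtain ⟨P, hP⟩ := exists_sylow_zpowers (L.sylow_five) h.five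
  obtain ⟨Q, hQ⟩ := exists_sylow_zpowers (L.sylow_five) h'.five
  obtain ⟨c, hc⟩ := MulAction.exists_smul_eq G P Q
  have hmem : c * q * c⁻¹ ∈ (Q : Subgroup G) := by
    rw [← hc]
    exact Subgroup.smul_mem_pointwise_smul q (MulAut.conj c) _ (hP.symm ▸ mem_zpowers q)
  rw [hQ] at hmem
  have ho : orderOf (c * q * c⁻¹) = 5 := (MulEquiv.orderOf_eq (MulAut.conj c) q).trans h.five
  have hz : zpowers p = zpowers (c * q * c⁻¹) :=
    zpowers_eq_of_order (by rw [Nat.card_zpowers, h'.five]) ho hmem
  have hcomm : c * u * c⁻¹ * (c * q * c⁻¹) = c * q * c⁻¹ * (c * u * c⁻¹) := by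
    calc c * u * c⁻¹ * (c * q * c⁻¹) = c * (u * q) * c⁻¹ := by group
      _ = c * (q * u) * c⁻¹ := by rw [h.comm]
      _ = _ := by group
  have hp : c * u * c⁻¹ * p = p * (c * u * c⁻¹) :=
    (mem_centralizer_iff.1 (mem_cent_zpowers hcomm) p (show p ∈ zpowers (c * q * c⁻¹) from hz ▸ mem_zpowers p)).symm
  exact isConj_iff.2 ⟨c, h'.unique L ((MulEquiv.orderOf_eq (MulAut.conj c) u).trans h.two) hp⟩

/-- A conjugate of such an involution is one. -/
theorem IsFive.map {u q : G} (h : IsFive u q) (c : G) : IsFive (c * u * c⁻¹) (c * q * c⁻¹) where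
  two := (MulEquiv.orderOf_eq (MulAut.conj c) u).trans h.two
  five := (MulEquiv.orderOf_eq (MulAut.conj c) q).trans h.five
  comm := by
    calc c * u * c⁻¹ * (c * q * c⁻¹) = c * (u * q) * c⁻¹ := by group
      _ = c * (q * u) * c⁻¹ := by rw [h.comm]
      _ = _ := by group

theorem IsFive.normalizer_le {u q : G} (h : IsFive u q) :
    normalizer (zpowers q : Set G) ≤ centralizer ({u} : Set G) := by
  intro c hc
  have hmem := (Subgroup.mem_normalizer_iff.1 hc q).1 (mem_zpowers q)
  have hz : zpowers q = zpowers (c * q * c⁻¹) :=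
    zpowers_eq_of_order (by rw [Nat.card_zpowers, h.five]) ((h.map L c).five) hmem
  have hcomm := mem_cent_zpowers (h.map L c).comm
  have hq : c * u * c⁻¹ * q = q * (c * u * c⁻¹) :=
    (mem_centralizer_iff.1 hcomm q (show q ∈ zpowers (c * q * c⁻¹) from hz ▸ mem_zpowers q)).symm
  exact mem_centralizer_singleton_iff.2 (mul_inv_eq_iff_eq_mul.1 (h.unique L (h.map L c).two hq))

theorem class_le {v : G} (hv : orderOf v = 2) : Nat.card {x : G // IsConj v x} ≤ 891 := by
  rw [← L.cnt_two, cnt]
  exact Nat.card_le_card_of_injective (fun x => ⟨x.1, conj_two x.2 hv⟩)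
    fun a b e => Subtype.ext (congrArg Subtype.val e :)

theorem IsFive.sylow_count {u q : G} (h : IsFive u q) :
    Nat.card (Sylow 5 ↥(centralizer ({u} : Set G))) * 40 = Nat.card ↥(centralizer ({u} : Set G)) ∧
      Nat.card (Sylow 5 ↥(centralizer ({u} : Set G))) % 5 = 1 := by
  obtain ⟨P, hP⟩ := exists_sylow_zpowers (L.sylow_five) h.five
  set C := centralizer ({u} : Set G)
  have hle : zpowers q ≤ C := zpowers_le.2 (mem_centralizer_singleton_iff.2 h.comm.symm)
  have hv : ¬ 5 ^ (1 + 1) ∣ Nat.card ↥C := fun hd => by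
    have := hd.trans (Subgroup.card_subgroup_dvd_card C)
    rw [L.card] at this
    norm_num at this
  have := Cfsg.Lib.MathieuEleven.sylow_count C hle (n := 1) (by rw [Nat.card_zpowers, h.five, pow_one]) hv
  rw [inf_eq_right.2 (h.normalizer_le L)] at this
  rwa [show Nat.card ↥(normalizer (zpowers q : Set G)) = 40 from hP ▸ L.normalizer_five P] at this

theorem IsFive.card_cases {u q : G} (h : IsFive u q) :
    Nat.card ↥(centralizer ({u} : Set G)) = 240 ∨ Nat.card ↥(centralizer ({u} : Set G)) = 1440 ∨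
      Nat.card ↥(centralizer ({u} : Set G)) = 8640 := by
  obtain ⟨h1, h2⟩ := h.sylow_count L
  set j := Nat.card (Sylow 5 ↥(centralizer ({u} : Set G)))
  have hcls := class_le L h.two
  have hmul := card_isConj_mul u
  rw [← h1, L.card] at hmul
  have hj : j ∣ 2376 := ⟨Nat.card {x : G // IsConj u x}, mul_left_cancel₀ (show (40 : ℕ) ≠ 0 by norm_num) (by
    linarith [hmul])⟩
  have h11 : ¬ 11 ∣ j := fun hd => by
    haveI : Fact (Nat.Prime 11) := ⟨by norm_num⟩
    obtain ⟨⟨x, hx⟩, hxo⟩ := exists_prime_orderOf_dvd_card' (G := ↥(centralizer ({u} : Set G))) 11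
      (h1 ▸ hd.mul_right 40)
    rw [← Subgroup.orderOf_coe] at hxo
    change orderOf x = 11 at hxo
    have hd := L.cent_eleven hxo ▸ dvd_centralizer_orderOf (mem_centralizer_singleton_iff.1 hx).symm
    rw [h.two] at hd
    norm_num at hd
  have hlist : ∀ i ∈ Nat.divisors 2376, i % 5 = 1 → ¬ 11 ∣ i → i = 1 ∨ i = 6 ∨ i = 36 ∨ i = 216 := by decide +kernel
  rcases hlist j (Nat.mem_divisors.2 ⟨hj, by norm_num⟩) h2 h11 with e | e | e | e
  · rw [e] at hmul; omega
  · left; rw [← h1, e]
  · right; left; rw [← h1, e]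
  · right; right; rw [← h1, e]

end Cfsg.Lib.M12Nse
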