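import Cfsg.Agent.M12Nse.Products
import Cfsg.Agent.M12Nse.IndexTwo

/-!
The centraliser of an involution commuting with an element of order five does not have order 1440.
-/

set_option autoImplicit false
set_option linter.unusedSectionVars false
set_option linter.style.haveILetI false
set_option maxRecDepth 100000

namespace Cfsg.Lib.M12Nse

open Subgroup Cfsg.Lib.SameOrder Cfsg.Lib.Small Cfsg.Lib.MathieuEleven

universe u

variable {G : Type u} [Group G] [Finite G]

local instance fact_five_kill : Fact (Nat.Prime 5) := ⟨by norm_num⟩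
local instance fact_two_kill : Fact (Nat.Prime 2) := ⟨Nat.prime_two⟩

/-- Pairwise commuting elements with square one generate an elementary abelian group. -/
theorem sq_of_closure {s : Set G} (hcomm : ∀ x ∈ s, ∀ y ∈ s, x * y = y * x) (hsq : ∀ x ∈ s, x * x = 1) {a : G}
    (ha : a ∈ closure s) : a * a = 1 := by
  have hc : ∀ {b : G}, b ∈ closure s → ∀ x ∈ s, b * x = x * b := by
    intro b hb x hx
    have : closure s ≤ centralizer ({x} : Set G) := (closure_le _).2 fun y hy =>
      mem_centralizer_singleton_iff.2 (hcomm y hy x hx)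
    exact mem_centralizer_singleton_iff.1 (this hb)
  induction ha using Subgroup.closure_induction with
  | mem x hx => exact hsq x hx
  | one => rw [one_mul]
  | mul x y hx hy ihx ihy =>
    have hxy : y * x = x * y := by
      have : closure s ≤ centralizer ({x} : Set G) := (closure_le _).2 fun z hz =>
        mem_centralizer_singleton_iff.2 (hc hx z hz).symm
      exact mem_centralizer_singleton_iff.1 (this hy)
    calc x * y * (x * y) = x * (y * x) * y := by group
      _ = x * x * (y * y) := by rw [hxy]; group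
      _ = 1 := by rw [ihx, ihy, one_mul]
  | inv x hx ih => rw [← mul_inv_rev, ih, inv_one]

theorem isPGroup_of_sq {L : Subgroup G} (h : ∀ a ∈ L, a * a = 1) : IsPGroup 2 ↥L := fun a =>
  ⟨1, Subtype.ext (by rw [pow_one, pow_two]; exact h a a.2)⟩

/-- A set invariant under a subgroup with all orbits of length divisible by `m`. -/
theorem dvd_ncard_orbits (K : Subgroup G) (m : ℕ) : ∀ (n : ℕ) (s : Set G), s.ncard = n →
    (∀ k ∈ K, ∀ x ∈ s, k * x * k⁻¹ ∈ s) →
    (∀ x ∈ s, m ∣ (Set.range fun k : K => (k : G) * x * (k : G)⁻¹).ncard) → m ∣ n := by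
  intro n
  induction n using Nat.strong_induction_on with
  | _ n ih =>
    intro s hs hinv hdvd
    rcases s.eq_empty_or_nonempty with h | ⟨x, hx⟩
    · rw [h, Set.ncard_empty] at hs
      exact hs ▸ dvd_zero m
    set o := Set.range fun k : K => (k : G) * x * (k : G)⁻¹
    have hos : o ⊆ s := by
      rintro _ ⟨k, rfl⟩
      exact hinv k k.2 x hx
    have hxo : x ∈ o := ⟨1, by simp⟩
    have hsum : (s \ o).ncard + o.ncard = n := by rw [Set.ncard_sdiff_add_ncard_of_subset hos (Set.toFinite _), hs]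
    have hpos : 0 < o.ncard := (Set.ncard_pos (Set.toFinite _)).2 ⟨x, hxo⟩
    refine hsum ▸ Nat.dvd_add (ih _ (by omega) _ rfl ?_ fun y hy => hdvd y hy.1) (hdvd x hx)
    intro k hk y hy
    refine ⟨hinv k hk y hy.1, ?_⟩
    rintro ⟨l, hl⟩
    refine hy.2 ⟨⟨k⁻¹ * l, K.mul_mem (K.inv_mem hk) l.2⟩, ?_⟩
    have hl' : (l : G) * x * (l : G)⁻¹ = k * y * k⁻¹ := hl
    show k⁻¹ * (l : G) * x * (k⁻¹ * (l : G))⁻¹ = y
    calc k⁻¹ * (l : G) * x * (k⁻¹ * (l : G))⁻¹ = k⁻¹ * ((l : G) * x * (l : G)⁻¹) * k := by group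
      _ = y := by rw [hl']; group

variable {u q : G}

theorem lift_five (H : Local G) (c : ↥(centralizer ({u} : Set G))) (Z : Subgroup ↥(centralizer ({u} : Set G))) [Z.Normal]
    (hc : orderOf (QuotientGroup.mk' Z c) = 5) :
    orderOf (c ^ 6) = 5 ∧ QuotientGroup.mk' Z (c ^ 6) = QuotientGroup.mk' Z c := by
  have h5 : 5 ∣ orderOf c := hc ▸ orderOf_map_dvd (QuotientGroup.mk' Z) c
  constructor
  · rw [← Subgroup.orderOf_coe] at h5
    rw [← Subgroup.orderOf_coe, Subgroup.coe_pow, (orderOf_pow (c : G) : orderOf ((c : G) ^ 6) = _)]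
    rcases H.orderOf_five h5 with e | e <;> rw [e] <;> norm_num
  · rw [map_pow, pow_succ, show QuotientGroup.mk' Z c ^ 5 = 1 from orderOf_dvd_iff_pow_eq_one.1 hc.dvd, one_mul]

theorem IsFive.quot_fpf (H : Local G) (h : IsFive u q) {m n : ℕ}
    (hmn : m = 4 * n) (hm5 : ¬ 5 ∣ m) (hC : Nat.card ↥(centralizer ({u} : Set G)) = 40 * n) (Z : Subgroup ↥(centralizer ({u} : Set G))) [Z.Normal] (hZ : Nat.card ↥Z = 2)
    (hu : (⟨u, mem_centralizer_singleton_iff.2 rfl⟩ : ↥(centralizer ({u} : Set G))) ∈ Z) :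
    Fpf (↥(centralizer ({u} : Set G)) ⧸ Z) m n := by
  set uC : ↥(centralizer ({u} : Set G)) := ⟨u, mem_centralizer_singleton_iff.2 rfl⟩
  set π := QuotientGroup.mk' Z with hπ
  have hcard : Nat.card (↥(centralizer ({u} : Set G)) ⧸ Z) = 5 * m := by
    have := Z.card_mul_index
    rw [hZ, hC, Subgroup.index_eq_card] at this
    omega
  have hker : ∀ z ∈ Z, z = 1 ∨ z = uC := by
    intro z hz
    by_contra! hz'
    have hsub : ({1, uC, z} : Set ↥(centralizer ({u} : Set G))) ⊆ Z := by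
      rintro x (rfl | rfl | rfl)
      exacts [Z.one_mem, hu, hz]
    have h3 : ({1, uC, z} : Set ↥(centralizer ({u} : Set G))).ncard = 3 := Set.ncard_eq_three.2 ⟨1, uC, z,
      fun e => (two_iff.1 h.two).2 (congrArg Subtype.val e).symm, hz'.1.symm, hz'.2.symm, rfl⟩
    have := Set.ncard_le_ncard hsub (Set.toFinite _)
    rw [h3, ← Nat.card_coe_set_eq, SetLike.coe_sort_coe, hZ] at this
    omega
  have huniq : ∀ a b : ↥(centralizer ({u} : Set G)), orderOf a = 5 → orderOf b = 5 → π a = π b → a = b := by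
    intro a b ha hb hab
    rcases hker (a⁻¹ * b) (QuotientGroup.eq.1 hab) with e | e
    · exact inv_mul_eq_one.1 e
    exfalso
    have hb' : b = a * uC := by rw [← e, mul_inv_cancel_left]
    have hau : Commute a uC := Subtype.ext (mem_centralizer_singleton_iff.1 a.2)
    have hu2 : orderOf uC = 2 := by rw [← Subgroup.orderOf_coe]; exact h.two
    rw [hb', hau.orderOf_mul_eq_mul_orderOf_of_coprime (by rw [ha, hu2]; norm_num), ha, hu2] at hb
    norm_num at hb
  have hpi5 : ∀ a : ↥(centralizer ({u} : Set G)), orderOf a = 5 → orderOf (π a) = 5 := fun a ha => by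
    refine ((Nat.dvd_prime (by norm_num)).1 (ha ▸ orderOf_map_dvd π a)).resolve_left fun e => ?_
    have hm : a ∈ Z := (QuotientGroup.eq_one_iff a).1 (orderOf_eq_one_iff.1 e)
    have := hZ ▸ Subgroup.orderOf_dvd_natCard Z hm
    rw [ha] at this
    norm_num at this
  have hsurj : ∀ x : ↥(centralizer ({u} : Set G)) ⧸ Z, ∃ c, π c = x := QuotientGroup.mk'_surjective Z
  have hS : ∀ P : Sylow 5 (↥(centralizer ({u} : Set G)) ⧸ Z), Nat.card ↥(P : Subgroup (↥(centralizer ({u} : Set G)) ⧸ Z)) = 5 := fun P => by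
    simpa using card_sylow_of_factor P (a := 1) (m := m) (by rw [hcard, pow_one]) hm5
  refine ⟨hcard, hm5, ?_, fun x hx => ?_⟩
  · have e : cnt ↥(centralizer ({u} : Set G)) 5 = cnt (↥(centralizer ({u} : Set G)) ⧸ Z) 5 := by
      refine Nat.card_congr (Equiv.ofBijective (fun a => ⟨π a.1, hpi5 a.1 a.2⟩)
        ⟨fun a b h => Subtype.ext (huniq a.1 b.1 a.2 b.2 (congrArg Subtype.val h)), fun x => ?_⟩)
      obtain ⟨c, hc⟩ := hsurj x.1
      obtain ⟨h1, h2⟩ := lift_five H c Z (by rw [hc]; exact x.2)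
      exact ⟨⟨c ^ 6, h1⟩, Subtype.ext (h2.trans hc)⟩
    have h1 := cnt_prime (p := 5) (fun P : Sylow 5 ↥(centralizer ({u} : Set G)) => (by
      simpa using card_sylow_of_factor P (a := 1) (m := 8 * n) (by rw [hC]; ring) (by omega) :
      Nat.card ↥(P : Subgroup ↥(centralizer ({u} : Set G))) = 5))
    have h2 := cnt_prime hS
    obtain ⟨h3, -⟩ := h.sylow_count H
    rw [hC] at h3
    omega
  · obtain ⟨c, hc⟩ := hsurj x
    obtain ⟨ha, hac⟩ := lift_five H c Z (by rw [hc]; exact hx)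
    set a := c ^ 6
    have hax : π a = x := hac.trans hc
    set K := centralizer ({a} : Set ↥(centralizer ({u} : Set G))) with hK
    have hle : centralizer ({x} : Set (↥(centralizer ({u} : Set G)) ⧸ Z)) ≤ K.map π := by
      intro y hy
      obtain ⟨b, rfl⟩ := hsurj y
      refine ⟨b, mem_centralizer_singleton_iff.2 (mul_inv_eq_iff_eq_mul.1 ?_), rfl⟩
      refine huniq _ _ ?_ ha ?_
      · exact (MulEquiv.orderOf_eq (MulAut.conj b) a).trans ha
      · rw [map_mul, map_mul, map_inv, mul_inv_eq_iff_eq_mul, hax]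
        exact mem_centralizer_singleton_iff.1 hy
    have hZK : Z ≤ K := fun z hz => by
      rcases hker z hz with rfl | rfl
      · exact K.one_mem
      · exact mem_centralizer_singleton_iff.2 (Subtype.ext (mem_centralizer_singleton_iff.1 a.2).symm)
    have hK10 : Nat.card ↥K ≤ 10 := by
      have ha' : orderOf (a : G) = 5 := by rw [Subgroup.orderOf_coe]; exact ha
      rw [← (H.cent_five ha').1]
      refine Nat.card_le_card_of_injective (fun b => ⟨((b : ↥(centralizer ({u} : Set G))) : G), mem_centralizer_singleton_iff.2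
        (congrArg Subtype.val (mem_centralizer_singleton_iff.1 b.2) :)⟩) ?_
      intro b b' h'
      have := congrArg Subtype.val h'
      exact Subtype.ext (Subtype.ext this)
    have hrel := card_inf_mul_relIndex π.ker K
    rw [Subgroup.relIndex_ker, hπ, QuotientGroup.ker_mk', inf_eq_right.2 hZK, hZ] at hrel
    refine le_antisymm ?_ (Nat.le_of_dvd Nat.card_pos (hx ▸ dvd_centralizer_orderOf rfl))
    have := Nat.le_of_dvd Nat.card_pos (Subgroup.card_dvd_of_le hle)
    rw [hπ] at this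
    omega

/-- the standing hypothesis: the centraliser has order 1440 -/
structure Bad (u q : G) : Prop where
  hyp : Hyp G
  five : IsFive u q
  card : Nat.card ↥(centralizer ({u} : Set G)) = 1440

variable (B : Bad u q)

include B

theorem Bad.product {x y : G} (hx : IsConj u x) (hy : IsConj u y) (hne : x * y ≠ y * x) :
    orderOf (x * y) = 3 ∨ orderOf (x * y) = 6 :=
  product_order B.hyp (conj_two hx B.five.two)
    (Or.inl ((conj_card_centralizer hx).trans B.card)) (hx.symm.trans hy) hne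

theorem Bad.commute_in {P : Subgroup G} (hP : IsPGroup 2 ↥P) {x y : G} (hx : IsConj u x) (hy : IsConj u y)
    (hxP : x ∈ P) (hyP : y ∈ P) : x * y = y * x := by
  by_contra hne
  obtain ⟨k, hk⟩ := hP ⟨x * y, P.mul_mem hxP hyP⟩
  have hd : orderOf (x * y) ∣ 2 ^ k := orderOf_dvd_of_pow_eq_one (congrArg Subtype.val hk)
  have h3 : ¬ 3 ∣ 2 ^ k := fun h => by
    have := Nat.prime_three.dvd_of_dvd_pow h
    norm_num at this
  rcases B.product hx hy hne with e | e <;> rw [e] at hd
  · exact h3 hd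
  · exact h3 ((by norm_num : 3 ∣ 6).trans hd)

/-- The order of the product of two distinct members cannot be divisible by five. -/
theorem Bad.not_five {x y : G} (hx : IsConj u x) (hy : IsConj u y) : ¬ 5 ∣ orderOf (x * y) := fun h => by
  by_cases hc : x * y = y * x
  · have hxx := (two_iff.1 (conj_two hx B.five.two)).1
    have hyy := (two_iff.1 (conj_two hy B.five.two)).1
    have : (x * y) ^ 2 = 1 := by
      rw [pow_two]
      calc x * y * (x * y) = x * (y * x) * y := by group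
        _ = x * x * (y * y) := by rw [← hc]; group
        _ = 1 := by rw [hxx, hyy, one_mul]
    have := h.trans (orderOf_dvd_of_pow_eq_one this)
    norm_num at this
  · rcases B.product hx hy hc with e | e <;> rw [e] at h <;> norm_num at h

theorem Bad.false : False := by
  classical
  have H := B.hyp
  obtain ⟨huu, hu1⟩ := two_iff.1 B.five.two
  set C := centralizer ({u} : Set G) with hCd
  have huC : u ∈ C := mem_centralizer_singleton_iff.2 rfl
  set uC : ↥C := ⟨u, huC⟩ with huCd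
  set Z : Subgroup ↥C := zpowers uC with hZd
  have hZcent : Z ≤ center ↥C := zpowers_le.2 (mem_center_iff.2 fun c => Subtype.ext
    (show (c : G) * u = u * c from mem_centralizer_singleton_iff.1 c.2))
  haveI : Z.Normal := ⟨fun z hz g => by
    have hzg := mem_center_iff.1 (hZcent hz) g
    rw [hzg, mul_inv_cancel_right]; exact hz⟩
  have hZ : Nat.card ↥Z = 2 := by rw [hZd, Nat.card_zpowers, ← Subgroup.orderOf_coe]; exact B.five.two
  set π := QuotientGroup.mk' Z with hπ
  have hF := B.five.quot_fpf B.hyp.toLocal (m := 144) (n := 36) (by norm_num) (by norm_num) B.card Z hZ (mem_zpowers uC)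
  obtain ⟨N, hNn, hNi, hNs⟩ := exists_simple_index_two hF (Or.inl ⟨rfl, rfl⟩)
  haveI := hNn
  haveI := hNs
  have hN360 : Nat.card ↥N = 360 := by
    have := N.card_mul_index
    rw [hNi, hF.card] at this
    omega
  have hUsq : ∀ {x : G}, IsConj u x → x * x = 1 := fun hx => (two_iff.1 (conj_two hx B.five.two)).1
  have hker : ∀ c : ↥C, π c = 1 → (c : G) = 1 ∨ (c : G) = u := by
    intro c hc
    obtain ⟨i, hi⟩ := mem_zpowers_iff.1 ((QuotientGroup.eq_one_iff c).1 hc)
    have hu2 : uC * uC = 1 := Subtype.ext huu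
    rcases Int.even_or_odd i with ⟨j, rfl⟩ | ⟨j, rfl⟩
    · left
      rw [← hi, ← two_mul, zpow_mul, zpow_two, hu2, one_zpow]; rfl
    · right
      rw [← hi, zpow_add, zpow_mul, zpow_two, hu2, one_zpow, one_mul, zpow_one]
  -- the images of the other members of the class are outside the simple subgroup
  have hDN : ∀ (d : G) (hd : d ∈ C), IsConj u d → d ≠ u → π ⟨d, hd⟩ ∉ N := by
    intro d hd hdU hdu hmem
    have hd1 : π ⟨d, hd⟩ ≠ 1 := fun e => by
      rcases hker _ e with e | e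
      · exact (two_iff.1 (conj_two hdU B.five.two)).2 e
      · exact hdu e
    obtain ⟨⟨y, hy⟩, hy5⟩ := three_sixty_invert hN360 (x := ⟨_, hmem⟩)
      (Subtype.ext (by
        show (π ⟨d, hd⟩) ^ 2 = 1
        rw [pow_two, ← map_mul, show (⟨d, hd⟩ : ↥C) * ⟨d, hd⟩ = 1 from Subtype.ext (hUsq hdU), map_one]))
      (fun e => hd1 (congrArg Subtype.val e))
    obtain ⟨c, rfl⟩ := QuotientGroup.mk'_surjective Z y
    rw [← Subgroup.orderOf_coe] at hy5
    have h5 : 5 ∣ orderOf (d * ((c : G) * d * (c : G)⁻¹)) := by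
      have hd5 : 5 ∣ orderOf ((⟨d, hd⟩ : ↥C) * (c * ⟨d, hd⟩ * c⁻¹)) := by
        refine dvd_trans ?_ (orderOf_map_dvd π _)
        rw [map_mul, map_mul, map_mul, map_inv]
        exact hy5.symm.dvd
      rw [← Subgroup.orderOf_coe] at hd5
      exact hd5
    exact B.not_five hdU (hdU.trans (isConj_iff.2 ⟨c, rfl⟩)) h5
  -- a Sylow two-subgroup
  obtain ⟨R0⟩ : Nonempty (Sylow 2 ↥C) := Sylow.nonempty
  obtain ⟨T, hT⟩ := IsPGroup.exists_le_sylow (R0.2.map C.subtype)
  set R := (T : Subgroup G) ⊓ C with hRd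
  have hR0 : Nat.card ↥((R0 : Subgroup ↥C).map C.subtype) = 32 := by
    rw [Subgroup.card_map_of_injective C.subtype_injective]
    simpa using card_sylow_of_factor R0 (a := 5) (m := 45) (by rw [B.card]; norm_num) (by norm_num)
  have hTP : IsPGroup 2 ↥R := T.2.to_le inf_le_left
  have hR : Nat.card ↥R = 32 := by
    refine le_antisymm ?_ (hR0 ▸ Nat.le_of_dvd Nat.card_pos (Subgroup.card_dvd_of_le (le_inf hT ?_)))
    · obtain ⟨k, hk⟩ := hTP.exists_card_eq
      have hd := Subgroup.card_dvd_of_le (show R ≤ C from inf_le_right)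
      rw [B.card, hk] at hd
      rw [hk]
      have hk5 : k ≤ 5 := by
        by_contra hlt
        have : 2 ^ 6 ∣ 1440 := (pow_dvd_pow 2 (by omega)).trans hd
        norm_num at this
      calc 2 ^ k ≤ 2 ^ 5 := Nat.pow_le_pow_right (by norm_num) hk5
        _ = 32 := by norm_num
    · rintro _ ⟨a, -, rfl⟩; exact a.2
  have hTc : Nat.card ↥(T : Subgroup G) = 64 := by
    simpa using card_sylow_of_factor T (a := 6) (m := 1485) (by rw [H.card]; norm_num) (by norm_num)
  have huT : u ∈ (T : Subgroup G) := by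
    refine hT ?_
    haveI : (zpowers uC).Normal := ‹Z.Normal›
    have hle : zpowers uC ≤ (R0 : Subgroup ↥C) :=
      (IsPGroup.of_card (n := 1) (by rw [← hZd, hZ, pow_one]) : IsPGroup 2 ↥(zpowers uC)).le_sylow_of_normal R0
    exact ⟨uC, hle (mem_zpowers uC), rfl⟩
  set Δ : Set G := {x | x ∈ (T : Subgroup G) ∧ IsConj u x} with hΔd
  have huΔ : u ∈ Δ := ⟨huT, IsConj.refl u⟩
  have hΔcomm : ∀ x ∈ Δ, ∀ y ∈ Δ, x * y = y * x := fun x hx y hy => B.commute_in T.2 hx.2 hy.2 hx.1 hy.1
  have hΔC : ∀ x ∈ Δ, x ∈ C := fun x hx => mem_centralizer_singleton_iff.2 (hΔcomm x hx u huΔ)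
  have hΔR : ∀ x ∈ Δ, x ∈ R := fun x hx => ⟨hx.1, hΔC x hx⟩
  -- conjugation of two-subgroups of the centraliser into R
  have hinto : ∀ L : Subgroup G, IsPGroup 2 ↥L → L ≤ C → ∃ c ∈ C, ∀ a ∈ L, c * a * c⁻¹ ∈ R := by
    intro L hL hLC
    obtain ⟨S, hS⟩ := IsPGroup.exists_le_sylow (hL.comap_subtype (K := C))
    obtain ⟨c, hc⟩ := MulAction.exists_smul_eq ↥C S R0
    refine ⟨c, c.2, fun a ha => ?_⟩
    have : c * ⟨a, hLC ha⟩ * c⁻¹ ∈ (R0 : Subgroup ↥C) := by
      rw [← hc]
      exact Subgroup.smul_mem_pointwise_smul _ (MulAut.conj c) _ (hS (show (⟨a, hLC ha⟩ : ↥C) ∈ L.comap C.subtype from ha))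
    exact ⟨hT ⟨_, this, rfl⟩, C.mul_mem (C.mul_mem c.2 (hLC ha)) (C.inv_mem c.2)⟩
  set S := normalizer Δ with hSd
  have hTS : (T : Subgroup G) ≤ S := fun t ht => by
    refine Subgroup.mem_set_normalizer_iff.2 fun x => ⟨fun hx => ?_, fun hx => ?_⟩
    · exact ⟨mul_mem (mul_mem ht hx.1) (inv_mem ht), hx.2.trans (isConj_iff.2 ⟨t, rfl⟩)⟩
    · refine ⟨?_, hx.2.trans (IsConj.symm (isConj_iff.2 ⟨t, rfl⟩))⟩
      have := mul_mem (mul_mem (inv_mem ht) hx.1) ht
      simpa [mul_assoc] using this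
  have hmemS : ∀ {s : G}, (∀ x ∈ Δ, s * x * s⁻¹ ∈ Δ) → s ∈ S := by
    intro s hs
    have heq : (fun x => s * x * s⁻¹) '' Δ = Δ := Set.eq_of_subset_of_ncard_le
      (by rintro _ ⟨x, hx, rfl⟩; exact hs x hx)
      (by rw [Set.ncard_image_of_injective _ (fun a b h => mul_left_cancel (mul_right_cancel h))]) (Set.toFinite _)
    refine Subgroup.mem_set_normalizer_iff.2 fun x => ⟨hs x, fun hx => ?_⟩
    rw [← heq] at hx
    obtain ⟨y, hy, hye⟩ := hx
    exact mul_left_cancel (mul_right_cancel hye) ▸ hy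
  -- transitivity
  have htrans : ∀ x ∈ Δ, ∃ s ∈ S, s * x * s⁻¹ = u := by
    intro x hx
    obtain ⟨h, hh⟩ := isConj_iff.1 hx.2.symm
    set Δ' : Set G := (fun a => h * a * h⁻¹) '' Δ with hΔ'
    have hcomm' : ∀ a ∈ Δ', ∀ b ∈ Δ', a * b = b * a := by
      rintro _ ⟨a, ha, rfl⟩ _ ⟨b, hb, rfl⟩
      calc h * a * h⁻¹ * (h * b * h⁻¹) = h * (a * b) * h⁻¹ := by group
        _ = h * (b * a) * h⁻¹ := by rw [hΔcomm a ha b hb]
        _ = _ := by group
    have hu' : u ∈ Δ' := ⟨x, hx, hh⟩
    have hsq : ∀ a ∈ Δ', a * a = 1 := by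
      rintro _ ⟨a, ha, rfl⟩
      exact hUsq (ha.2.trans (isConj_iff.2 ⟨h, rfl⟩))
    obtain ⟨c, hcC, hc⟩ := hinto (closure Δ') (isPGroup_of_sq fun a ha => sq_of_closure hcomm' hsq ha)
      ((closure_le _).2 fun a ha => mem_centralizer_singleton_iff.2 (hcomm' a ha u hu'))
    refine ⟨c * h, hmemS fun a ha => ?_, ?_⟩
    · rw [show c * h * a * (c * h)⁻¹ = c * (h * a * h⁻¹) * c⁻¹ by group]
      exact ⟨(hc _ (subset_closure ⟨a, ha, rfl⟩)).1,
        ha.2.trans ((isConj_iff.2 ⟨h, rfl⟩ : IsConj a (h * a * h⁻¹)).trans (isConj_iff.2 ⟨c, rfl⟩))⟩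
    · rw [show c * h * x * (c * h)⁻¹ = c * (h * x * h⁻¹) * c⁻¹ by group, hh,
        mem_centralizer_singleton_iff.1 hcC, mul_inv_cancel_right]
  -- the parity of the size
  have hpar : Δ.ncard % 4 = 2 := by
    have hrange : Δ = Set.range fun k : S => (k : G) * u * (k : G)⁻¹ := by
      ext x
      constructor
      · intro hx
        obtain ⟨s, hs, hsx⟩ := htrans x hx
        exact ⟨⟨s⁻¹, S.inv_mem hs⟩, by rw [← hsx]; group⟩
      · rintro ⟨k, rfl⟩
        exact (Subgroup.mem_set_normalizer_iff.1 k.2 u).1 huΔ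
    have horb := ncard_conj_orbit S u
    rw [← hrange, ← hCd] at horb
    obtain ⟨a, ha⟩ := Subgroup.card_dvd_of_le hTS
    rw [hTc] at ha
    obtain ⟨b, hb⟩ := hR ▸ Subgroup.card_dvd_of_le (show R ≤ S ⊓ C from le_inf (inf_le_left.trans hTS) inf_le_right)
    have haS := Subgroup.card_subgroup_dvd_card S
    rw [H.card, ha, show (95040 : ℕ) = 64 * 1485 by norm_num] at haS
    have haodd : a % 2 = 1 := Nat.odd_iff.1 (Odd.of_dvd_nat (by decide +kernel)
      (Nat.dvd_of_mul_dvd_mul_left (show 0 < 64 by norm_num) haS))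
    have hbC := Subgroup.card_dvd_of_le (show S ⊓ C ≤ C from inf_le_right)
    rw [B.card, hb, show (1440 : ℕ) = 32 * 45 by norm_num] at hbC
    have hbodd : b % 2 = 1 := Nat.odd_iff.1 (Odd.of_dvd_nat (by decide +kernel)
      (Nat.dvd_of_mul_dvd_mul_left (show 0 < 32 by norm_num) hbC))
    rw [hb, ha] at horb
    have hkey : Δ.ncard * b = 2 * a := by
      refine mul_left_cancel₀ (show (32 : ℕ) ≠ 0 by norm_num) ?_
      calc 32 * (Δ.ncard * b) = Δ.ncard * (32 * b) := by ring
        _ = 64 * a := horb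
        _ = 32 * (2 * a) := by ring
    have h4 : (Δ.ncard * b) % 4 = 2 := by omega
    rw [Nat.mul_mod] at h4
    have hb4 : b % 4 = 1 ∨ b % 4 = 3 := by omega
    have hd4 : Δ.ncard % 4 < 4 := Nat.mod_lt _ (by norm_num)
    rcases hb4 with e | e <;> rw [e] at h4 <;> omega
  -- no member is the product of two others
  have hline : ∀ d ∈ Δ, ∀ e ∈ Δ, d ≠ u → e ≠ u → d * e ∈ Δ → d * e = u := by
    intro d hd e he hdu heu hde
    by_contra hne
    refine hDN _ (hΔC _ hde) hde.2 hne ?_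
    rw [show (⟨d * e, hΔC _ hde⟩ : ↥C) = ⟨d, hΔC d hd⟩ * ⟨e, hΔC e he⟩ from rfl, map_mul,
      Subgroup.mul_mem_iff_of_index_two hNi]
    exact iff_of_false (hDN d _ hd.2 hdu) (hDN e _ he.2 heu)
  set L : G → Set G := fun x => {y | y ∈ Δ ∧ y ≠ x ∧ x * y ∈ Δ} with hLd
  have hLu : L u = ∅ := by
    by_contra hne
    obtain ⟨e, he, heu, hue⟩ := Set.nonempty_iff_ne_empty.2 hne
    have hLeq : ∀ x ∈ Δ, (L x).ncard = (L u).ncard := by
      intro x hx
      obtain ⟨s, hs, hsx⟩ := htrans x hx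
      have hsm : ∀ a, a ∈ Δ ↔ s * a * s⁻¹ ∈ Δ := fun a => Subgroup.mem_set_normalizer_iff.1 hs a
      rw [← Set.ncard_image_of_injective (L x) (fun a b h => mul_left_cancel (mul_right_cancel h) :
        Function.Injective fun a => s * a * s⁻¹)]
      congr 1
      ext a
      constructor
      · rintro ⟨b, ⟨hb1, hb2, hb3⟩, rfl⟩
        refine ⟨(hsm b).1 hb1, fun h => hb2 ?_, ?_⟩
        · exact mul_left_cancel (mul_right_cancel (h.trans hsx.symm))
        · have := (hsm (x * b)).1 hb3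
          rwa [show s * (x * b) * s⁻¹ = (s * x * s⁻¹) * (s * b * s⁻¹) by group, hsx] at this
      · rintro ⟨ha1, ha2, ha3⟩
        refine ⟨s⁻¹ * a * s, ⟨(hsm _).2 ?_, fun h => ha2 ?_, (hsm _).2 ?_⟩, by simp only; group⟩
        · rwa [show s * (s⁻¹ * a * s) * s⁻¹ = a by group]
        · rw [← hsx, ← h]; group
        · rwa [show s * (x * (s⁻¹ * a * s)) * s⁻¹ = (s * x * s⁻¹) * a by group, hsx]
    have hLe : L e ⊆ {u, u * e} := by
      rintro y ⟨hy, hye, hey⟩
      by_cases hyu : y = u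
      · exact Or.inl hyu
      · refine Or.inr ?_
        have h1 := hline e he y hy heu hyu hey
        show y = u * e
        calc y = e * (e * y) := by rw [← mul_assoc, hUsq he.2, one_mul]
          _ = e * u := by rw [h1]
          _ = u * e := hΔcomm e he u huΔ
    have hle2 : (L u).ncard ≤ 2 := by
      rw [← hLeq e he]
      refine (Set.ncard_le_ncard hLe (Set.toFinite _)).trans ?_
      exact (Set.ncard_insert_le _ _).trans (by rw [Set.ncard_singleton])
    have hall : Δ \ {u} ⊆ L u := by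
      rintro f ⟨hf, hfu⟩
      have hne' : (L f).Nonempty := by
        rw [← Set.ncard_pos (Set.toFinite _), hLeq f hf]
        exact (Set.ncard_pos (Set.toFinite _)).2 ⟨e, he, heu, hue⟩
      obtain ⟨y, hy, hyf, hfy⟩ := hne'
      by_cases hyu : y = u
      · exact ⟨hf, hfu, by rw [hΔcomm u huΔ f hf]; exact hyu ▸ hfy⟩
      · have h1 := hline f hf y hy hfu hyu hfy
        refine ⟨hf, hfu, ?_⟩
        rw [← h1, hΔcomm f hf y hy, mul_assoc, hUsq hf.2, mul_one]
        exact hy
    have hge : 2 ≤ (L u).ncard := by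
      rw [← Set.ncard_pair (show e ≠ u * e from fun h => hu1 (mul_eq_right.1 h.symm))]
      refine Set.ncard_le_ncard ?_ (Set.toFinite _)
      rintro y (rfl | rfl)
      · exact ⟨he, heu, hue⟩
      · refine ⟨hue, fun h => (two_iff.1 (conj_two he.2 B.five.two)).2 (mul_eq_left.1 h), ?_⟩
        rw [← mul_assoc, huu, one_mul]; exact he
    have hle := Set.ncard_le_ncard hall (Set.toFinite _)
    have hsub : L u ⊆ Δ \ {u} := fun y ⟨hy, hyu, _⟩ => ⟨hy, hyu⟩
    have hge' := Set.ncard_le_ncard hsub (Set.toFinite _)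
    have hadd := Set.ncard_sdiff_singleton_add_one huΔ (Set.toFinite _)
    omega
  -- the class meets the Sylow subgroup in two elements
  have hΔ2 : Δ.ncard = 2 := by
    have hne : (Δ \ {u}).Nonempty := by
      rw [← Set.ncard_pos (Set.toFinite _)]
      have hadd := Set.ncard_sdiff_singleton_add_one huΔ (Set.toFinite _)
      omega
    obtain ⟨d0, hd0, hd0u⟩ := hne
    set A := closure Δ with hAd
    have hAC : A ≤ C := (closure_le _).2 hΔC
    have hAsq : ∀ a ∈ A, a * a = 1 := fun a ha => sq_of_closure hΔcomm (fun x hx => hUsq hx.2) ha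
    set E := (A.subgroupOf C).map π ⊓ N with hEd
    have hEsq : ∀ x ∈ E, x * x = 1 := by
      rintro x ⟨⟨a, ha, rfl⟩, -⟩
      rw [← map_mul, show a * a = 1 from Subtype.ext (hAsq a ha), map_one]
    have hE4 : Nat.card ↥E ≤ 4 := by
      obtain ⟨k, hk⟩ := (isPGroup_of_sq hEsq).exists_card_eq
      have hd := Subgroup.card_dvd_of_le (show E ≤ N from inf_le_right)
      rw [hN360, hk] at hd
      rw [hk]
      have hk3 : k ≤ 3 := by
        by_contra hlt
        have : 2 ^ 4 ∣ 360 := (pow_dvd_pow 2 (by omega)).trans hd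
        norm_num at this
      have hk8 : k ≠ 3 := fun h3 => by
        obtain ⟨a, ha, hne⟩ := three_sixty_eight hN360 (E.subgroupOf N)
          (by rw [Nat.card_congr (Subgroup.subgroupOfEquivOfLe (inf_le_right : E ≤ N)).toEquiv, hk, h3]; norm_num)
        exact hne (Subtype.ext (by rw [Subgroup.coe_pow, pow_two]; exact hEsq a ha))
      calc 2 ^ k ≤ 2 ^ 2 := Nat.pow_le_pow_right (by norm_num) (by omega)
        _ = 4 := by norm_num
    have hinj : (Δ \ {u}).ncard ≤ Nat.card ↥E := by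
      rw [← SetLike.coe_sort_coe E, Nat.card_coe_set_eq]
      let f : G → ↥C ⧸ Z := fun y => if hy : y ∈ C then π (⟨d0, hΔC d0 hd0⟩ * ⟨y, hy⟩) else 1
      refine Set.ncard_le_ncard_of_injOn f ?_ ?_ (Set.toFinite _)
      · rintro y ⟨hy, hyu⟩
        simp only [f, dif_pos (hΔC y hy)]
        refine ⟨⟨_, A.mul_mem (subset_closure hd0) (subset_closure hy), rfl⟩, ?_⟩
        show π (⟨d0, hΔC d0 hd0⟩ * ⟨y, hΔC y hy⟩) ∈ N
        rw [map_mul, Subgroup.mul_mem_iff_of_index_two hNi]
        exact iff_of_false (hDN d0 _ hd0.2 hd0u) (hDN y _ hy.2 hyu)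
      · rintro y ⟨hy, hyu⟩ y' ⟨hy', hyu'⟩ he
        simp only [f, dif_pos (hΔC y hy), dif_pos (hΔC y' hy'), map_mul, mul_right_inj] at he
        rcases hker ((⟨y, hΔC y hy⟩ : ↥C)⁻¹ * ⟨y', hΔC y' hy'⟩) (by rw [map_mul, map_inv, he, inv_mul_cancel]) with h | h
        · exact inv_mul_eq_one.1 h
        · exfalso
          have hyy' : u * y = y' := by
            have h' : y⁻¹ * y' = u := h
            rw [hΔcomm u huΔ y hy, ← h', mul_inv_cancel_left]
          exact (hLu ▸ (⟨hy, hyu, hyy' ▸ hy'⟩ : y ∈ L u) : y ∈ (∅ : Set G))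
    have hadd := Set.ncard_sdiff_singleton_add_one huΔ (Set.toFinite _)
    omega
  -- maximality
  have hmax : ∀ P : Subgroup G, IsPGroup 2 ↥P → {x | x ∈ P ∧ IsConj u x}.ncard ≤ 2 := by
    intro P hP
    obtain ⟨P', hP'⟩ := hP.exists_le_sylow
    obtain ⟨g, hg⟩ := MulAction.exists_smul_eq G P' T
    rw [← hΔ2, ← Set.ncard_image_of_injective _ (fun a b h => mul_left_cancel (mul_right_cancel h) :
      Function.Injective fun a => g * a * g⁻¹)]
    refine Set.ncard_le_ncard ?_ (Set.toFinite _)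
    rintro _ ⟨x, ⟨hx, hxU⟩, rfl⟩
    refine ⟨?_, hxU.trans (isConj_iff.2 ⟨g, rfl⟩)⟩
    rw [← hg]
    exact Subgroup.smul_mem_pointwise_smul x (MulAut.conj g) _ (hP' hx)
  set D : Set G := {x | x ∈ C ∧ IsConj u x ∧ x ≠ u} with hDd
  have hnocomm : ∀ d ∈ D, ∀ e ∈ D, d ≠ e → d * e ≠ e * d := by
    intro d hd e he hde hc
    have hcomm : ∀ x ∈ ({u, d, e} : Set G), ∀ y ∈ ({u, d, e} : Set G), x * y = y * x := by
      have h1 := mem_centralizer_singleton_iff.1 hd.1
      have h2 := mem_centralizer_singleton_iff.1 he.1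
      rintro x (rfl | rfl | rfl) y (rfl | rfl | rfl) <;>
        first | rfl | exact h1 | exact h1.symm | exact h2 | exact h2.symm | exact hc | exact hc.symm
    have hsq : ∀ x ∈ ({u, d, e} : Set G), x * x = 1 := by
      rintro x (rfl | rfl | rfl)
      exacts [huu, hUsq hd.2.1, hUsq he.2.1]
    have h3 : ({u, d, e} : Set G).ncard = 3 := Set.ncard_eq_three.2 ⟨u, d, e, hd.2.2.symm, he.2.2.symm, hde, rfl⟩
    have hle := Set.ncard_le_ncard (show ({u, d, e} : Set G) ⊆ {x | x ∈ closure ({u, d, e} : Set G) ∧ IsConj u x} from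
      fun x hx => ⟨subset_closure hx, by
        rcases hx with rfl | rfl | rfl
        exacts [IsConj.refl x, hd.2.1, he.2.1]⟩) (Set.toFinite _)
    have := hmax (closure ({u, d, e} : Set G)) (isPGroup_of_sq fun a ha => sq_of_closure hcomm hsq ha)
    omega
  obtain ⟨d0, hd0, hd0u⟩ : (Δ \ {u}).Nonempty := by
    rw [← Set.ncard_pos (Set.toFinite _)]
    have hadd := Set.ncard_sdiff_singleton_add_one huΔ (Set.toFinite _)
    omega
  have hd0u' : d0 ≠ u := hd0u
  have honly : ∀ x ∈ Δ, x ≠ u → x = d0 := by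
    intro x hx hxu
    by_contra hne
    have h3 : ({u, d0, x} : Set G).ncard = 3 := Set.ncard_eq_three.2 ⟨u, d0, x, hd0u'.symm, hxu.symm, fun e => hne e.symm, rfl⟩
    have := Set.ncard_le_ncard (show ({u, d0, x} : Set G) ⊆ Δ by
      rintro y (rfl | rfl | rfl)
      exacts [huΔ, hd0, hx]) (Set.toFinite _)
    omega
  have hd0D : d0 ∈ D := ⟨hΔC d0 hd0, hd0.2, hd0u'⟩
  have hDinv : ∀ c ∈ C, ∀ x ∈ D, c * x * c⁻¹ ∈ D := by
    intro c hc x hx
    refine ⟨C.mul_mem (C.mul_mem hc hx.1) (C.inv_mem hc), hx.2.1.trans (isConj_iff.2 ⟨c, rfl⟩), fun h => hx.2.2 ?_⟩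
    calc x = c⁻¹ * (c * x * c⁻¹) * c := by group
      _ = c⁻¹ * (u * c) := by rw [h]; group
      _ = c⁻¹ * (c * u) := by rw [mem_centralizer_singleton_iff.1 hc]
      _ = u := by group
  -- all products in D have order three
  have hthree : ∀ e ∈ D, e ≠ d0 → orderOf (d0 * e) = 3 := by
    intro e he hne
    refine (B.product hd0.2 he.2.1 (hnocomm d0 hd0D e he (Ne.symm hne))).resolve_right fun h6 => ?_
    set p := d0 * e with hp
    have hd2 := hUsq hd0.2
    have he2 := hUsq he.2.1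
    have hpinv : p⁻¹ = e * d0 := by
      rw [hp, mul_inv_rev, inv_eq_of_mul_eq_one_right hd2, inv_eq_of_mul_eq_one_right he2]
    have hconj : d0 * p = p⁻¹ * d0 := by
      rw [hpinv, hp, ← mul_assoc, hd2, one_mul, mul_assoc, hd2, mul_one]
    have hpC : p ∈ C := C.mul_mem hd0D.1 he.1
    have hpd : p * d0 ∈ D := by
      have := hDinv d0 hd0D.1 e he
      rwa [inv_eq_of_mul_eq_one_right hd2] at this
    have h3d : p ^ 3 * d0 ∈ D := by
      have := hDinv p hpC _ hpd
      have e' : d0 * p⁻¹ = p * d0 := by rw [hpinv, hp]; group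
      rwa [show p * (p * d0) * p⁻¹ = p * p * (d0 * p⁻¹) by group, e',
        show p * p * (p * d0) = p ^ 3 * d0 by rw [pow_succ, pow_two]; group] at this
    have h6' : p ^ 6 = 1 := orderOf_dvd_iff_pow_eq_one.1 h6.dvd
    have h3i : (p ^ 3)⁻¹ = p ^ 3 := inv_eq_of_mul_eq_one_right (by rw [← pow_add]; exact h6')
    have hsc : d0 * p ^ 3 = (p ^ 3)⁻¹ * d0 := by
      have hs : SemiconjBy d0 p p⁻¹ := hconj
      have := (hs.pow_right 3).eq
      rwa [inv_pow] at this
    refine hnocomm d0 hd0D _ h3d (fun h => ?_) ?_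
    · have : p ^ 3 = 1 := mul_eq_right.1 h.symm
      have := orderOf_dvd_of_pow_eq_one this
      rw [h6] at this
      norm_num at this
    · rw [← mul_assoc, hsc, h3i, mul_assoc]
  -- R centralises d0
  have hRd0 : ∀ r ∈ R, r * d0 * r⁻¹ = d0 := by
    intro r hr
    obtain ⟨hDr1, hDr2, hDr3⟩ := hDinv r hr.2 d0 hd0D
    exact honly _ ⟨mul_mem (mul_mem hr.1 hd0.1) (inv_mem hr.1), hDr2⟩ hDr3
  -- a single orbit
  have horbit : D = Set.range fun k : C => (k : G) * d0 * (k : G)⁻¹ := by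
    ext e
    constructor
    · intro he
      have hc := mem_centralizer_singleton_iff.1 he.1
      have hcomm : ∀ x ∈ ({u, e} : Set G), ∀ y ∈ ({u, e} : Set G), x * y = y * x := by
        rintro x (rfl | rfl) y (rfl | rfl) <;> first | rfl | exact hc | exact hc.symm
      have hsq : ∀ x ∈ ({u, e} : Set G), x * x = 1 := by
        rintro x (rfl | rfl)
        exacts [huu, hUsq he.2.1]
      obtain ⟨c, hcC, hcL⟩ := hinto (closure ({u, e} : Set G)) (isPGroup_of_sq fun a ha => sq_of_closure hcomm hsq ha)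
        ((closure_le _).2 fun x hx => by
          rcases hx with rfl | rfl
          exacts [huC, he.1])
      have hmem := hcL e (subset_closure (Or.inr rfl))
      obtain ⟨-, h2, h3⟩ := hDinv c hcC e he
      have := honly _ ⟨hmem.1, h2⟩ h3
      exact ⟨⟨c⁻¹, C.inv_mem hcC⟩, by rw [← this]; group⟩
    · rintro ⟨k, rfl⟩
      exact hDinv k k.2 d0 hd0D
  have hcount := ncard_conj_orbit C d0
  rw [← horbit, B.card] at hcount
  have hR45 : D.ncard ∣ 45 := by
    obtain ⟨b, hb⟩ := hR ▸ Subgroup.card_dvd_of_le (show R ≤ C ⊓ centralizer ({d0} : Set G) from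
      le_inf inf_le_right fun r hr => mem_centralizer_singleton_iff.2 (mul_inv_eq_iff_eq_mul.1 (hRd0 r hr)))
    exact ⟨b, mul_left_cancel₀ (show (32 : ℕ) ≠ 0 by norm_num) (by rw [hb] at hcount; linarith [hcount])⟩
  have h5D : 5 ∣ D.ncard := by
    refine dvd_ncard_conj (x := q) (k := 1) (by rw [pow_one, ← B.five.five, pow_orderOf_eq_one])
      (fun a ha => hDinv q (mem_centralizer_singleton_iff.2 B.five.comm.symm) a ha) fun a ha hc => ha.2.2 ?_
    exact B.five.unique H.toLocal (conj_two ha.2.1 B.five.two) hc.symm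
  have h8 : 8 ∣ (D \ {d0}).ncard := by
    refine dvd_ncard_orbits R 8 _ (D \ {d0}) rfl (fun r hr x hx => ⟨hDinv r hr.2 x hx.1, fun h => hx.2 ?_⟩) ?_
    · refine mul_left_cancel (mul_right_cancel (h.trans (hRd0 r hr).symm))
    rintro e ⟨he, hed⟩
    have horb := ncard_conj_orbit R e
    rw [hR] at horb
    set K := R ⊓ centralizer ({e} : Set G) with hKd
    set p := d0 * e with hp
    have hp3 := hthree e he hed
    have hpC : p ∈ C := C.mul_mem hd0D.1 he.1
    have hpN : π ⟨p, hpC⟩ ∈ N := by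
      rw [show (⟨p, hpC⟩ : ↥C) = ⟨d0, hd0D.1⟩ * ⟨e, he.1⟩ from rfl, map_mul, Subgroup.mul_mem_iff_of_index_two hNi]
      exact iff_of_false (hDN d0 _ hd0.2 hd0u') (hDN e _ he.2.1 he.2.2)
    have hpo : orderOf (π ⟨p, hpC⟩) = 3 := by
      refine ((Nat.dvd_prime Nat.prime_three).1 ?_).resolve_left fun h1 => ?_
      · have hdd := orderOf_map_dvd π ⟨p, hpC⟩
        rwa [Subgroup.orderOf_mk, hp3] at hdd
      · rcases hker _ (orderOf_eq_one_iff.1 h1) with h | h
        · rw [show ((⟨p, hpC⟩ : ↥C) : G) = p from rfl] at h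
          rw [← hp, h, orderOf_one] at hp3; omega
        · rw [show ((⟨p, hpC⟩ : ↥C) : G) = p from rfl] at h
          rw [← hp, h, B.five.two] at hp3; omega
    set KC := K.subgroupOf C
    set KB := KC.map π
    have hKBN : KB ⊓ N = ⊥ := by
      rw [Subgroup.eq_bot_iff_forall]
      rintro x ⟨⟨k, hk, rfl⟩, hxN⟩
      by_contra hne
      have hcom : Commute (π k) (π ⟨p, hpC⟩) := by
        have hk' : (k : G) ∈ K := hk
        have h1 : Commute (k : G) d0 := mul_inv_eq_iff_eq_mul.1 (hRd0 k hk'.1)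
        have h2 : Commute (k : G) e := mem_centralizer_singleton_iff.1 hk'.2
        exact (show Commute k ⟨p, hpC⟩ from Subtype.ext (h1.mul_right h2).eq).map π
      have hk2 : IsPGroup 2 ↥KC := IsPGroup.comap_subtype (K := C) (hTP.to_le inf_le_left)
      obtain ⟨i, hi⟩ := hk2 ⟨k, hk⟩
      have hd : orderOf (π k) ∣ 2 ^ i := orderOf_dvd_of_pow_eq_one (by
        rw [← map_pow, show k ^ 2 ^ i = 1 from congrArg Subtype.val hi, map_one])
      have h2d : 2 ∣ orderOf (π k) := by
        obtain ⟨j, -, hj⟩ := (Nat.dvd_prime_pow Nat.prime_two).1 hd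
        rcases j with _ | j
        · exact absurd (orderOf_eq_one_iff.1 (hj.trans (pow_zero 2))) hne
        · exact hj ▸ dvd_pow_self 2 (Nat.succ_ne_zero j)
      have ho : orderOf ((π k) ^ (orderOf (π k) / 2)) = 2 := orderOf_pow_orderOf_div (orderOf_pos _).ne' h2d
      refine three_sixty_no_six hN360 ⟨(π k) ^ (orderOf (π k) / 2) * π ⟨p, hpC⟩, N.mul_mem (N.pow_mem hxN _) hpN⟩ ?_
      rw [← Subgroup.orderOf_coe]
      show orderOf ((π k) ^ (orderOf (π k) / 2) * π ⟨p, hpC⟩) = 6
      rw [(hcom.pow_left _).orderOf_mul_eq_mul_orderOf_of_coprime (by rw [ho, hpo]; norm_num), ho, hpo]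
    have hKB2 : Nat.card ↥KB ≤ 2 := by
      have := card_inf_mul_relIndex N KB
      rw [hKBN, Subgroup.card_bot, one_mul] at this
      rw [← this]
      refine Nat.le_of_dvd (by norm_num) ?_
      rw [← hNi]
      exact Subgroup.relIndex_dvd_index_of_normal N KB
    have hK4 : Nat.card ↥K ≤ 4 := by
      have hrel := card_inf_mul_relIndex π.ker KC
      rw [Subgroup.relIndex_ker] at hrel
      change Nat.card ↥(KC ⊓ π.ker) * Nat.card ↥KB = Nat.card ↥KC at hrel
      have hk2' : Nat.card ↥(KC ⊓ π.ker) ≤ 2 := by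
        rw [← hZ]
        exact Nat.le_of_dvd Nat.card_pos (Subgroup.card_dvd_of_le (by rw [hπ, QuotientGroup.ker_mk']; exact inf_le_right))
      have hKc : Nat.card ↥KC = Nat.card ↥K :=
        Nat.card_congr (Subgroup.subgroupOfEquivOfLe ((inf_le_left : K ≤ R).trans inf_le_right)).toEquiv
      have := Nat.mul_le_mul hk2' hKB2
      omega
    obtain ⟨i, hi'⟩ := (hTP.to_le (inf_le_left : K ≤ R)).exists_card_eq
    have hi : Nat.card ↥K = 2 ^ i := hi'
    have hi2 : i ≤ 2 := by
      by_contra hlt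
      have : 2 ^ 3 ≤ 2 ^ i := Nat.pow_le_pow_right (by norm_num) (by omega)
      omega
    rw [hi] at horb
    interval_cases i <;> norm_num at horb <;> omega
  have hadd := Set.ncard_sdiff_singleton_add_one hd0D (Set.toFinite _)
  have hlist : ∀ i ∈ Nat.divisors 45, 5 ∣ i → i = 5 ∨ i = 15 ∨ i = 45 := by decide +kernel
  rcases hlist _ (Nat.mem_divisors.2 ⟨hR45, by norm_num⟩) h5D with e | e | e <;> omega

omit B in
/-- The centraliser of an involution commuting with an element of order five has order 240. -/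
theorem IsFive.card_cent (H : Hyp G) (h : IsFive u q) :
    Nat.card ↥(centralizer ({u} : Set G)) = 240 :=
  (h.card_cases H.toLocal).resolve_right fun h' => h'.elim (fun e => Bad.false ⟨H, h, e⟩) (h.card_ne_8640 H)

end Cfsg.Lib.M12Nse
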