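import Cfsg.Agent.M12Nse.Models
import Cfsg.Agent.M12Nse.Census
import Cfsg.Agent.M12Cent.Main

/-!
A group with the order and the element counts of `M₁₂` is `M₁₂`.
-/

set_option autoImplicit false
set_option linter.unusedSectionVars false
set_option linter.style.haveILetI false
set_option maxRecDepth 100000

namespace Cfsg.Lib.M12Nse

open Subgroup Cfsg.Lib.SameOrder
open Cfsg.Lib.M12Cent (M tau Setting X12 x12Equiv)

universe u

variable {G : Type u} [Group G] [Finite G]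

namespace Frame

theorem rel_sq {z : G} (F : Frame z) (x : E192) : F.rel.nf (F.par.emul x x) = F.rel.nf x * F.rel.nf x :=
  F.rel.nf_emul x x

/-- in the non-inverting case the parameters are fixed -/
theorem par_fixed {z : G} (F : Frame z) (h : F.inv = false) : F.p = 0 ∧ F.r = 1 := by
  by_contra hne
  refine not_assoc F.eps F.p F.r F.pr hne (F.nf_inj ?_)
  have hp : (⟨false, F.eps, F.p, F.r⟩ : Par) = F.par := by rw [Frame.par, h]
  rw [hp]
  simp only [Rel.nf_emul, mul_assoc]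

end Frame

namespace UData

variable (D : UData G)

theorem invol_class {g : G} (h2 : orderOf g = 2) : IsConj D.u g ∨ IsConj D.z g := D.two_classes h2

theorem not_sq_u {g : G} : ¬ IsConj D.u (g * g) := fun h => by
  obtain ⟨c, hc⟩ := isConj_iff.1 h
  have hx : c⁻¹ * g * c * (c⁻¹ * g * c) = D.u := by
    rw [show c⁻¹ * g * c * (c⁻¹ * g * c) = c⁻¹ * (g * g) * c by group, ← hc]
    group
  obtain ⟨x, hx'⟩ := D.el_surj (g := c⁻¹ * g * c) (by rw [← hx]; group)
  refine uK_not_square x (D.el_inj ?_)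
  rw [el_mul, hx', el_uK, hx]

theorem sq_class {g : G} (h4 : orderOf g = 4) : IsConj D.z (g * g) := by
  have h2 : orderOf (g * g) = 2 := by
    rw [← pow_two, orderOf_pow' g two_ne_zero, h4]; rfl
  exact (D.two_classes h2).resolve_left D.not_sq_u

theorem exists_eight_root (H : Hyp G) : ∃ g : G, g * g * (g * g) = D.z := by
  obtain ⟨-, -, h8, -⟩ := spectrum H
  obtain ⟨⟨g, hg⟩⟩ := (Nat.card_ne_zero.1 h8).1
  have h4 : orderOf (g * g) = 4 := by
    rw [← pow_two, orderOf_pow' g two_ne_zero, hg]; rfl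
  obtain ⟨c, hc⟩ := isConj_iff.1 (D.sq_class h4)
  refine ⟨c⁻¹ * g * c, ?_⟩
  calc c⁻¹ * g * c * (c⁻¹ * g * c) * (c⁻¹ * g * c * (c⁻¹ * g * c)) = c⁻¹ * (g * g * (g * g)) * c := by group
    _ = D.z := by rw [← hc]; group

theorem cnt_four : cnt G 4 = 495 * Nat.card {g : G // g * g = D.z} := by
  classical
  have := Fintype.ofFinite G
  have h4 : ∀ g : G, orderOf g = 4 ↔ IsConj D.z (g * g) := by
    intro g
    refine ⟨D.sq_class, fun h => ?_⟩
    have h2 : orderOf (g ^ 2) = 2 := by rw [pow_two, conj_orderOf h, D.z_two]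
    refine orderOf_eq_prime_pow (p := 2) (n := 1) (hp := ⟨Nat.prime_two⟩) ?_ ?_
    · intro e
      rw [pow_one] at e
      rw [e, orderOf_one] at h2
      omega
    · rw [show 2 ^ (1 + 1) = 2 * 2 from rfl, pow_mul]
      have := pow_orderOf_eq_one (g ^ 2)
      rwa [h2] at this
  let f : {g : G // orderOf g = 4} → {x : G // IsConj D.z x} := fun g => ⟨g.1 * g.1, (h4 g.1).1 g.2⟩
  have hfib : ∀ x, Nat.card {g // f g = x} = Nat.card {g : G // g * g = D.z} := by
    rintro ⟨x, hx⟩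
    obtain ⟨c, hc⟩ := isConj_iff.1 hx
    have e1 : {g // f g = ⟨x, hx⟩} ≃ {g : G // g * g = x} :=
      { toFun := fun g => ⟨g.1.1, congrArg Subtype.val g.2⟩
        invFun := fun g => ⟨⟨g.1, (h4 g.1).2 (by rw [g.2]; exact hx)⟩, Subtype.ext g.2⟩
        left_inv := fun _ => rfl
        right_inv := fun _ => rfl }
    rw [Nat.card_congr e1]
    refine Nat.card_congr (((MulAut.conj c).toEquiv.subtypeEquiv fun g => ?_)).symm
    show g * g = D.z ↔ c * g * c⁻¹ * (c * g * c⁻¹) = x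
    rw [show c * g * c⁻¹ * (c * g * c⁻¹) = c * (g * g) * c⁻¹ by group, ← hc]
    exact ⟨fun h => by rw [h], fun h => mul_left_cancel (mul_right_cancel h)⟩
  rw [cnt, ← Nat.card_congr (Equiv.sigmaFiberEquiv f), Nat.card_sigma, Finset.sum_congr rfl fun x _ => hfib x,
    Finset.sum_const, Finset.card_univ, smul_eq_mul, ← Nat.card_eq_fintype_card, D.card_class_z]

/-- the parameters of the centraliser -/
theorem par_eq (H : Hyp G) (F : Frame D.z) : F.inv = true ∧ F.eps = 0 := by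
  have hinv : F.inv = true := by
    by_contra h
    simp only [Bool.not_eq_true] at h
    obtain ⟨hp, hr⟩ := F.par_fixed h
    obtain ⟨g, hg⟩ := D.exists_eight_root H
    obtain ⟨x, rfl⟩ := F.nf_surj (g := g) (by rw [← hg]; group)
    rw [← F.rel_sq, ← F.rel_sq] at hg
    have hP : F.par.emul = Par.emul ⟨false, F.eps, 0, 1⟩ := by rw [Frame.par, h, hp, hr]
    rw [hP] at hg
    exact no_eight F.eps x (F.nf_inj (hg.trans F.nf_ez.symm))
  refine ⟨hinv, ?_⟩
  by_contra he
  have he1 : F.eps = 1 := (Fin.exists_fin_two (p := fun e => F.eps = e)).1 ⟨F.eps, rfl⟩ |>.resolve_left he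
  have hP : F.par.emul = Par.emul ⟨true, 1, F.p, F.r⟩ := by rw [Frame.par, hinv, he1]
  have hr : Nat.card {g : G // g * g = D.z} = 36 := by
    rw [← roots_card F.p F.r F.pr, ← Nat.card_eq_fintype_card]
    symm
    refine Nat.card_congr (Equiv.ofBijective (fun x => ⟨F.rel.nf x.1, ?_⟩) ⟨?_, ?_⟩)
    · rw [← F.rel_sq, hP, x.2, F.nf_ez]
    · exact fun x y h => Subtype.ext (F.nf_inj (congrArg Subtype.val h))
    · rintro ⟨g, hg⟩
      obtain ⟨x, rfl⟩ := F.nf_surj (g := g) (by rw [← hg]; group)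
      rw [← F.rel_sq, hP] at hg
      exact ⟨⟨x, F.nf_inj (hg.trans F.nf_ez.symm)⟩, rfl⟩
  have := H.mem 4
  rw [D.cnt_four, hr] at this
  simp [nseVals] at this

include D in
theorem exists_setting (hpar : ∀ F : Frame D.z, F.inv = true ∧ F.eps = 0) (hnc : ¬ ∀ a b : G, a * b = b * a) :
    Nonempty (Setting G) := by
  obtain ⟨F⟩ := D.exists_frame
  obtain ⟨hi, he⟩ := hpar F
  have hP : F.par = ⟨true, 0, F.p, F.r⟩ := by rw [Frame.par, hi, he]
  have hbij : ∃ RM : Rel M tau F.par, Function.Bijective RM.nf := by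
    rw [hP]; exact exists_relM F.pr
  obtain ⟨RM, hM⟩ := hbij
  obtain ⟨φ, hφ⟩ := exists_hom F.rel RM hM
  refine ⟨⟨D.z, φ, fun m m' h => ?_, ?_, ?_, fun hc => hnc fun a b => hc.is_comm.comm a b⟩⟩
  · obtain ⟨x, rfl⟩ := hM.2 m
    obtain ⟨x', rfl⟩ := hM.2 m'
    rw [hφ, hφ] at h
    rw [F.nf_inj h]
  · ext g
    constructor
    · rintro ⟨m, rfl⟩
      obtain ⟨x, rfl⟩ := hM.2 m
      rw [hφ]; exact F.nf_mem x
    · intro hg
      obtain ⟨x, rfl⟩ := F.nf_surj (mem_centralizer_singleton_iff.1 hg)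
      exact ⟨RM.nf x, hφ x⟩
  · have h : RM.nf ez = tau := by simp [Rel.nf, Rel.nfQ, ez, qz]
    rw [← h, hφ, F.nf_ez]

end UData

/-- the theorem -/
theorem iso_of_uData [IsSimpleGroup G] (D : UData G) (hpar : ∀ F : Frame D.z, F.inv = true ∧ F.eps = 0)
    (hnc : ¬ ∀ a b : G, a * b = b * a) : Nonempty (G ≃* ↥Cfsg.Spor.M12) := by
  obtain ⟨S⟩ := D.exists_setting hpar hnc
  obtain ⟨W, -⟩ := S.exists_sit
  haveI : Fact (W.cs = true) := ⟨W.cs_true⟩
  obtain ⟨f⟩ := W.iso_M12
  exact ⟨f.symm.trans x12Equiv⟩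

/-- The recognition by the element counts. -/
theorem iso_M12 (H : Hyp G) : Nonempty (G ≃* ↥Cfsg.Spor.M12) := by
  obtain ⟨D⟩ := exists_uData H
  haveI := isSimple H
  exact iso_of_uData D (D.par_eq H) (not_comm H)

end Cfsg.Lib.M12Nse
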