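import Cfsg.Agent.M12Nse.Coords
import Cfsg.Agent.M12Cent.Main

/-!
The four families of models of the centraliser, and the identification with the model of `M₁₂`.
-/

set_option autoImplicit false
set_option linter.unusedSectionVars false
set_option linter.style.haveILetI false
set_option maxRecDepth 100000

namespace Cfsg.Lib.M12Nse

open Subgroup

universe u

/-- code of the unit of the two-group -/
def q0 : Q5 := (0, 0, 0, 0, 0)
/-- code of the central involution in the two-group -/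
def qz : Q5 := (0, 0, 0, 0, 1)
/-- code of the unit -/
def e0 : E192 := (q0, 0, 0)
/-- code of the central involution -/
def ez : E192 := (qz, 0, 0)

theorem q_inv : ∀ p r : Fin 2, ∀ q : Q5, ∃ q', Par.qmul ⟨false, 0, p, r⟩ q' q = q0 := by decide +kernel

theorem q_four : ∀ p r : Fin 2, ∀ q : Q5,
    Par.qmul ⟨false, 0, p, r⟩ (Par.qmul ⟨false, 0, p, r⟩ q q) (Par.qmul ⟨false, 0, p, r⟩ q q) = q0 := by decide +kernel

set_option synthInstance.maxSize 4000 in
set_option synthInstance.maxHeartbeats 400000 in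
theorem q_noncentral : ∀ p r : Fin 2, (p ≠ 0 ∨ r ≠ 0) → ∀ q : Q5, (q.2.2.1 ≠ 0 ∨ q.2.2.2.1 ≠ 0) →
    ∃ x : Q5, Par.qmul ⟨false, 0, p, r⟩ q x = Par.qmul ⟨false, 0, p, r⟩ (Par.qmul ⟨false, 0, p, r⟩ x q) qz := by
  decide +kernel

set_option synthInstance.maxSize 4000 in
set_option synthInstance.maxHeartbeats 400000 in
theorem not_assoc : ∀ eps p r : Fin 2, (p ≠ 0 ∨ r ≠ 0) → ¬ (p = 0 ∧ r = 1) →
    Par.emul ⟨false, eps, p, r⟩ (Par.emul ⟨false, eps, p, r⟩ (q0, 0, 1) ((0, 0, 1, 0, 0), 0, 0)) ((0, 1, 0, 0, 0), 0, 0) ≠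
      Par.emul ⟨false, eps, p, r⟩ (q0, 0, 1) (Par.emul ⟨false, eps, p, r⟩ ((0, 0, 1, 0, 0), 0, 0) ((0, 1, 0, 0, 0), 0, 0)) := by
  decide +kernel

set_option synthInstance.maxSize 4000 in
set_option synthInstance.maxHeartbeats 400000 in
theorem no_eight : ∀ eps : Fin 2, ∀ x : E192,
    Par.emul ⟨false, eps, 0, 1⟩ (Par.emul ⟨false, eps, 0, 1⟩ x x) (Par.emul ⟨false, eps, 0, 1⟩ x x) ≠ ez := by
  decide +kernel

set_option synthInstance.maxSize 4000 in
set_option synthInstance.maxHeartbeats 400000 in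
theorem roots_card : ∀ p r : Fin 2, (p ≠ 0 ∨ r ≠ 0) →
    Fintype.card {x : E192 // Par.emul ⟨true, 1, p, r⟩ x x = ez} = 36 := by decide +kernel

theorem qmul_left_cancel : ∀ p r : Fin 2, ∀ a x y : Q5,
    Par.qmul ⟨false, 0, p, r⟩ a x = Par.qmul ⟨false, 0, p, r⟩ a y → x = y := by
  intro p r a x y h
  obtain ⟨i, j, k, l, e⟩ := a
  obtain ⟨i', j', k', l', e'⟩ := x
  obtain ⟨i'', j'', k'', l'', e''⟩ := y
  simp only [Par.qmul, Prod.mk.injEq, add_right_inj] at h
  obtain ⟨rfl, rfl, rfl, rfl, h⟩ := h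
  simp only [add_left_inj, add_right_inj] at h
  rw [h]

namespace Frame

variable {G : Type u} [Group G] [Finite G] {z : G} (F : Frame z)

theorem nf_e0 : F.rel.nf e0 = 1 := by simp [Rel.nf, Rel.nfQ, e0, q0]

theorem nf_ez : F.rel.nf ez = z := by simp [Rel.nf, Rel.nfQ, ez, qz]

theorem nfQ_q0 : F.rel.nfQ q0 = 1 := by simp [Rel.nfQ, q0]

include F in
theorem z_ne : z ≠ 1 := fun h => by
  have := F.indep 0 0 1 (by norm_num) (by norm_num) (by norm_num) (by simp [h])
  omega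

theorem nf_mem (x : E192) : F.rel.nf x ∈ centralizer ({z} : Set G) := by
  obtain ⟨⟨i, j, k, l, e⟩, m, n⟩ := x
  have h : ∀ {g : G}, z * g = g * z → g ∈ centralizer ({z} : Set G) := fun hg => mem_centralizer_singleton_iff.2 hg.symm
  exact mul_mem (mul_mem (mul_mem (mul_mem (mul_mem (mul_mem (pow_mem (h F.za) _) (pow_mem (h F.zb) _))
    (pow_mem (h F.rel.z_a2) _)) (pow_mem (h F.rel.z_b2) _)) (pow_mem (h rfl) _)) (pow_mem (h F.zw) _)) (pow_mem (h F.zy) _)

theorem nfQ_mem (q : Q5) : F.rel.nfQ q ∈ F.C1 := by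
  obtain ⟨i, j, k, l, e⟩ := q
  have hb2 : F.rel.b2 ∈ F.C1 := mul_mem (mul_mem F.c1w F.c1a2) (inv_mem F.c1w)
  exact mul_mem (mul_mem (mul_mem (mul_mem (pow_mem F.c1a _) (pow_mem F.c1b _)) (pow_mem F.c1a2 _))
    (pow_mem hb2 _)) (pow_mem F.c1z _)

theorem nfQ_mul (q q' : Q5) : F.rel.nfQ q * F.rel.nfQ q' = F.rel.nfQ (Par.qmul ⟨false, 0, F.p, F.r⟩ q q') :=
  (F.rel.nfQ_qmul q q').symm

theorem nfQ_eq_one {q : Q5} (h : F.rel.nfQ q = 1) : q = q0 := by
  obtain ⟨i, j, k, l, e⟩ := q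
  by_cases hkl : k ≠ 0 ∨ l ≠ 0
  · obtain ⟨x, hx⟩ := q_noncentral F.p F.r F.pr (i, j, k, l, e) hkl
    have h' := congrArg F.rel.nfQ hx
    rw [← nfQ_mul, ← nfQ_mul, ← nfQ_mul, h, one_mul, mul_one] at h'
    exact absurd (by simpa [Rel.nfQ, qz] using h') F.z_ne
  · simp only [ne_eq, not_or, not_not] at hkl
    obtain ⟨rfl, rfl⟩ := hkl
    simp only [Rel.nfQ, Fin.val_zero, pow_zero, mul_one] at h
    obtain ⟨h1, h2, h3⟩ := F.indep i.val j.val e.val i.isLt j.isLt e.isLt h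
    simp only [q0, Prod.mk.injEq, Fin.ext_iff, Fin.val_zero]
    exact ⟨h1, h2, trivial, trivial, h3⟩

theorem nf_inj : Function.Injective F.rel.nf := by
  rintro ⟨q, i, k⟩ ⟨q', i', k'⟩ h
  simp only [Rel.nf] at h
  have hy : k = k' := by
    have hm : ∀ p n, F.rel.nfQ p * F.w ^ n ∈ F.C1 := fun p n => mul_mem (F.nfQ_mem p) (pow_mem F.c1w n)
    by_contra hne
    have hsplit : ∀ m m' : Fin 2, m ≠ m' → (m = 0 ∧ m' = 1) ∨ (m = 1 ∧ m' = 0) := by decide
    rcases hsplit k k' hne with ⟨rfl, rfl⟩ | ⟨rfl, rfl⟩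
    · have : F.y = (F.rel.nfQ q' * F.w ^ i'.val)⁻¹ * (F.rel.nfQ q * F.w ^ i.val) := by
        have h' : F.rel.nfQ q * F.w ^ i.val = F.rel.nfQ q' * F.w ^ i'.val * F.y := by simpa [Frame.rel] using h
        rw [h']; group
      exact F.c1y (this ▸ mul_mem (inv_mem (hm _ _)) (hm _ _))
    · have : F.y = (F.rel.nfQ q * F.w ^ i.val)⁻¹ * (F.rel.nfQ q' * F.w ^ i'.val) := by
        have h' : F.rel.nfQ q * F.w ^ i.val * F.y = F.rel.nfQ q' * F.w ^ i'.val := by simpa [Frame.rel] using h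
        rw [← h']; group
      exact F.c1y (this ▸ mul_mem (inv_mem (hm _ _)) (hm _ _))
  subst hy
  have h1 : F.rel.nfQ q * F.w ^ i.val = F.rel.nfQ q' * F.w ^ i'.val := mul_right_cancel h
  obtain ⟨p, hp⟩ := q_inv F.p F.r q
  have hp' : F.rel.nfQ p * F.rel.nfQ q = 1 := by rw [nfQ_mul, hp, nfQ_q0]
  have h2 : F.rel.nfQ (Par.qmul ⟨false, 0, F.p, F.r⟩ p q') = F.w ^ (i - i').val := by
    have e : F.w ^ (i - i').val * F.w ^ i'.val = F.w ^ i.val := by
      refine (F.rel.w_pow_add (i - i') i').symm.trans ?_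
      rw [sub_add_cancel]; rfl
    have e2 : F.w ^ i.val = F.rel.nfQ p * F.rel.nfQ q' * F.w ^ i'.val := by
      rw [mul_assoc, ← h1, ← mul_assoc, hp', one_mul]
    rw [← nfQ_mul]
    exact mul_right_cancel (e2.symm.trans e.symm)
  have hd : i - i' = 0 := by
    have h4 := congrArg F.rel.nfQ (q_four F.p F.r (Par.qmul ⟨false, 0, F.p, F.r⟩ p q'))
    rw [← nfQ_mul, ← nfQ_mul, ← nfQ_mul, nfQ_q0, nfQ_mul, h2, ← pow_add, ← pow_add] at h4
    generalize i - i' = d at h4 ⊢
    have hw1 : F.w ≠ 1 := fun hw => by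
      have hb := F.wa
      rw [hw] at hb
      simp only [one_mul, inv_one, mul_one] at hb
      have := F.indep 1 1 0 (by norm_num) (by norm_num) (by norm_num) (by simp [← hb, F.aa])
      omega
    fin_cases d
    · rfl
    · exact absurd (by simpa [pow_succ, F.rel.w3, ← pow_add, show (F.w : G) ^ 3 = 1 from F.w3] using h4) hw1
    · exfalso
      refine hw1 ?_
      have e : F.w ^ 8 = 1 := by simpa using h4
      calc F.w = F.w ^ 9 * (F.w ^ 8)⁻¹ := by group
        _ = 1 := by rw [e, show F.w ^ 9 = (F.w ^ 3) ^ 3 from (pow_mul F.w 3 3), F.w3]; simp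
  obtain rfl : i = i' := sub_eq_zero.1 hd
  have hq : F.rel.nfQ q = F.rel.nfQ q' := mul_right_cancel h1
  obtain ⟨p', hpq⟩ := q_inv F.p F.r q'
  have hp2 : F.rel.nfQ p' * F.rel.nfQ q' = 1 := by rw [nfQ_mul, hpq, nfQ_q0]
  have hinv : ∀ {x : Q5}, F.rel.nfQ p' * F.rel.nfQ x = 1 → Par.qmul ⟨false, 0, F.p, F.r⟩ p' x = q0 := fun hx =>
    F.nfQ_eq_one (by rw [← nfQ_mul]; exact hx)
  rw [(qmul_left_cancel F.p F.r p' q q' (by rw [hinv (hq ▸ hp2 : F.rel.nfQ p' * F.rel.nfQ q = 1), hpq]))]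

theorem nf_surj {g : G} (hg : g * z = z * g) : ∃ x, F.rel.nf x = g := by
  let f : E192 → ↥(centralizer ({z} : Set G)) := fun x => ⟨F.rel.nf x, F.nf_mem x⟩
  have hf : Function.Bijective f := (Nat.bijective_iff_injective_and_card f).2
    ⟨fun x y h => F.nf_inj (congrArg Subtype.val h), by rw [F.card]; simp⟩
  obtain ⟨x, hx⟩ := hf.2 ⟨g, mem_centralizer_singleton_iff.2 hg⟩
  exact ⟨x, congrArg Subtype.val hx⟩

end Frame

section ModelM

open Cfsg.Lib.M12Cent (M tau)

/-- inverse table -/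
def tab01 : List ℕ := [0, 2, 4, 3, 5, 1, 96, 98, 100, 99, 101, 97, 150, 152, 154, 153, 155, 151, 84, 86, 88, 87, 89, 85, 54, 56, 58, 57, 59, 55, 138, 140, 142, 141, 143, 139, 180, 182, 184, 183, 185, 181, 42, 44, 46, 45, 47, 43, 186, 188, 190, 189, 191, 187, 132, 134, 136, 135, 137, 133, 102, 104, 106, 105, 107, 103, 36, 38, 40, 39, 41, 37, 90, 92, 94, 93, 95, 91, 144, 146, 148, 147, 149, 145, 6, 8, 10, 9, 11, 7, 48, 50, 52, 51, 53, 49, 126, 128, 130, 129, 131, 127, 168, 170, 172, 171, 173, 169, 66, 68, 70, 69, 71, 67, 72, 74, 76, 75, 77, 73, 30, 32, 34, 33, 35, 31, 12, 14, 16, 15, 17, 13, 162, 164, 166, 165, 167, 163, 108, 110, 112, 111, 113, 109, 156, 158, 160, 159, 161, 157, 18, 20, 22, 21, 23, 19, 24, 26, 28, 27, 29, 25, 114, 116, 118, 117, 119, 115, 60, 62, 64, 63, 65, 61, 174, 176, 178, 177, 179, 175, 120, 122, 124, 123, 125, 121, 78, 80, 82, 81, 83, 79]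

/-- inverse table -/
def tab10 : List ℕ := [0, 2, 4, 1, 3, 5, 96, 98, 100, 97, 99, 101, 126, 128, 130, 127, 129, 131, 60, 62, 64, 61, 63, 65, 30, 32, 34, 31, 33, 35, 186, 188, 190, 187, 189, 191, 156, 158, 160, 157, 159, 161, 90, 92, 94, 91, 93, 95, 162, 164, 166, 163, 165, 167, 180, 182, 184, 181, 183, 185, 102, 104, 106, 103, 105, 107, 84, 86, 88, 85, 87, 89, 66, 68, 70, 67, 69, 71, 120, 122, 124, 121, 123, 125, 6, 8, 10, 7, 9, 11, 24, 26, 28, 25, 27, 29, 174, 176, 178, 175, 177, 179, 144, 146, 148, 145, 147, 149, 42, 44, 46, 43, 45, 47, 48, 50, 52, 49, 51, 53, 78, 80, 82, 79, 81, 83, 12, 14, 16, 13, 15, 17, 138, 140, 142, 139, 141, 143, 108, 110, 112, 109, 111, 113, 132, 134, 136, 133, 135, 137, 18, 20, 22, 19, 21, 23, 72, 74, 76, 73, 75, 77, 114, 116, 118, 115, 117, 119, 36, 38, 40, 37, 39, 41, 150, 152, 154, 151, 153, 155, 168, 170, 172, 169, 171, 173, 54, 56, 58, 55, 57, 59]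

/-- inverse table -/
def tab11 : List ℕ := [0, 2, 4, 5, 1, 3, 96, 98, 100, 101, 97, 99, 174, 176, 178, 179, 175, 177, 36, 38, 40, 41, 37, 39, 78, 80, 82, 83, 79, 81, 162, 164, 166, 167, 163, 165, 132, 134, 136, 137, 133, 135, 66, 68, 70, 71, 67, 69, 138, 140, 142, 143, 139, 141, 156, 158, 160, 161, 157, 159, 102, 104, 106, 107, 103, 105, 60, 62, 64, 65, 61, 63, 42, 44, 46, 47, 43, 45, 168, 170, 172, 173, 169, 171, 6, 8, 10, 11, 7, 9, 72, 74, 76, 77, 73, 75, 150, 152, 154, 155, 151, 153, 120, 122, 124, 125, 121, 123, 90, 92, 94, 95, 91, 93, 24, 26, 28, 29, 25, 27, 54, 56, 58, 59, 55, 57, 12, 14, 16, 17, 13, 15, 186, 188, 190, 191, 187, 189, 108, 110, 112, 113, 109, 111, 180, 182, 184, 185, 181, 183, 18, 20, 22, 23, 19, 21, 48, 50, 52, 53, 49, 51, 114, 116, 118, 119, 115, 117, 84, 86, 88, 89, 85, 87, 126, 128, 130, 131, 127, 129, 144, 146, 148, 149, 145, 147, 30, 32, 34, 35, 31, 33]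

/-- a code from a number -/
def decE (n : ℕ) : E192 :=
  ((Fin.ofNat 2 (n / 6), Fin.ofNat 2 (n / 12), Fin.ofNat 2 (n / 24), Fin.ofNat 2 (n / 48), Fin.ofNat 2 (n / 96)),
    Fin.ofNat 3 (n / 2), Fin.ofNat 2 n)

set_option synthInstance.maxSize 4000 in
set_option synthInstance.maxHeartbeats 400000 in
/-- the model relations -/
def relM01 : Rel M tau ⟨true, 0, 0, 1⟩ :=
  ⟨M.mk 84, M.mk 126, M.mk 1, M.mk 5, M.mk 156, by decide +kernel, by decide +kernel, by decide +kernel,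
    by decide +kernel, by decide +kernel, by decide +kernel, by decide +kernel, by decide +kernel, by decide +kernel,
    by decide +kernel, by decide +kernel, by decide +kernel, by decide +kernel, by decide +kernel, by decide +kernel,
    by decide +kernel, by decide +kernel⟩

theorem relM01_surj : ∀ g : M, relM01.nf (decE (tab01.getD g.val 0)) = g := by decide +kernel

set_option synthInstance.maxSize 4000 in
set_option synthInstance.maxHeartbeats 400000 in
/-- the model relations -/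
def relM10 : Rel M tau ⟨true, 0, 1, 0⟩ :=
  ⟨M.mk 84, M.mk 126, M.mk 1, M.mk 3, M.mk 90, by decide +kernel, by decide +kernel, by decide +kernel,
    by decide +kernel, by decide +kernel, by decide +kernel, by decide +kernel, by decide +kernel, by decide +kernel,
    by decide +kernel, by decide +kernel, by decide +kernel, by decide +kernel, by decide +kernel, by decide +kernel,
    by decide +kernel, by decide +kernel⟩

theorem relM10_surj : ∀ g : M, relM10.nf (decE (tab10.getD g.val 0)) = g := by decide +kernel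

set_option synthInstance.maxSize 4000 in
set_option synthInstance.maxHeartbeats 400000 in
/-- the model relations -/
def relM11 : Rel M tau ⟨true, 0, 1, 1⟩ :=
  ⟨M.mk 84, M.mk 126, M.mk 1, M.mk 4, M.mk 114, by decide +kernel, by decide +kernel, by decide +kernel,
    by decide +kernel, by decide +kernel, by decide +kernel, by decide +kernel, by decide +kernel, by decide +kernel,
    by decide +kernel, by decide +kernel, by decide +kernel, by decide +kernel, by decide +kernel, by decide +kernel,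
    by decide +kernel, by decide +kernel⟩

theorem relM11_surj : ∀ g : M, relM11.nf (decE (tab11.getD g.val 0)) = g := by decide +kernel

theorem exists_relM {p r : Fin 2} (h : p ≠ 0 ∨ r ≠ 0) :
    ∃ RM : Rel M tau ⟨true, 0, p, r⟩, Function.Bijective RM.nf := by
  have key : ∀ {P : Par} (RM : Rel M tau P) (f : M → E192), (∀ g, RM.nf (f g) = g) → Function.Bijective RM.nf :=
    fun RM f hf => (Nat.bijective_iff_surjective_and_card RM.nf).2
      ⟨fun g => ⟨f g, hf g⟩, by rw [Cfsg.Lib.M12Cent.card_M]; simp⟩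
  fin_cases p <;> fin_cases r
  · simp at h
  · exact ⟨relM01, key _ _ relM01_surj⟩
  · exact ⟨relM10, key _ _ relM10_surj⟩
  · exact ⟨relM11, key _ _ relM11_surj⟩

/-- two presentations by the same relations give a homomorphism of the model -/
theorem exists_hom {G : Type u} [Group G] {z : G} {P : Par} (R : Rel G z P) (RM : Rel M tau P)
    (hM : Function.Bijective RM.nf) : ∃ φ : M →* G, ∀ x : E192, φ (RM.nf x) = R.nf x := by
  obtain ⟨s, hs⟩ : ∃ s : M → E192, ∀ m, RM.nf (s m) = m := ⟨fun m => (hM.2 m).choose, fun m => (hM.2 m).choose_spec⟩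
  refine ⟨MonoidHom.mk' (fun m => R.nf (s m)) fun m m' => ?_, fun x => ?_⟩
  · rw [← R.nf_emul, show s (m * m') = P.emul (s m) (s m') from hM.1 (by rw [RM.nf_emul, hs, hs, hs])]
  · show R.nf (s (RM.nf x)) = R.nf x
    rw [show s (RM.nf x) = x from hM.1 (hs _)]

end ModelM

end Cfsg.Lib.M12Nse
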