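import Cfsg.Agent.M12Nse.Facts

/-!
The elements of orders eleven and five in a group with the counts of the Mathieu group of degree twelve.
-/

set_option autoImplicit false
set_option linter.unusedSectionVars false
set_option linter.style.haveILetI false

namespace Cfsg.Lib.M12Nse

open Subgroup Cfsg.Lib.SameOrder Cfsg.Lib.Small Cfsg.Lib.MathieuEleven

universe u

variable {G : Type u} [Group G] [Finite G] (H : Hyp G)

local instance fact_eleven_nse : Fact (Nat.Prime 11) := ⟨by norm_num⟩
local instance fact_five_nse : Fact (Nat.Prime 5) := ⟨by norm_num⟩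

include H

theorem card_sylow_eleven (P : Sylow 11 G) : Nat.card ↥(P : Subgroup G) = 11 := by
  simpa using card_sylow_of_factor P (a := 1) (m := 8640) (by rw [H.card]; norm_num) (by norm_num)

theorem card_sylow_five (P : Sylow 5 G) : Nat.card ↥(P : Subgroup G) = 5 := by
  simpa using card_sylow_of_factor P (a := 1) (m := 19008) (by rw [H.card]; norm_num) (by norm_num)

theorem cnt_pos_of_prime {p : ℕ} (hp : p.Prime) (hd : p ∣ 95040) : cnt G p ≠ 0 :=
  cnt_prime_ne_zero hp (H.card.symm ▸ hd)

theorem n_eleven : Nat.card (Sylow 11 G) = 1728 := by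
  obtain ⟨P⟩ : Nonempty (Sylow 11 G) := Sylow.nonempty
  obtain ⟨-, hm⟩ := sylow_facts P (a := 1) (m := 8640) (by rw [H.card]; norm_num) (by norm_num)
  have hc := cnt_prime (card_sylow_eleven H)
  have hne := cnt_pos_of_prime H (p := 11) (by norm_num) (by norm_num)
  have hv := H.mem 11
  simp only [nseVals, List.mem_cons, List.not_mem_nil, or_false] at hv
  omega

theorem card_normalizer_eleven (P : Sylow 11 G) : Nat.card ↥(normalizer ((P : Subgroup G) : Set G)) = 55 := by
  have h := card_normalizer_mul P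
  rw [n_eleven H, H.card] at h
  omega

theorem cent_eleven {x : G} (hx : orderOf x = 11) : Nat.card ↥(centralizer ({x} : Set G)) = 11 := by
  obtain ⟨P, hP⟩ := exists_sylow_zpowers (card_sylow_eleven H) hx
  set C := centralizer ({x} : Set G)
  have hle : C ≤ normalizer (zpowers x : Set G) := fun c hc => mem_normalizer_zpowers (by
    rw [mem_centralizer_singleton_iff.1 hc, mul_inv_cancel_right]
    exact mem_zpowers x)
  have hd : Nat.card ↥C ∣ 55 := by
    have := card_normalizer_eleven H P
    rw [hP] at this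
    exact this ▸ Subgroup.card_dvd_of_le hle
  have h11 : 11 ∣ Nat.card ↥C := hx ▸ dvd_centralizer_orderOf rfl
  have : ∀ j ∈ Nat.divisors 55, 11 ∣ j → j = 11 ∨ j = 55 := by decide +kernel
  refine (this _ (Nat.mem_divisors.2 ⟨hd, by norm_num⟩) h11).resolve_right fun h55 => ?_
  obtain ⟨⟨q, hq⟩, hqo⟩ := exists_prime_orderOf_dvd_card' (G := ↥C) 5 (by rw [h55]; norm_num)
  rw [← Subgroup.orderOf_coe] at hqo
  change orderOf q = 5 at hqo
  have hcomm : Commute x q := (mem_centralizer_singleton_iff.1 hq).symm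
  have hg : orderOf (x * q) = 55 := by
    rw [hcomm.orderOf_mul_eq_mul_orderOf_of_coprime (by rw [hx, hqo]; norm_num), hx, hqo]
  have : IsCyclic ↥C := isCyclic_of_orderOf_eq_card
    ⟨x * q, C.mul_mem (mem_centralizer_singleton_iff.2 rfl) hq⟩ (by rw [Subgroup.orderOf_mk, hg, h55])
  classical
  have := Fintype.ofFinite ↥C
  have h40 : {a ∈ {g : G | orderOf g = 55} | x * a = a * x}.ncard = 40 := by
    have e : {a ∈ {g : G | orderOf g = 55} | x * a = a * x} =
        Subtype.val '' ((Finset.univ.filter fun a : ↥C => orderOf a = 55 : Finset ↥C) : Set ↥C) := by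
      ext a
      simp only [Set.mem_ofPred_eq, Finset.coe_filter, Finset.mem_univ, true_and, Set.mem_image]
      constructor
      · rintro ⟨h1, h2⟩
        exact ⟨⟨a, mem_centralizer_singleton_iff.2 h2.symm⟩, by rw [Subgroup.orderOf_mk, h1], rfl⟩
      · rintro ⟨⟨b, hb⟩, h1, rfl⟩
        exact ⟨by rwa [Subgroup.orderOf_mk] at h1, (mem_centralizer_singleton_iff.1 hb).symm⟩
    rw [e, Set.ncard_image_of_injective _ Subtype.val_injective, Set.ncard_coe_finset,
      IsCyclic.card_orderOf_eq_totient (by rw [← Nat.card_eq_fintype_card, h55])]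
    decide +kernel
  have hmod := ncard_conj_mod (p := 11) (x := x) (k := 1) (by rw [pow_one, ← hx, pow_orderOf_eq_one])
    (s := {g : G | orderOf g = 55}) fun a ha => by
      show orderOf (x * a * x⁻¹) = 55
      rw [← MulAut.conj_apply, MulEquiv.orderOf_eq]
      exact ha
  rw [h40, ← Nat.card_coe_set_eq] at hmod
  change cnt G 55 % 11 = 40 % 11 at hmod
  have hv := H.mem 55
  simp only [nseVals, List.mem_cons, List.not_mem_nil, or_false] at hv
  omega

/-- Outside the orders one and eleven the counts are multiples of eleven. -/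
theorem cnt_vals {n : ℕ} (h1 : n ≠ 1) (h11 : n ≠ 11) :
    cnt G n ∈ ([0, 891, 4400, 5940, 9504, 23760] : List ℕ) := by
  obtain ⟨x, hx⟩ := exists_prime_orderOf_dvd_card' (G := G) 11 (by rw [H.card]; norm_num)
  have hd : 11 ∣ cnt G n := by
    have h : 11 ∣ {g : G | orderOf g = n}.ncard := by
      refine dvd_ncard_conj (x := x) (k := 1) (by rw [pow_one, ← hx, pow_orderOf_eq_one]) ?_ ?_
      · intro a ha
        show orderOf (x * a * x⁻¹) = n
        rw [← MulAut.conj_apply, MulEquiv.orderOf_eq]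
        exact ha
      · intro a (ha : orderOf a = n) hc
        have hd : n ∣ 11 := ha ▸ cent_eleven H hx ▸ dvd_centralizer_orderOf hc.symm
        rcases (Nat.dvd_prime (by norm_num)).1 hd with e | e
        exacts [h1 e, h11 e]
    rwa [← Nat.card_coe_set_eq] at h
  have hv := H.mem n
  simp only [nseVals, List.mem_cons, List.not_mem_nil, or_false] at hv ⊢
  omega

theorem cnt_eleven : cnt G 11 = 17280 := by
  rw [cnt_prime (card_sylow_eleven H), n_eleven H]

theorem orderOf_of_eleven_dvd {g : G} (h : 11 ∣ orderOf g) : orderOf g = 11 := by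
  have hg : 0 < orderOf g := orderOf_pos g
  set x := g ^ (orderOf g / 11) with hxd
  have hx : orderOf x = 11 := orderOf_pow_orderOf_div hg.ne' h
  have hc : g * x = x * g := (Commute.self_pow g _).eq
  have hd : orderOf g ∣ 11 := cent_eleven H hx ▸ dvd_centralizer_orderOf hc
  exact Nat.dvd_antisymm hd h

/-- No non-trivial normal subgroup has order prime to eleven. -/
theorem no_invariant (K : Subgroup G) [K.Normal] (hK : ¬ 11 ∣ Nat.card ↥K) : K = ⊥ := by
  by_contra hbot
  have hK1 : Nat.card ↥K ≠ 1 := fun e => hbot (Subgroup.card_eq_one.1 e)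
  set q := (Nat.card ↥K).minFac with hq
  have hqp : q.Prime := Nat.minFac_prime hK1
  have : Fact q.Prime := ⟨hqp⟩
  obtain ⟨R⟩ : Nonempty (Sylow q ↥K) := Sylow.nonempty
  obtain ⟨k, hk⟩ := R.2.exists_card_eq
  have hk1 : k ≠ 0 := fun e => by
    have h := R.dvd_card_of_dvd_card (Nat.minFac_dvd (Nat.card ↥K))
    rw [hk, e, pow_zero, Nat.dvd_one] at h
    exact hqp.one_lt.ne' h
  set A := (R : Subgroup ↥K).map K.subtype with hA
  have hAc : Nat.card ↥A = q ^ k := by rw [hA, Subgroup.card_map_of_injective K.subtype_injective, hk]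
  have h11i : 11 ∣ K.index := by
    have h : 11 ∣ Nat.card ↥K * K.index := by rw [Subgroup.card_mul_index, H.card]; norm_num
    exact ((Nat.Prime.dvd_mul (by norm_num)).1 h).resolve_left hK
  have hidx : K.index ∣ Nat.card ↥(normalizer (A : Set G)) := by
    rw [← Subgroup.relIndex_top_right, ← Sylow.normalizer_sup_eq_top R, Subgroup.relIndex_sup_right]
    exact Subgroup.relIndex_dvd_card K _
  obtain ⟨⟨x, hx⟩, hxo⟩ := exists_prime_orderOf_dvd_card' 11 (h11i.trans hidx)
  rw [← Subgroup.orderOf_coe] at hxo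
  change orderOf x = 11 at hxo
  have hA11 : ¬ 11 ∣ Nat.card ↥A := fun h =>
    hK (h.trans (by rw [hA, Subgroup.card_map_of_injective K.subtype_injective]
                    exact (R : Subgroup ↥K).card_subgroup_dvd_card))
  have hdvd : 11 ∣ ((A : Set G) \ {1}).ncard := by
    refine dvd_ncard_conj (x := x) (k := 1) (by rw [pow_one, ← hxo, pow_orderOf_eq_one]) ?_ ?_
    · rintro a ⟨ha, ha1⟩
      exact ⟨(Subgroup.mem_normalizer_iff.1 hx a).1 ha, fun e => ha1 (by simpa using e)⟩
    · rintro a ⟨ha, ha1⟩ hc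
      have hd : orderOf a ∣ 11 := cent_eleven H hxo ▸ dvd_centralizer_orderOf hc.symm
      rcases (Nat.dvd_prime (by norm_num)).1 hd with e | e
      · exact ha1 (orderOf_eq_one_iff.1 e)
      · exact hA11 (e ▸ Subgroup.orderOf_dvd_natCard _ ha)
  rw [Set.ncard_sdiff (Set.singleton_subset_iff.2 A.one_mem), Set.ncard_singleton,
    show (A : Set G).ncard = q ^ k from (Nat.card_coe_set_eq _).symm.trans hAc] at hdvd
  have hd : q ^ k ∣ 8640 := by
    have h : q ^ k ∣ 95040 := hAc ▸ H.card ▸ Subgroup.card_subgroup_dvd_card A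
    have hc : Nat.Coprime (q ^ k) 11 :=
      ((Nat.Prime.coprime_iff_not_dvd (by norm_num : Nat.Prime 11)).2 (hAc ▸ hA11)).symm
    exact hc.dvd_of_dvd_mul_right (show q ^ k ∣ 8640 * 11 from h)
  have hqd : q ∈ Nat.primeFactors 8640 :=
    Nat.mem_primeFactors.2 ⟨hqp, (dvd_pow_self q hk1).trans hd, by norm_num⟩
  have hpf : ∀ r ∈ Nat.primeFactors 8640, r = 2 ∨ r = 3 ∨ r = 5 := by
    intro r hr
    obtain ⟨hrp, hrd, -⟩ := Nat.mem_primeFactors.1 hr
    rw [show (8640 : ℕ) = 2 ^ 6 * 3 ^ 3 * 5 by norm_num] at hrd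
    rcases (Nat.Prime.dvd_mul hrp).1 hrd with h | h
    · rcases (Nat.Prime.dvd_mul hrp).1 h with h | h
      · exact Or.inl ((Nat.prime_dvd_prime_iff_eq hrp Nat.prime_two).1 (hrp.dvd_of_dvd_pow h))
      · exact Or.inr (Or.inl ((Nat.prime_dvd_prime_iff_eq hrp Nat.prime_three).1 (hrp.dvd_of_dvd_pow h)))
    · exact Or.inr (Or.inr ((Nat.prime_dvd_prime_iff_eq hrp (by norm_num)).1 h))
  have hk14 : k < 14 := by
    by_contra hlt
    have h1 : 2 ^ k ≤ q ^ k := Nat.pow_le_pow_left hqp.two_le k
    have h2 : (2 : ℕ) ^ 14 ≤ 2 ^ k := Nat.pow_le_pow_right (by norm_num) (by omega)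
    have h3 := Nat.le_of_dvd (by norm_num) hd
    omega
  have hall : ∀ q ∈ [2, 3, 5], ∀ k : Fin 14, k.val ≠ 0 → q ^ k.val ∣ 8640 → ¬ 11 ∣ q ^ k.val - 1 := by
    decide +kernel
  exact hall q (by rcases hpf q hqd with h | h | h <;> simp [h]) ⟨k, hk14⟩ hk1 hd hdvd

theorem isSimple : IsSimpleGroup G := by
  have : Nontrivial G := Finite.one_lt_card_iff_nontrivial.1 (by rw [H.card]; norm_num)
  refine ⟨fun N hN => ?_⟩
  by_cases h11 : 11 ∣ Nat.card ↥N
  swap
  · exact Or.inl (no_invariant H N h11)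
  refine Or.inr ?_
  obtain ⟨P⟩ : Nonempty (Sylow 11 ↥N) := Sylow.nonempty
  have hNd : Nat.card ↥N * N.index = 95040 := by rw [Subgroup.card_mul_index, H.card]
  have hP11 : Nat.card ↥(P : Subgroup ↥N) = 11 := by
    obtain ⟨m, hm⟩ := h11
    have hm11 : ¬ 11 ∣ m := fun hd => by
      have : 11 * 11 ∣ 95040 := hNd ▸ Dvd.dvd.mul_right (hm ▸ Nat.mul_dvd_mul_left 11 hd) _
      omega
    simpa using card_sylow_of_factor P (a := 1) (m := m) (by rw [hm, pow_one]) hm11
  set A := (P : Subgroup ↥N).map N.subtype with hA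
  have hAc : Nat.card ↥A = 11 := by rw [hA, Subgroup.card_map_of_injective N.subtype_injective, hP11]
  obtain ⟨x, hx⟩ := exists_prime_orderOf_dvd_card' (G := ↥A) 11 (by rw [hAc])
  rw [← Subgroup.orderOf_coe] at hx
  have hAx : A = zpowers (x : G) := (Subgroup.eq_of_le_of_card_ge (zpowers_le.2 x.2)
    (by rw [hAc, Nat.card_zpowers, hx])).symm
  obtain ⟨P', hP'⟩ := exists_sylow_zpowers (card_sylow_eleven H) hx
  have hN55 : Nat.card ↥(normalizer (A : Set G)) = 55 := by
    rw [hAx, ← hP']; exact card_normalizer_eleven H P'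
  have hidx : N.index ∣ 55 := by
    have hh : N.index ∣ Nat.card ↥(normalizer (A : Set G)) := by
      rw [← Subgroup.relIndex_top_right, ← Sylow.normalizer_sup_eq_top P, Subgroup.relIndex_sup_right]
      exact Subgroup.relIndex_dvd_card N _
    rwa [hN55] at hh
  by_cases hi : N.index = 1
  · exact Subgroup.index_eq_one.1 hi
  exfalso
  have h5 : N.index = 5 := by
    have : ∀ j ∈ Nat.divisors 55, j = 1 ∨ j = 5 ∨ 11 ∣ j := by decide +kernel
    rcases this _ (Nat.mem_divisors.2 ⟨hidx, by norm_num⟩) with h | h | ⟨i, hi'⟩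
    · exact absurd h hi
    · exact h
    · obtain ⟨m, hm⟩ := h11
      rw [hm, hi', show 11 * m * (11 * i) = 121 * (m * i) by ring] at hNd
      omega
  have hN : Nat.card ↥N = 19008 := by rw [h5] at hNd; omega
  have hPC : normalizer ((P : Subgroup ↥N) : Set ↥N) ≤ centralizer ((P : Subgroup ↥N) : Set ↥N) := by
    have d2 := Subgroup.card_subgroup_dvd_card (normalizer ((P : Subgroup ↥N) : Set ↥N))
    have hle : (normalizer ((P : Subgroup ↥N) : Set ↥N)).map N.subtype ≤ normalizer (A : Set G) :=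
      Subgroup.le_normalizer_map N.subtype
    have d1 := Subgroup.card_dvd_of_le hle
    rw [Subgroup.card_map_of_injective N.subtype_injective, hN55] at d1
    rw [hN] at d2
    have d3 : 11 ∣ Nat.card ↥(normalizer ((P : Subgroup ↥N) : Set ↥N)) :=
      hP11.symm.dvd.trans (Subgroup.card_dvd_of_le Subgroup.le_normalizer)
    have : ∀ j ∈ Nat.divisors 55, j ∣ 19008 → 11 ∣ j → j = 11 := by decide +kernel
    have hM := this _ (Nat.mem_divisors.2 ⟨d1, by norm_num⟩) d2 d3
    rw [← Subgroup.eq_of_le_of_card_ge (Subgroup.le_normalizer (H := (P : Subgroup ↥N))) (by rw [hM, hP11])]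
    have : IsCyclic ↥(P : Subgroup ↥N) := isCyclic_of_prime_card hP11
    exact fun a ha => mem_centralizer_iff.2 fun b hb =>
      congrArg Subtype.val ((IsCyclic.commutative (α := ↥(P : Subgroup ↥N))).is_comm.comm ⟨b, hb⟩ ⟨a, ha⟩)
  obtain ⟨K, hKn, hKc, hKmem⟩ := Cfsg.Lib.MathieuEleven.exists_complement P hPC
  rw [hP11, hN] at hKc
  set K' := K.map N.subtype with hK'
  have hK'c : Nat.card ↥K' = 1728 := by
    rw [hK', Subgroup.card_map_of_injective N.subtype_injective]; omega
  have : K'.Normal := ⟨fun a ha g => by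
    obtain ⟨b, hb, rfl⟩ := ha
    refine ⟨⟨g * (b : G) * g⁻¹, ‹N.Normal›.conj_mem _ b.2 g⟩, hKmem _ ?_, rfl⟩
    rw [← Subgroup.orderOf_coe]
    show (orderOf (g * (b : G) * g⁻¹)).Coprime 11
    rw [← MulAut.conj_apply, MulEquiv.orderOf_eq, Subgroup.orderOf_coe]
    have hd := Subgroup.orderOf_dvd_natCard K hb
    rw [show Nat.card ↥K = 1728 by omega] at hd
    exact Nat.Coprime.coprime_dvd_left hd (by norm_num)⟩
  have := no_invariant H K' (by rw [hK'c]; norm_num)
  rw [this, Subgroup.card_bot] at hK'c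
  omega

theorem not_comm : ¬ ∀ a b : G, a * b = b * a := by
  haveI := isSimple H
  exact not_comm_of_isSimple (by rw [H.card]; norm_num)

theorem cnt_two : cnt G 2 = 891 := by
  have hne := cnt_pos_of_prime H Nat.prime_two (by norm_num)
  have hz := dvd_sum_divisors (G := G) (n := 2) (by rw [H.card]; norm_num)
  rw [show Nat.divisors 2 = {1, 2} by decide +kernel, Finset.sum_pair (by norm_num), cnt_one] at hz
  have hv := cnt_vals H (n := 2) (by norm_num) (by norm_num)
  simp only [List.mem_cons, List.not_mem_nil, or_false] at hv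
  omega

theorem cnt_three : cnt G 3 = 4400 := by
  have hne := cnt_pos_of_prime H Nat.prime_three (by norm_num)
  have hz := dvd_sum_divisors (G := G) (n := 3) (by rw [H.card]; norm_num)
  rw [show Nat.divisors 3 = {1, 3} by decide +kernel, Finset.sum_pair (by norm_num), cnt_one] at hz
  have hv := cnt_vals H (n := 3) (by norm_num) (by norm_num)
  simp only [List.mem_cons, List.not_mem_nil, or_false] at hv
  omega

theorem cnt_five : cnt G 5 = 9504 := by
  have hne := cnt_pos_of_prime H (p := 5) (by norm_num) (by norm_num)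
  have hz := dvd_sum_divisors (G := G) (n := 5) (by rw [H.card]; norm_num)
  rw [show Nat.divisors 5 = {1, 5} by decide +kernel, Finset.sum_pair (by norm_num), cnt_one] at hz
  have hv := cnt_vals H (n := 5) (by norm_num) (by norm_num)
  simp only [List.mem_cons, List.not_mem_nil, or_false] at hv
  omega

theorem n_five : Nat.card (Sylow 5 G) = 2376 := by
  have h := cnt_prime (card_sylow_five H)
  rw [cnt_five H] at h
  omega

theorem card_normalizer_five (P : Sylow 5 G) : Nat.card ↥(normalizer ((P : Subgroup G) : Set G)) = 40 := by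
  have h := card_normalizer_mul P
  rw [n_five H, H.card] at h
  omega

end Cfsg.Lib.M12Nse
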