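import Cfsg.Agent.M12Nse.Invol

/-!
Products of two conjugate involutions with a large centraliser.
-/

set_option autoImplicit false
set_option linter.unusedSectionVars false
set_option linter.style.haveILetI false
set_option maxRecDepth 100000

namespace Cfsg.Lib.M12Nse

open Subgroup Cfsg.Lib.SameOrder Cfsg.Lib.Small Cfsg.Lib.MathieuEleven

universe u

variable {G : Type u} [Group G] [Finite G]

local instance fact_five_prod : Fact (Nat.Prime 5) := ⟨by norm_num⟩
local instance fact_two_prod : Fact (Nat.Prime 2) := ⟨Nat.prime_two⟩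

/-- The subgroup commuting with two involutions and the first involution. -/
theorem two_mul_dvd {v : G} (hv : v * v = 1) (C K : Subgroup G) (hK : K ≤ C) (hvC : v ∈ C) (hvK : v ∉ K)
    (hc : ∀ k ∈ K, k * v = v * k) : 2 * Nat.card ↥K ∣ Nat.card ↥C := by
  have hvi : v⁻¹ = v := inv_eq_of_mul_eq_one_right hv
  let L : Subgroup G :=
    { carrier := {x | x ∈ K ∨ v * x ∈ K}
      one_mem' := Or.inl K.one_mem
      mul_mem' := fun {x y} hx hy => by
        rcases hx with hx | hx <;> rcases hy with hy | hy
        · exact Or.inl (K.mul_mem hx hy)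
        · refine Or.inr ?_
          rw [← mul_assoc, ← hc x hx, mul_assoc]; exact K.mul_mem hx hy
        · refine Or.inr ?_
          rw [← mul_assoc]; exact K.mul_mem hx hy
        · refine Or.inl ?_
          have h := K.mul_mem hx hy
          rwa [← mul_assoc, hc _ hx, ← mul_assoc, hv, one_mul] at h
      inv_mem' := fun {x} hx => by
        rcases hx with hx | hx
        · exact Or.inl (K.inv_mem hx)
        · refine Or.inr ?_
          have h := K.inv_mem hx
          rw [mul_inv_rev, hvi] at h
          have h2 := hc _ h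
          rw [mul_assoc, hv, mul_one] at h2
          have h3 : v * (x⁻¹) = x⁻¹ * v := by
            calc v * x⁻¹ = v * (v * (x⁻¹ * v)) := by rw [← h2]
              _ = x⁻¹ * v := by rw [← mul_assoc, hv, one_mul]
          rwa [h3] }
  have hKL : K ≤ L := fun x hx => Or.inl hx
  have hLC : L ≤ C := by
    rintro x (hx | hx)
    · exact hK hx
    · have := C.mul_mem (C.inv_mem hvC) (hK hx)
      rwa [inv_mul_cancel_left] at this
  refine dvd_trans ?_ (Subgroup.card_dvd_of_le hLC)
  have e : Nat.card ↥L = 2 * Nat.card ↥K := by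
    have hset : (L : Set G) = (K : Set G) ∪ (fun x => v * x) '' (K : Set G) := by
      ext x
      constructor
      · rintro (hx | hx)
        · exact Or.inl hx
        · exact Or.inr ⟨v * x, hx, by simp only; rw [← mul_assoc, hv, one_mul]⟩
      · rintro (hx | ⟨y, hy, rfl⟩)
        · exact Or.inl hx
        · exact Or.inr (by rw [← mul_assoc, hv, one_mul]; exact hy)
    rw [← SetLike.coe_sort_coe L, Nat.card_coe_set_eq, hset, Set.ncard_union_eq ?_ (Set.toFinite _) (Set.toFinite _),
      Set.ncard_image_of_injective _ (mul_right_injective v), ← Nat.card_coe_set_eq, SetLike.coe_sort_coe, two_mul]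
    rw [Set.disjoint_left]
    rintro _ hx ⟨y, hy, rfl⟩
    have := K.mul_mem hx (K.inv_mem hy)
    rw [mul_inv_cancel_right] at this
    exact hvK this
  rw [e]

/-- Two involutions with product of order a power of two generate such a product. -/
theorem commute_of_order_le_two {v x : G} (hv : v * v = 1) (hx : x * x = 1) (h : orderOf (v * x) ∣ 2) :
    v * x = x * v := by
  have h1 : (v * x) ^ 2 = 1 := orderOf_dvd_iff_pow_eq_one.1 h
  rw [pow_two, mul_eq_one_iff_eq_inv, mul_inv_rev, inv_eq_of_mul_eq_one_right hv, inv_eq_of_mul_eq_one_right hx] at h1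
  exact h1

variable (H : Hyp G)

include H

/-- If the centraliser is large, two non-commuting conjugates have product of order three or six. -/
theorem product_order {v : G} (hv : orderOf v = 2) (hC : Nat.card ↥(centralizer ({v} : Set G)) = 1440 ∨
    Nat.card ↥(centralizer ({v} : Set G)) = 8640) {x : G} (hx : IsConj v x) (hne : v * x ≠ x * v) :
    orderOf (v * x) = 3 ∨ orderOf (v * x) = 6 := by
  obtain ⟨hvv, -⟩ := two_iff.1 hv
  obtain ⟨hxx, -⟩ := two_iff.1 (conj_two hx hv)
  set C := centralizer ({v} : Set G) with hCd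
  set K := C ⊓ centralizer ({x} : Set G) with hKd
  set p := v * x with hp
  have hn2 : ¬ orderOf p ∣ 2 := fun h => hne (commute_of_order_le_two hvv hxx h)
  have hKv : ∀ k ∈ K, k * v = v * k := fun k hk => mem_centralizer_singleton_iff.1 hk.1
  have hKx : ∀ k ∈ K, k * x = x * k := fun k hk => mem_centralizer_singleton_iff.1 hk.2
  have hKp : ∀ k ∈ K, Commute k p := fun k hk => (show Commute k v from hKv k hk).mul_right (hKx k hk)
  have hvK : v ∉ K := fun h => hne (hKx v h)
  have hvC : v ∈ C := mem_centralizer_singleton_iff.2 rfl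
  have hconj : v * p * v⁻¹ = p⁻¹ := by
    rw [hp, mul_inv_rev, inv_eq_of_mul_eq_one_right hvv, inv_eq_of_mul_eq_one_right hxx, ← mul_assoc v v x, hvv,
      one_mul]
  -- the orbit bound
  have horb := ncard_conj_orbit C x
  have hsub : (Set.range fun k : C => (k : G) * x * (k : G)⁻¹).ncard < Nat.card {y : G // IsConj v y} := by
    rw [show Nat.card {y : G // IsConj v y} = {y : G | IsConj v y}.ncard from Nat.card_coe_set_eq _]
    refine Set.ncard_lt_ncard ⟨?_, fun hs => ?_⟩ (Set.toFinite _)
    · rintro _ ⟨k, rfl⟩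
      exact hx.trans (isConj_iff.2 ⟨k, rfl⟩)
    · obtain ⟨⟨k, hk⟩, hkv⟩ := hs (show IsConj v v from IsConj.refl v)
      refine hne ?_
      have hk' : k * v = v * k := mem_centralizer_singleton_iff.1 hk
      have hkv' : k * x * k⁻¹ = v := hkv
      have : x = v := by
        calc x = k⁻¹ * (k * x * k⁻¹) * k := by group
          _ = k⁻¹ * v * k := by rw [hkv']
          _ = k⁻¹ * (v * k) := by group
          _ = k⁻¹ * (k * v) := by rw [hk']
          _ = v := by group
      rw [hp, this]
  have hmul := card_isConj_mul v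
  rw [H.card] at hmul
  rw [← hCd] at hmul
  rw [← hKd] at horb
  set o := (Set.range fun k : C => (k : G) * x * (k : G)⁻¹).ncard
  set c := Nat.card {y : G // IsConj v y}
  set K' := Nat.card ↥K
  have hKpos : 0 < K' := Nat.card_pos
  -- small intersections are impossible
  have hbig : K' ≤ 2 → False := fun hle => by
    rcases hC with e | e <;> rw [e] at horb hmul <;>
      rcases (show K' = 1 ∨ K' = 2 by omega) with e' | e' <;> rw [e'] at horb <;> omega
  have hmem := order_mem H p
  simp only [List.mem_cons, List.not_mem_nil, or_false] at hmem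
  by_contra hno
  have hcases : orderOf p = 4 ∨ orderOf p = 5 ∨ orderOf p = 8 ∨ orderOf p = 10 ∨ orderOf p = 11 := by
    have h1 : orderOf p ≠ 1 := fun e => hn2 (e ▸ one_dvd 2)
    have h2 : orderOf p ≠ 2 := fun e => hn2 (e ▸ dvd_rfl)
    omega
  by_cases h11 : orderOf p = 11
  · refine hbig ?_
    have hle : K ≤ centralizer ({p} : Set G) := fun k hk => mem_centralizer_singleton_iff.2 (hKp k hk).eq
    have hd := cent_eleven H h11 ▸ Subgroup.card_dvd_of_le hle
    have hd' := Subgroup.card_dvd_of_le (show K ≤ C from inf_le_left)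
    have : K' ∣ Nat.gcd 11 (Nat.card ↥C) := Nat.dvd_gcd hd hd'
    rcases hC with e | e <;> rw [e] at this <;> norm_num at this <;> omega
  by_cases h5 : 5 ∣ orderOf p
  · refine hbig ?_
    set y := p ^ (orderOf p / 5)
    have hy : orderOf y = 5 := orderOf_pow_orderOf_div (orderOf_pos p).ne' h5
    have hle : K ≤ centralizer ({y} : Set G) := fun k hk => mem_centralizer_singleton_iff.2 ((hKp k hk).pow_right _).eq
    have hd : K' ∣ 10 := (cent_five H hy).1 ▸ Subgroup.card_dvd_of_le hle
    have hn5 : ¬ 5 ∣ K' := fun h => by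
      obtain ⟨⟨k, hk⟩, hko⟩ := exists_prime_orderOf_dvd_card' (G := ↥K) 5 h
      rw [← Subgroup.orderOf_coe] at hko
      change orderOf k = 5 at hko
      obtain ⟨P, hP⟩ := exists_sylow_zpowers (card_sylow_five H) hy
      have hin : k ∈ zpowers y := by
        by_contra hout
        have hmax : Nat.card ↥(zpowers k) * Nat.card ↥(zpowers y) ∣ Nat.card ↥(centralizer ({y} : Set G)) := by
          have hsy : zpowers y ≤ centralizer ({y} : Set G) := zpowers_le.2 (mem_centralizer_singleton_iff.2 rfl)
          have hsk : zpowers k ≤ normalizer (zpowers y : Set G) := zpowers_le.2 (mem_normalizer_zpowers (by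
            rw [((hKp k hk).pow_right _).eq, mul_inv_cancel_right]; exact mem_zpowers y))
          have hPk : IsPGroup 5 ↥(zpowers k) := IsPGroup.of_card (n := 1) (by rw [Nat.card_zpowers, hko, pow_one])
          have hPy : IsPGroup 5 ↥(zpowers y) := IsPGroup.of_card (n := 1) (by rw [Nat.card_zpowers, hy, pow_one])
          obtain ⟨m, hm⟩ := (hPk.to_sup_of_normal_right' hPy hsk).exists_card_eq
          exfalso
          have hd := Subgroup.card_subgroup_dvd_card (zpowers k ⊔ zpowers y)
          rw [H.card, hm] at hd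
          have hm1 : m ≤ 1 := by
            by_contra hm1
            have : 25 ∣ 95040 := (show 5 ^ 2 ∣ 5 ^ m from pow_dvd_pow 5 (by omega)).trans hd
            norm_num at this
          have heq : zpowers y = zpowers k ⊔ zpowers y := Subgroup.eq_of_le_of_card_ge le_sup_right (by
            rw [hm, Nat.card_zpowers, hy]
            calc 5 ^ m ≤ 5 ^ 1 := Nat.pow_le_pow_right (by norm_num) hm1
              _ = 5 := by norm_num)
          exact hout (heq ▸ (le_sup_left : zpowers k ≤ _) (mem_zpowers k))
        rw [(cent_five H hy).1, Nat.card_zpowers, Nat.card_zpowers, hko, hy] at hmax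
        norm_num at hmax
      have hyk : zpowers y = zpowers k := zpowers_eq_of_order (by rw [Nat.card_zpowers, hy]) hko hin
      have hyv : v * y = y * v := by
        have : y ∈ K := (zpowers_le.2 hk) (hyk ▸ mem_zpowers y)
        exact (hKv y this).symm
      have hinv : y = y⁻¹ := by
        calc y = v * y * v⁻¹ := by rw [hyv, mul_inv_cancel_right]
          _ = (v * p * v⁻¹) ^ (orderOf p / 5) := by rw [conj_pow]
          _ = y⁻¹ := by rw [hconj, inv_pow]
      have : y ^ 2 = 1 := by rw [pow_two]; nth_rw 1 [hinv]; rw [inv_mul_cancel]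
      have := orderOf_dvd_of_pow_eq_one this
      rw [hy] at this
      norm_num at this
    have : K' ∈ Nat.divisors 10 := Nat.mem_divisors.2 ⟨hd, by norm_num⟩
    rw [show Nat.divisors 10 = {1, 2, 5, 10} by decide +kernel] at this
    simp only [Finset.mem_insert, Finset.mem_singleton] at this
    omega
  -- the remaining orders are four and eight
  have h4 : 4 ∣ orderOf p := by rcases hcases with e | e | e | e | e <;> rw [e] at h5 h11 ⊢ <;> norm_num at *
  have h2K : K' ∣ 64 := by
    have hd : K' ∣ 95040 := H.card ▸ Subgroup.card_subgroup_dvd_card K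
    have hno : ∀ r : ℕ, r.Prime → r ≠ 2 → ¬ r ∣ K' := fun r hr hr2 hrd => by
      haveI := Fact.mk hr
      obtain ⟨⟨k, hk⟩, hko⟩ := exists_prime_orderOf_dvd_card' (G := ↥K) r hrd
      rw [← Subgroup.orderOf_coe] at hko
      change orderOf k = r at hko
      have h4' : orderOf (p ^ (orderOf p / 4)) = 4 := orderOf_pow_orderOf_div (orderOf_pos p).ne' h4
      have hcop : Nat.Coprime r 4 := by
        rw [show (4 : ℕ) = 2 ^ 2 by norm_num]
        exact Nat.Coprime.pow_right 2 ((Nat.coprime_primes hr Nat.prime_two).2 hr2)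
      have ho := ((hKp k hk).pow_right (orderOf p / 4)).orderOf_mul_eq_mul_orderOf_of_coprime (by rw [hko, h4']; exact hcop)
      rw [hko, h4'] at ho
      have := order_mem H (k * p ^ (orderOf p / 4))
      rw [ho] at this
      simp only [List.mem_cons, List.not_mem_nil, or_false] at this
      have := hr.two_le
      omega
    have hcop : Nat.Coprime K' 1485 := Nat.coprime_of_dvd fun r hr hrK hr' => hno r hr (fun e => by
      rw [e] at hr'; norm_num at hr') hrK
    exact hcop.dvd_of_dvd_mul_right (show K' ∣ 64 * 1485 from hd)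
  have h2dvd := two_mul_dvd hvv C K inf_le_left hvC hvK hKv
  have hlist : ∀ i ∈ Nat.divisors 64, (2 * i ∣ 1440 → i ≤ 16) ∧ (2 * i ∣ 8640 → i ≤ 32) := by decide +kernel
  obtain ⟨b1, b2⟩ := hlist K' (Nat.mem_divisors.2 ⟨h2K, by norm_num⟩)
  rcases hC with e | e <;> rw [e] at horb hmul h2dvd
  · have := b1 h2dvd
    have h' : o * K' ≤ o * 16 := Nat.mul_le_mul_left o this
    omega
  · have := b2 h2dvd
    have h' : o * K' ≤ o * 32 := Nat.mul_le_mul_left o this
    omega

/-- The centraliser does not have index eleven. -/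
theorem IsFive.card_ne_8640 {u q : G} (h : IsFive u q) : Nat.card ↥(centralizer ({u} : Set G)) ≠ 8640 := by
  intro e
  haveI := isSimple H
  have hnc := not_comm H
  obtain ⟨huu, hu1⟩ := two_iff.1 h.two
  set C := centralizer ({u} : Set G) with hCd
  have h4 := four_dvd_moved hnc (α := G ⧸ C) huu
  have hqu : ∀ a : G ⧸ C, q • u • a = u • q • a := fun a => by rw [← mul_smul, ← mul_smul, h.comm]
  have hfix : ∀ a : G ⧸ C, q • a = a → u • a = a := by
    intro a ha
    obtain ⟨g, rfl⟩ := QuotientGroup.mk_surjective a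
    have hm : (q * g)⁻¹ * g ∈ C := QuotientGroup.eq.1 (show ((q * g : G) : G ⧸ C) = (g : G ⧸ C) from ha)
    have hg : (g * u * g⁻¹) * q = q * (g * u * g⁻¹) := by
      have hm' := mem_centralizer_singleton_iff.1 hm
      calc g * u * g⁻¹ * q = q * g * ((q * g)⁻¹ * g * u) * g⁻¹ * q := by group
        _ = q * g * (u * ((q * g)⁻¹ * g)) * g⁻¹ * q := by rw [hm']
        _ = q * (g * u * g⁻¹) := by group
    have hgu : g * u * g⁻¹ = u := h.unique H.toLocal ((MulEquiv.orderOf_eq (MulAut.conj g) u).trans h.two) hg
    show ((u * g : G) : G ⧸ C) = (g : G ⧸ C)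
    have hgC : g ∈ C := mem_centralizer_singleton_iff.2 (mul_inv_eq_iff_eq_mul.1 hgu)
    rw [QuotientGroup.eq]
    exact C.mul_mem (C.inv_mem (C.mul_mem (mem_centralizer_singleton_iff.2 rfl) hgC)) hgC
  have h5 : 5 ∣ {a : G ⧸ C | u • a ≠ a}.ncard := by
    refine dvd_ncard_of_moved (x := q) (k := 1) (by rw [pow_one, ← h.five, pow_orderOf_eq_one]) ?_ ?_
    · intro a ha hc
      refine ha (smul_left_cancel q ?_)
      rw [hqu]
      exact hc
    · intro a ha hc
      exact ha (hfix a hc)
  have h11 : Nat.card (G ⧸ C) = 11 := by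
    have := C.card_mul_index
    rw [e, H.card, Subgroup.index_eq_card] at this
    omega
  have hlt : {a : G ⧸ C | u • a ≠ a}.ncard < 11 := by
    rw [← h11, ← Set.ncard_univ]
    refine Set.ncard_lt_ncard ⟨Set.subset_univ _, fun hs => ?_⟩ (Set.toFinite _)
    refine hs (Set.mem_univ ((1 : G) : G ⧸ C)) ?_
    show ((u * 1 : G) : G ⧸ C) = _
    rw [QuotientGroup.eq, mul_one, mul_one]
    exact C.inv_mem (mem_centralizer_singleton_iff.2 rfl)
  have h0 : {a : G ⧸ C | u • a ≠ a}.ncard = 0 := by
    obtain ⟨i, hi⟩ := h4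
    obtain ⟨k, hk⟩ := h5
    omega
  have hne : C ≠ ⊤ := fun h' => by rw [h', Subgroup.card_top, H.card] at e; omega
  have hcore : C.normalCore = ⊥ := ((inferInstance : C.normalCore.Normal).eq_bot_or_eq_top).resolve_right
    fun h' => hne (top_le_iff.1 (h' ▸ C.normalCore_le))
  refine hu1 ((Subgroup.eq_bot_iff_forall _).1 hcore u ?_)
  rw [Subgroup.normalCore_eq_ker, MonoidHom.mem_ker]
  ext a
  by_contra hc
  have := (Set.ncard_eq_zero (Set.toFinite _)).1 h0
  exact this.le (show a ∈ {a : G ⧸ C | u • a ≠ a} from hc)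

end Cfsg.Lib.M12Nse
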